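import Cfsg.Agent.H74.ThB
/-! A representation of degree 248 of the presented Thompson group. -/
set_option maxRecDepth 1000000
set_option Elab.async false
set_option linter.unusedVariables false
namespace H74.ThT
open H73
open H71 (Tr nth evw linv gen maskL winv mkRule Sat)
theorem b_env : envOK mT PT.one 492032 CB (2 * 3) 11 = true := by decide +kernel
theorem b_rel0 : relsE mT 492032 CB 6 (maskL LB) Ths.R 0 [((.l 6),(.l 6)),((.l 7),(.l 7)),((.l 8),(.l 8)),((.l 9),(.l 9)),((.l 10),(.l 10)),((.l 6),(.m (.m (.l 7) (.l 6)) (.m (.m (.l 7) (.l 6)) (.l 7)))),((.l 6),(.m (.l 10) (.m (.l 6) (.l 10)))),((.l 7),(.m (.m (.l 8) (.l 7)) (.m (.m (.l 8) (.l 7)) (.l 8)))),((.l 7),(.m (.l 9) (.m (.l 7) (.l 9)))),((.l 7),(.m (.l 10) (.m (.l 7) (.l 10)))),((.l 6),(.s (.s (.m (.l 8) (.l 9))))),((.l 8),(.m (.l 10) (.m (.l 8) (.l 10)))),((.l 9),(.m (.m (.l 10)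 (.l 9)) (.m (.m (.l 10) (.l 9)) (.l 10))))] = true := by decide +kernel
theorem b_rel1 : relsE mT 492032 CB 6 (maskL LB) Ths.R 13 [((.l 7),(.m (.s (.s (.m (.m (.m (.l 10) (.l 9)) (.l 8)) (.l 7)))) (.m (.s (.m (.m (.m (.l 10) (.l 9)) (.l 8)) (.l 7))) (.m (.m (.m (.m (.l 10) (.l 9)) (.l 8)) (.l 7)) (.m (.m (.l 10) (.l 9)) (.l 8)))))),((.l 0),(.m (.s (.l 1)) (.s (.s (.l 1))))),((.l 1),(.m (.l 6) (.m (.l 1) (.l 6)))),((.l 1),(.m (.l 7) (.m (.l 1) (.l 7)))),((.l 1),(.m (.l 8) (.m (.l 1) (.l 8)))),((.l 0),(.m (.l 9) (.m (.l 1) (.l 9))))] = true := by decide +kernel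
theorem b_rel2 : relsE mT 492032 CB 6 (maskL LB) Ths.R 19 [((.l 10),(.m (.m (.l 1) (.s (.l 1))) (.m (.m (.l 10) (.l 0)) (.m (.l 0) (.m (.l 10) (.l 0)))))),((.l 2),(.s (.l 3))),((.l 3),(.m (.l 6) (.m (.l 3) (.l 6)))),((.l 3),(.m (.l 7) (.m (.l 3) (.l 7)))),((.l 3),(.m (.l 8) (.m (.l 3) (.l 8)))),((.l 3),(.m (.l 9) (.m (.l 3) (.l 9)))),((.l 3),(.m (.l 10) (.m (.l 3) (.l 10)))),((.l 3),(.m (.s (.l 0)) (.m (.l 3) (.l 1))))] = true := by decide +kernel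
theorem b_rel3 : relsE mT 492032 CB 6 (maskL LB) Ths.R 27 [((.l 4),(.m (.l 6) (.m (.l 8) (.l 5)))),((.l 5),(.m (.l 6) (.m (.l 5) (.l 6)))),((.l 5),(.m (.m (.l 8) (.l 5)) (.l 8))),((.l 5),(.m (.l 10) (.m (.l 5) (.l 10)))),((.l 9),(.m (.m (.m (.m (.l 5) (.l 9)) (.l 4)) (.l 10)) (.m (.l 9) (.m (.m (.m (.l 5) (.l 9)) (.l 4)) (.l 10))))),((.m (.l 5) (.m (.m (.m (.l 7) (.l 8)) (.l 6)) (.l 7))),(.m (.l 10) (.m (.m (.m (.m (.l 7) (.l 8)) (.l 6)) (.l 7)) (.l 5))))] = true := by decide +kernel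
theorem b_rel4 : relsE mT 492032 CB 6 (maskL LB) Ths.R 33 [((.m (.m (.m (.m (.m (.m (.m (.m (.l 9) (.l 5)) (.m (.l 9) (.l 7))) (.l 8)) (.l 6)) (.l 7)) (.l 9)) (.m (.l 4) (.m (.m (.l 9) (.l 7)) (.l 6)))) (.m (.m (.l 8) (.l 7)) (.m (.l 8) (.m (.l 10) (.m (.m (.m (.m (.m (.l 9) (.l 5)) (.m (.l 9) (.l 7))) (.l 8)) (.l 6)) (.l 7)))))),(.m (.l 4) (.l 10))),((.l 5),(.m (.l 3) (.m (.l 5) (.l 3))))] = true := by decide +kernel
theorem b_rel5 : relsE mT 492032 CB 6 (maskL LB) Ths.R 35 [((.m (.l 10) (.m (.m (.m (.s (.l 1)) (.l 5)) (.l 0)) (.l 0))),(.m (.m (.m (.m (.s (.l 1)) (.l 5)) (.l 0)) (.l 0)) (.l 10))),((.l 6),(.m (.s (.m (.l 4) (.l 0))) (.m (.m (.l 4) (.l 0)) (.l 8)))),((.l 6),(.m (.s (.m (.m (.l 5) (.l 1)) (.m (.l 4) (.l 0)))) (.m (.s (.m (.m (.l 5) (.l 1)) (.m (.l 4) (.l 0)))) (.l 8))))] = true := by decide +kernel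
theorem b_rel6 : relsE mT 492032 CB 6 (maskL LB) Ths.R 38 [((.m (.s (.m (.m (.m (.m (.l 9) (.s (.l 1))) (.l 4)) (.l 0)) (.l 0))) (.m (.m (.m (.m (.m (.l 9) (.s (.l 1))) (.l 4)) (.l 0)) (.l 0)) (.m (.m (.l 9) (.s (.l 1))) (.l 4)))),(.m (.m (.m (.l 6) (.m (.l 8) (.l 9))) (.m (.m (.l 8) (.l 9)) (.l 0))) (.m (.m (.m (.m (.m (.l 10) (.l 9)) (.m (.l 8) (.l 9))) (.l 10)) (.s (.l 1))) (.m (.l 1) (.m (.m (.m (.l 10) (.l 9)) (.m (.l 8) (.l 9))) (.l 10))))))] = true := by decide +kernel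
theorem b_E : Nat.beq (mT E E) E = true := by decide +kernel
theorem b_stab : stabL mT 492032 CB E [0,1,2,3,6,7,8,9,10] = true := by decide +kernel
noncomputable abbrev SB := (sysB PT PTok)
noncomputable def π := (exists_env SB (fun _ => rfl) b_env).choose
theorem hπ : ∀ l ∈ LB, SB.R (get2 492032 CB l) (π l) := fun l hl => (exists_env SB (fun _ => rfl) b_env).choose_spec.1 l ((by decide : ∀ l ∈ LB, l < 11) l hl)
theorem πi : ∀ l, π (linv 6 l) = (π l)⁻¹ := (exists_env SB (fun _ => rfl) b_env).choose_spec.2.2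
theorem satB : Sat 6 11 Ths.R π := ⟨πi, (exists_env SB (fun _ => rfl) b_env).choose_spec.2.1 11 le_rfl,
  RelsTo.all (RelsTo.step πi hπ (RelsTo.step πi hπ (RelsTo.step πi hπ (RelsTo.step πi hπ (RelsTo.step πi hπ (RelsTo.step πi hπ (RelsTo.step πi hπ RelsTo.zero b_rel0 (hi := 13) rfl) b_rel1 (hi := 19) rfl) b_rel2 (hi := 27) rfl) b_rel3 (hi := 33) rfl) b_rel4 (hi := 35) rfl) b_rel5 (hi := 38) rfl) b_rel6 (hi := 39) rfl) rfl⟩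
noncomputable def ρ := Ths.hom satB
theorem hρ : ∀ l ∈ LB, ρ (Ths.val l) = π l := hom_letters Ths.hv πi Ths.code (Ths.hom_val satB) (gs := [.s,.t,.u,.a,.b,.c,.d,.e]) (by decide +kernel)
noncomputable abbrev Pm := stabE (SB.ι.comp ρ) (SB.dec E) (idem_of_beq b_E)
theorem hP : (gen Ths.val LG).toSubmonoid ≤ Pm := stabL_spec hπ Ths.hv hρ _ b_stab (by decide) (by decide)
end H74.ThT
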