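/- Janko-four type groups: permutation and matrix computations for the trio subgroup and the
5- and 7-local structure. -/
import Cfsg.Agent.H74.J4F1
import Cfsg.Agent.H77.J4Tab

set_option autoImplicit false
set_option Elab.async false

open Cfsg H72 H50
open scoped Pointwise

namespace H74.J4

def cQ6 : List (ℕ × List ℕ) := [
  (4, [nat_lit 984818244535754528103549039458486304, nat_lit 976448692869377735270425038196672544, nat_lit 983548720921252936276249910206105632, nat_lit 965128854020860192151391391390468128, nat_lit 980224387687010295957922729495201824, nat_lit 963721886883755259286232606933354528, nat_lit 961365507626256404119956257276790816, nat_lit 972512676110088067912772961567868960]),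
  (0, [nat_lit 984818244535754528103549039458486304, nat_lit 70961312958146288193683039871075042, nat_lit 237116076252092615386195900911128017, nat_lit 610957654620063647451999179135534243, nat_lit 154048213725610726826635563622962734, nat_lit 735577844449709145731399745955477605, nat_lit 112498419363478465068426720085990401, nat_lit 29429271468893102754624345968411735])]

def cK2 : List (ℕ × List ℕ) := [
  (0, [nat_lit 984818244535754528103549039458486304, nat_lit 213544116694521395482379804357379106, nat_lit 93069887068176591486487411000610533, nat_lit 133957209610455425436733439181085745, nat_lit 712134666110206395136778470562399971, nat_lit 609347732213892138329415573376668727, nat_lit 17752432222706310823814301588032225, nat_lit 965259428216326356694571729209525422]),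
  (1, [nat_lit 984818244535754528103549039458486304, nat_lit 977058356712355062831575471803108800, nat_lit 46986323819515814371065204457299008, nat_lit 983301888771506235810551661388186784, nat_lit 70274138155684913414691444397029920, nat_lit 598667901473090117599097985130749024, nat_lit 104635944008825504642730242337179360]),
  (2, [nat_lit 984818244535754528103549039458486304, nat_lit 589985649391881466673287679861048352, nat_lit 130358344498287075436343399524275232])]

def cS3 : List (ℕ × List ℕ) := [
  (4, [nat_lit 984818244535754528103549039458486304, nat_lit 970499966350631336865513127433832480, nat_lit 253231017041087346060567263809590887]),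
  (0, [nat_lit 984818244535754528103549039458486304, nat_lit 403258162227127314597483010081542634])]

def cF20 : List (ℕ × List ℕ) := [
  (2, [nat_lit 984818244535754528103549039458486304, nat_lit 983192821839941870264555213785766944, nat_lit 982901070922086139036208232400000544, nat_lit 972506247496878984162261813182091296, nat_lit 964076906408836921303359015244546592, nat_lit 972832644612648094844086495551531552, nat_lit 963741915498838095993961972706560032, nat_lit 984491768181879077385224279518655008, nat_lit 974427977963062432370846565153623584, nat_lit 973135206459819183275216022251278368]),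
  (4, [nat_lit 984818244535754528103549039458486304, nat_lit 963721886883755259286232606933354528])]

def cDuo5 : List (ℕ × List ℕ) := [
  (0, [nat_lit 984818244535754528103549039458486304, nat_lit 5989235823820259689967313196876887]),
  (2, [nat_lit 984818244535754528103549039458486304, nat_lit 960989032109975946747421490072294496, nat_lit 962711646723258475431159553394581024, nat_lit 979527964176665278681632260208245280, nat_lit 963744844474786114794079330088573280, nat_lit 973812624035417255929671104509366304, nat_lit 973967199963420347106409558232650848, nat_lit 962620451397749418283633419990897184, nat_lit 962505893657650055653628986290215456, nat_lit 980779296560800727789886164321216544, nat_lit 974463552724517479375177929996945440, nat_lit 973851205678499617040512226884467744, nat_lit 974052033522137484993999843562402912, nat_lit 973949232498089464181811845759650912, nat_lit 976966223282282516134393614234595360, nat_lit 982969798073579384671965486991844384, nat_lit 973732161654043527315757653092016160, nat_lit 974009806151907074060720524242534496, nat_lit 972869154297279913360130052686654496, nat_lit 972875336724610447675476557745393184,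 nat_lit 971594099268302134235014375640515616, nat_lit 972650027458320462006947129934251104]),
  (7, [nat_lit 984818244535754528103549039458486304, nat_lit 963721886883755259286232606933354528, nat_lit 961365507626256404119956257276790816, nat_lit 982263874720840671902458440965458016, nat_lit 965128854020860192151391391390468128, nat_lit 984119561763958575832381385311127936, nat_lit 963913532997071066555539315919194208, nat_lit 979008623491454801267503409857595488, nat_lit 975040404220816356112862787300526176, nat_lit 983481666126588898558394622931929632, nat_lit 970444102890028641976639134950853248, nat_lit 980552469670263894627512266334439520, nat_lit 963482207516442104092264157535603008, nat_lit 981608346466273795867280301021104544, nat_lit 984765742883269521305132332757846112, nat_lit 966072073327469066329701841499621472, nat_lit 973155538184162725077981570853341824, nat_lit 962748228280292874606002587125779072, nat_lit 970572266456526010737048396265457792, nat_lit 963553279588183725816106461994551648, nat_lit 970490959100954490418734295804020928]),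
  (20, [nat_lit 984818244535754528103549039458486304, nat_lit 967600697780291846807044791899555936, nat_lit 980425273875224674650887549500393856, nat_lit 971141513381038588444747577580096032, nat_lit 956871523880909599078042962674944640, nat_lit 963750728208142542485621241447745856, nat_lit 970171237570145892231803800261954240, nat_lit 961935351352799257322979302249433760, nat_lit 984194634442532612801072814331922464, nat_lit 956863961219296388256674635827251744, nat_lit 971592197288139657587497535327045984, nat_lit 975437262621368423543399770187926016, nat_lit 984590979945310975020879706178291968, nat_lit 978318480669526499752119938773092960, nat_lit 963662538562024617197582942104750368, nat_lit 967686971634988285977962335759960160, nat_lit 971586259638688522372608164360783968, nat_lit 983379505353147344499201566214294048, nat_lit 979423934505918881782002512692644288, nat_lit 957213729074692793885360225444464992]),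
  (1, [nat_lit 984818244535754528103549039458486304, nat_lit 972486260454358232961618317679429920, nat_lit 980275103625608021941000511577983360, nat_lit 984412436150175987806146443457333344, nat_lit 963318556140863397811903308575705568, nat_lit 974432936020625256396139643168524480, nat_lit 971107096200163977166626905605343584, nat_lit 975245064304368208585074483696699552, nat_lit 973053716614814778424795538969332384, nat_lit 980396558666304083414724148241729856, nat_lit 984534154665523096336764613518461184, nat_lit 967496613680484022968852284777859584, nat_lit 965995754978043890378560812392483520, nat_lit 983113871003641356488064579161852320, nat_lit 970538895890535111353693714169268832, nat_lit 962223266402589344206627373201951168]),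
  (3, [nat_lit 984818244535754528103549039458486304, nat_lit 959546424091802735619329752133011488, nat_lit 966563559162285983679705819952908320])]

def cDuo7 : List (ℕ × List ℕ) := [
  (0, [nat_lit 984818244535754528103549039458486304, nat_lit 5989235823820259689967313196876887]),
  (2, [nat_lit 984818244535754528103549039458486304, nat_lit 960989032109975946747421490072294496, nat_lit 962711646723258475431159553394581024, nat_lit 979527964176665278681632260208245280, nat_lit 963744844474786114794079330088573280, nat_lit 973812624035417255929671104509366304, nat_lit 973967199963420347106409558232650848, nat_lit 962620451397749418283633419990897184, nat_lit 962505893657650055653628986290215456, nat_lit 980779296560800727789886164321216544, nat_lit 974463552724517479375177929996945440, nat_lit 973851205678499617040512226884467744, nat_lit 974052033522137484993999843562402912, nat_lit 973949232498089464181811845759650912, nat_lit 976966223282282516134393614234595360, nat_lit 982969798073579384671965486991844384, nat_lit 973732161654043527315757653092016160, nat_lit 974009806151907074060720524242534496, nat_lit 972869154297279913360130052686654496,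 nat_lit 972875336724610447675476557745393184, nat_lit 971594099268302134235014375640515616, nat_lit 972650027458320462006947129934251104]),
  (10, [nat_lit 984818244535754528103549039458486304, nat_lit 963721886883755259286232606933354528, nat_lit 961365507626256404119956257276790816, nat_lit 982263874720840671902458440965458016, nat_lit 965128854020860192151391391390468128, nat_lit 969021776205010034172381036535122016, nat_lit 983421097424607326160619026258430432, nat_lit 963913532997071066555539315919194208, nat_lit 971174468594225128903041074172627424, nat_lit 979008623491454801267503409857595488, nat_lit 983481666126588898558394622931929632, nat_lit 976730622025308573019622617589844448, nat_lit 971735727010568657313889554964973664, nat_lit 967600697780291846807044791899555936, nat_lit 968952448375845999787845024744573280, nat_lit 984683679202251656063076328997751072, nat_lit 984765742883269521305132332757846112, nat_lit 964806519802767165388298656713050208, nat_lit 972470848609386823006871622592596256, nat_lit 957478728632387204840864276407224672, nat_lit 968665231217180150598278900429982240]),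
  (16, [nat_lit 984818244535754528103549039458486304, nat_lit 972646334643299531276817558171846752, nat_lit 961330644218056499024621338745997792, nat_lit 956951325162554879838807956606192160, nat_lit 975640059973824261584930875182713376, nat_lit 962425932025836717446628027835713824, nat_lit 974394222122509349096603230276913536, nat_lit 959451406792695100653932515533883424, nat_lit 975728796061394828824764886276933728, nat_lit 977782509724006155565842514471979360, nat_lit 971573596786463084446708096435784032, nat_lit 962504455170696477031929680838724192, nat_lit 973054518210042674313238929715267616, nat_lit 976381588834410430929715346043799968, nat_lit 974297534443020310590209548881234560, nat_lit 965303820113905448435827208450738880, nat_lit 980905640801805499042931225184110720, nat_lit 984321324869319684017664638098442784, nat_lit 982251082544672643558577621061109952, nat_lit 961079649793594949185898690730363104]),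
  (1, [nat_lit 984818244535754528103549039458486304, nat_lit 980094943659187822525324126334323040, nat_lit 959466504901353660268434018626242944, nat_lit 979210277857683682841947879360268960, nat_lit 980552700384576265729720227443837216, nat_lit 971023584976980845930726803454462048, nat_lit 959968451597855124662187115405838976, nat_lit 979565081569474933154675407049132192, nat_lit 984311819474800449330075568315107456, nat_lit 980265476979712461059193129475443232, nat_lit 962388103046924393496979752375945792, nat_lit 959900154909956175919710837997668544, nat_lit 982887525783870753817371088425224672, nat_lit 984205910648314178762644146401937824, nat_lit 978086746379956919404984667708230240, nat_lit 973093815856933783337266658866137792]),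
  (3, [nat_lit 984818244535754528103549039458486304, nat_lit 972723311196690985536754345252128800, nat_lit 960708228356463539651157491033933856])]

def c24k : List (ℕ × List ℕ) := [
  (0, [nat_lit 984818244535754528103549039458486304, nat_lit 956302485175575353788796878166559809, nat_lit 1795248432537898728475572672376535, nat_lit 971431938377082726257258436989587566, nat_lit 956709441910203461498593497208492130, nat_lit 29911808450092068199315215539027318, nat_lit 974057202112988756680957033991677059, nat_lit 955813086204281395811444902721011788, nat_lit 955557817260096128103619662934711373, nat_lit 956060004251613512990648793416749327, nat_lit 27351306124892921817202320736437746, nat_lit 980256863258629062466918912785596651, nat_lit 959860425243765044153238750242637092, nat_lit 974874903386201550673508106712330888, nat_lit 30349198252825945662392193825507018, nat_lit 30473218794232668744756819640536240, nat_lit 978756370121781836640818270682843177, nat_lit 970438758371635958966111051613387271, nat_lit 959567600232431890355125744643320212, nat_lit 30512927340616218194711681459956085, nat_lit 955725168822094565349481435700548677,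 nat_lit 956135145147183689290575264277955667, nat_lit 983419766869304851972631517972742630, nat_lit 20227990225124654486213573922216113]),
  (2, [nat_lit 984818244535754528103549039458486304, nat_lit 977058854968975622562810327464550880, nat_lit 983076524404545643808995338756891680, nat_lit 967721396936434078623134476829823584, nat_lit 980383946532749750645232103575498112, nat_lit 969098863140915738540760857015105952, nat_lit 984812842809321298245740093142772192, nat_lit 666658295803505220557693933642301152, nat_lit 970521184449518870989422141981279680, nat_lit 973616044501371443764974705472356896, nat_lit 968746258339321613428474566777418272, nat_lit 684910636053178440011074257279192480, nat_lit 973931170949529072820469227817425056, nat_lit 977798031358452364663999708173571680, nat_lit 960982047693090084879531495375948064, nat_lit 977055845155974529730680084630066784, nat_lit 888173817758892419917628879147239136, nat_lit 393366823536938393503036317195390688, nat_lit 984730174532894753413807002929680480, nat_lit 983052247639456804835565957118631488, nat_lit 981718778314663255107855261723957696, nat_lit 440553635398235983233796725992339168,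 nat_lit 55426012800203771126674399221112320]),
  (17, [nat_lit 984818244535754528103549039458486304, nat_lit 969157477454347872828285825200949632, nat_lit 960988871240419306177878152039336352, nat_lit 966344121224369298045454880546130080, nat_lit 979463363627221264160457395023153760, nat_lit 688515934535672038044223549073918272, nat_lit 977794232130308057063058684666579360, nat_lit 976908723369818249215031592619477696, nat_lit 669244158084029489017851414452046016, nat_lit 965304133857734279443620543414536640, nat_lit 674417307137317091992369334780135840, nat_lit 68408056943075993058134214380292672, nat_lit 840125903230067433177976216938515008, nat_lit 957504972861757718560001657925109888, nat_lit 690861462048177928168021975838820736, nat_lit 893381379834576826456777326013516256, nat_lit 855719339329641920846330551158048896, nat_lit 971228431857379516745908318188964192, nat_lit 694032854561600418188464688621488416, nat_lit 522237960941143071621496360250345696, nat_lit 901041187399506224432905823389255904, nat_lit 417172662863023604152394924224481568]),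
  (23, [nat_lit 984818244535754528103549039458486304, nat_lit 680258598280545048873533333200014048, nat_lit 638109338370516397458375641912773344, nat_lit 187177938423129616537617472260999904, nat_lit 844682763606922635642421604930456064, nat_lit 592437114047137845322044215501425376, nat_lit 898412051343295864856717822016162528, nat_lit 226166161768092920977873413794564608, nat_lit 150758449357729972193129571627010560, nat_lit 552637475484786273330014595853060576, nat_lit 67142909723461671554320303248476288, nat_lit 384651044852255080550516512365316608, nat_lit 806404112627070369805240717770263264, nat_lit 352360007793350113741036624582019200, nat_lit 469505664633430087189016034144488064, nat_lit 308513997574715231623714654867753440, nat_lit 915372369638130396456633322715940992, nat_lit 269360040049264685378274628012214432, nat_lit 777185819776708773846453497834506912, nat_lit 526354147817275004428298116245096608, nat_lit 436949540076891268607450671896365504]),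
  (5, [nat_lit 984818244535754528103549039458486304, nat_lit 962661091107729330295477120015764032, nat_lit 968730432570796897862740642465777856, nat_lit 961487839624206250589142110436657536, nat_lit 967331981246492663577394998501607520, nat_lit 980337738427491663639835622146116000, nat_lit 982864188374946107813087832701176160, nat_lit 962284054185342694710480048910600704, nat_lit 963308422338809433568669240246012128, nat_lit 965000938900034699465000996641704640, nat_lit 984349989987233508525530931474500096, nat_lit 979333229317310444646686336976783712, nat_lit 980226872241322174893476193890404608, nat_lit 966544762795626692876326398429038720, nat_lit 973171111675092207018819833998510528, nat_lit 974029939991448013196998320645867840, nat_lit 969162549159760119439931371551950976, nat_lit 971791301210879237621134585757370624, nat_lit 978970161314356277007834657023494528, nat_lit 971700462418514950571006232438605984]),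
  (3, [nat_lit 984818244535754528103549039458486304, nat_lit 966511743221276233178028022598928480, nat_lit 963835620148026624058849992849263040]),
  (4, [nat_lit 984818244535754528103549039458486304, nat_lit 972512676110088067912772961567868960, nat_lit 970499966350631336865513127433832480, nat_lit 965128854020860192151391391390468128, nat_lit 971592882964418941354553515258775584, nat_lit 979121071158219704299181131031480352, nat_lit 980224387687010295957922729495201824, nat_lit 966182099583441531322624363496310816, nat_lit 968708902336673183175954409307867168, nat_lit 961365507626256404119956257276790816, nat_lit 967812279691448225500382947153381408, nat_lit 975346028712660580592452217730074656, nat_lit 976448692869377735270425038196672544, nat_lit 981818691054096003685363657089320992, nat_lit 963721886883755259286232606933354528, nat_lit 983548720921252936276249910206105632])]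

def k1 : ℕ := nat_lit 213544116694521395482379804357379106

def k2 : ℕ := nat_lit 93069887068176591486487411000610533

def r3 : ℕ := nat_lit 264323498285592686663672290958071399

def f3 : ℕ := nat_lit 589985649391881466673287679861048352

def f4 : ℕ := nat_lit 982901070922086139036208232400000544

def p5 : ℕ := nat_lit 983192821839941870264555213785766944

def p7 : ℕ := nat_lit 975387540323780653119804494238492704

def g4L : List ℕ := [nat_lit 984818244535754528103549039458486304, nat_lit 104630875893163424631744741215689760, nat_lit 984202951082164080105044112956360736, nat_lit 104140883248560439919906225354103840]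

def wsK : List (List ℕ) := [[], [0], [1], [0, 0], [1, 0], [0, 0, 0], [1, 0, 0], [0, 1, 0], [], [0, 0, 0, 0, 0, 1, 1], [1, 1, 0], [1, 1, 1, 1, 1, 0, 0], [1, 0, 1], [0, 1, 1, 0, 0, 1], [1, 1, 0, 1, 1, 0], [], [0, 1, 1, 0, 1, 0], [0, 0, 1, 0, 1, 1, 0]]

def M5 : List ℕ := [3148, 1156, 1282, 2563, 400, 736, 768, 256, 1410, 2755, 1424, 2784]

def M7 : List ℕ := [2563, 3841, 2248, 3148, 400, 736, 4092, 1364, 3370, 1599, 3605, 1834]

def comL : List (ℕ × ℕ) := [(nat_lit 965128854020860192151391391390468128, 3), (nat_lit 976448692869377735270425038196672544, 320), (nat_lit 976448692869377735270425038196672544, 2)]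

/-- `W9` is the kernel of `wA`, `Z3` the kernel of `zA`. -/
def wA : List ℕ := [0, 0, 0, 0, 0, 0, 3, 1, 3, 1, 0]
def zA : List ℕ := [1, 2, 4, 8, 6, 11, 16, 32, 64, 128, 0]
def wB : List ℕ := [1, 2, 4, 8, 16, 32, 1024, 320, 640]
def zB : List ℕ := [22, 43, 1024]
def vBs : List ℕ := [1, 2, 4, 8, 16, 32, 64, 128, 256, 512, 1024]
def zL : List ℕ := [0, 22, 43, 61, 1024, 1046, 1067, 1085]
def F5 : List ℕ := [0, 22, 43, 61, 77, 91, 102, 112, 134, 144, 173, 187, 203, 221, 224, 246]
def w5 : List ℕ := [1, 2, 3, 5, 3, 5]
def w7 : List ℕ := [1, 3, 4, 5]
/-- sixth power of a word. -/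
def six (w : List ℕ) : List ℕ := w ++ (w ++ (w ++ (w ++ (w ++ w))))

/-- the list `l` spans the kernel of `A`. -/
def Span (A l : List ℕ) : Prop :=
  (∀ m ∈ l, m < 2048) ∧ ∀ m < 2048, xorSel A m = 0 → ∃ c, xorSel l c = m

theorem span_w : Span wA wB := ⟨by decide, fun m hm h =>
  ⟨m % 64 + 64 * (m / 1024) + 128 * (m / 64 % 4), by revert m; decide +kernel⟩⟩
theorem span_z : Span zA zB := ⟨by decide, fun m hm h =>
  ⟨m / 2 % 2 * ((m + 1) % 2) + m / 4 % 2 * (m % 2) + 2 * (m % 2) + 4 * (m / 1024),
    by revert m; decide +kernel⟩⟩
theorem span_v : Span [] vBs := ⟨by decide, fun m hm _ => ⟨m, by revert m; decide +kernel⟩⟩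
theorem zA_iff : ∀ m < 2048, xorSel zA m = 0 ↔ m ∈ zL := by decide +kernel
theorem cnt_w : ((List.range 2048).filter fun m => Nat.beq (xorSel wA m) 0).length = 512 := by
  decide +kernel
theorem cnt_z : ((List.range 2048).filter fun m => Nat.beq (xorSel zA m) 0).length = 8 := by
  decide +kernel
theorem wA_lt (m : ℕ) : xorSel wA m < 4 := xorSel_lt' (k := 2) (by decide) m

theorem allIn_Tri {gs : List ℕ} (h : (gs.all inM24 &&
    gs.all fun s => Nat.beq (idxT (actT s tri0)) (idxT tri0)) = true) : AllIn Tri gs := by
  rw [Bool.and_eq_true] at h
  exact codT.allIn_stab le_rfl (allIn_M24 h.1) okT_tri0 h.2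

theorem tri_w : ∀ s ∈ gTri, ∀ m ∈ wB, xorSel wA (actV s m) = 0 := by decide +kernel
theorem tri_z : ∀ s ∈ gTri, ∀ m ∈ zB, xorSel zA (actV s m) = 0 := by decide +kernel

/-- `O₂` of the trio group. -/
noncomputable def Q6 : Subgroup P24 := genBy (cgens cQ6)
/-- the factors `L₃(2)` and `S₃` of a complement in the trio group. -/
noncomputable def K2 : Subgroup P24 := genBy (cgens cK2)
noncomputable def S3g : Subgroup P24 := genBy (cgens cS3)
/-- a Frobenius group of order 20. -/
noncomputable def F20 : Subgroup P24 := genBy (cgens cF20)

theorem cQ6_spec : Complete Q6 [] cQ6 ∧ Nat.card Q6 = prodLen cQ6 := ss_spec (by decide +kernel)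
theorem cK2_spec : Complete K2 [] cK2 ∧ Nat.card K2 = prodLen cK2 := ss_spec (by decide +kernel)
theorem cS3_spec : Complete S3g [] cS3 ∧ Nat.card S3g = prodLen cS3 := ss_spec (by decide +kernel)
theorem cF20_spec : Complete F20 [] cF20 ∧ Nat.card F20 = prodLen cF20 :=
  ss_spec (by decide +kernel)
theorem card_Q6 : Nat.card Q6 = 64 := cQ6_spec.2
theorem card_K2 : Nat.card K2 = 168 := cK2_spec.2
theorem card_S3g : Nat.card S3g = 6 := cS3_spec.2
theorem card_F20 : Nat.card F20 = 20 := cF20_spec.2

theorem Tri_le : Tri ≤ M24 := inf_le_left
theorem Q6_le : Q6 ≤ Tri :=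
  genBy_le fun s hs => (allIn_Tri (gs := cgens cQ6) (by decide +kernel) s hs).2
theorem K2_le : K2 ≤ Tri :=
  genBy_le fun s hs => (allIn_Tri (gs := cgens cK2) (by decide +kernel) s hs).2
theorem S3g_le : S3g ≤ Tri :=
  genBy_le fun s hs => (allIn_Tri (gs := cgens cS3) (by decide +kernel) s hs).2
theorem F20_le : F20 ≤ M24 :=
  genBy_le fun s hs => (allIn_M24 (gs := cgens cF20) (by decide +kernel) s hs).2

theorem Q6_conj {c q : P24} (hc : c ∈ Tri) (hq : q ∈ Q6) : c * q * c⁻¹ ∈ Q6 :=
  normChk_spec cQ6_spec.1 (gC := gTri) (fun s hs => (gTri_mem s hs).1) (by decide +kernel) c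
    (Tri_eq ▸ hc) q hq

theorem Q6_spec {g : P24} (hg : g ∈ Q6) : ∃ s, valid s = true ∧ toPerm s = g ∧ g * g = 1 ∧
    (∀ m ∈ vBs, xorSel wA (Nat.xor (actV s m) m) = 0) ∧
    (∀ m ∈ wB, xorSel zA (Nat.xor (actV s m) m) = 0) ∧ (∀ m ∈ zB, actV s m = m) ∧
    (g = 1 ∨ ((∃ m ∈ wB, actV s m ≠ m) ∧ g * toPerm k1 ≠ toPerm k1 * g)) := by
  obtain ⟨s, vs, ls, rfl, h⟩ := forall_elems cQ6_spec.1 (R := fun s => Nat.beq (mulP s s) idP &&
    decide (∀ m ∈ vBs, xorSel wA (Nat.xor (actV s m) m) = 0) &&
    decide (∀ m ∈ wB, xorSel zA (Nat.xor (actV s m) m) = 0) && decide (∀ m ∈ zB, actV s m = m) &&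
    (Nat.beq s idP || (decide (∃ m ∈ wB, actV s m ≠ m) && !(intw k1 k1 s))))
    (by decide +kernel) hg
  simp only [Bool.and_eq_true, Bool.or_eq_true, decide_eq_true_eq, Bool.not_eq_true'] at h
  obtain ⟨⟨⟨⟨h1, h2⟩, h3⟩, h4⟩, h5⟩ := h
  refine ⟨s, vs, rfl, ?_, h2, h3, h4, h5.imp (beq_idP_iff vs ls).1 fun h => ⟨h.1, fun e => ?_⟩⟩
  · rw [← toPerm_mulP vs vs]
    exact (beq_idP_iff (valid_mulP vs vs) (mulP_lt _ _)).1 h1
  · have := (intw_iff (x := k1) (y := k1) (by decide +kernel) (by decide +kernel) vs).2 e
    rw [h.2] at this
    exact Bool.false_ne_true this

theorem Q6_fix : ∀ m < 2048, xorSel wA m = 0 → (∀ s ∈ cgens cQ6, actV s m = m) →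
    xorSel zA m = 0 := by decide +kernel

theorem comL_spec : ∀ m ∈ zB, ∃ p ∈ comL, p.1 ∈ cgens cQ6 ∧ p.2 < 2048 ∧ xorSel wA p.2 = 0 ∧
    Nat.xor (actV p.1 p.2) p.2 = m := by decide +kernel

theorem g1_U : ∀ m < 64, xorSel mG1 m = Nat.xor (xorSel mG1 m % 64) (64 * (xorSel mG1 m / 64)) ∧
    xorSel mG1 m / 64 < 64 ∧ sift cQ6 (H77.J4.qF (xorSel mG1 m / 64)) = true := by decide +kernel

theorem tri_span : actV (gTri.getD 1 0) 5 = Nat.xor 320 26 ∧
    actV (gTri.getD 1 0) 4 = Nat.xor 640 (Nat.xor 49 1024) := by decide +kernel

theorem pg1_not_mem : toPerm pg1 ∉ Hex := by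
  rw [Hex_eq_stabM, ← inStab_iff (by decide) valid_pg1]
  decide +kernel

theorem g4L_spec : AllIn M24 g4L ∧ (∀ s ∈ g4L, actV s 1024 = 1024 ∧ actV s 22 = 22) ∧
    ∀ m ∈ [43, 61, 1067, 1085], ∃ s ∈ g4L, actV s 43 = m :=
  ⟨allIn_M24 (by decide +kernel), by decide +kernel, by decide +kernel⟩

/-- action of the generators on the codes `m + 4096 i` of the elements `σ m * z ^ i`. -/
def actE (s c : ℕ) : ℕ := force (Nat.mod c 4096) fun m => cond (Nat.beq s 6)
  (Nat.add m (Nat.mul 4096 (Nat.xor (Nat.xor (gam 64 m) (gam m 64)) (Nat.div c 4096))))
  (Nat.add (xorSel (gens0M.getD s []) m) (Nat.mul 4096 (Nat.div c 4096)))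

theorem bfs22 : bfs actE id [0, 1, 2, 3, 4, 5, 6] (fun _ => true) (fun n _ => Nat.beq n 1386)
    1387 22 = true := by decide +kernel

/-! ### elements of order seven and three in the trio group -/

theorem k1_mem : inM24 k1 = true := by decide +kernel
theorem k2_mem : inM24 k2 = true := by decide +kernel
theorem valid_k1 : valid k1 = true := (inM24_spec k1_mem).1
theorem valid_k2 : valid k2 = true := (inM24_spec k2_mem).1
theorem k1_K2 : toPerm k1 ∈ K2 := mem_of_sift cK2_spec.1.allIn valid_k1 (by decide +kernel)
theorem k2_K2 : toPerm k2 ∈ K2 := mem_of_sift cK2_spec.1.allIn valid_k2 (by decide +kernel)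
theorem orderOf_k1 : orderOf (toPerm k1) = 7 := orderOf_toPerm (by norm_num) (by decide +kernel)
theorem orderOf_k2 : orderOf (toPerm k2) = 7 := orderOf_toPerm (by norm_num) (by decide +kernel)
theorem K2_word : ∀ s ∈ cgens cK2, ∃ w ∈ wsK, wdP [k1, k2] w = s := by decide +kernel

theorem K2_faith {g : P24} (hg : g ∈ K2) : ∃ s, valid s = true ∧ toPerm s = g ∧
    (g = 1 ∨ ∃ m ∈ zB, actV s m ≠ m) := by
  obtain ⟨s, vs, ls, rfl, h⟩ := forall_elems cK2_spec.1 (R := fun s =>
    Nat.beq s idP || decide (∃ m ∈ zB, actV s m ≠ m)) (by decide +kernel) hg
  simp only [Bool.or_eq_true, decide_eq_true_eq] at h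
  exact ⟨s, vs, rfl, h.imp (beq_idP_iff vs ls).1 id⟩

theorem k1_trans : ∀ m ∈ zL, m = 0 ∨ ∃ i < 7, actV (powP k1 i) 1024 = m := by decide +kernel
theorem k1_fix : ∀ m < 2048, actV k1 m = m ↔ m ∈ [0, 64, 447, 511] := by decide +kernel
theorem cnt_k1 : ((List.range 2048).filter fun m => memL m [0, 64, 447, 511]).length = 4 := by
  decide +kernel

theorem f3_mem : inM24 f3 = true := by decide +kernel
theorem f3_conj : toPerm f3 * toPerm k1 * (toPerm f3)⁻¹ = toPerm k1 ^ 2 := by
  rw [mul_inv_eq_iff_eq_mul, ← (powP_spec valid_k1 2).2]
  exact (intw_iff valid_k1 (powP_spec valid_k1 2).1 (inM24_spec f3_mem).1).1 (by decide +kernel)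

theorem S3g_spec {g : P24} (hg : g ∈ S3g) : ∃ s, valid s = true ∧ toPerm s = g ∧
    g * toPerm k1 = toPerm k1 * g ∧ (∀ m ∈ zB, actV s m = m) ∧
    (g = 1 ∨ ∃ m ∈ vBs, xorSel wA (Nat.xor (actV s m) m) ≠ 0) := by
  obtain ⟨s, vs, ls, rfl, h⟩ := forall_elems cS3_spec.1 (R := fun s => intw k1 k1 s &&
    decide (∀ m ∈ zB, actV s m = m) &&
    (Nat.beq s idP || decide (∃ m ∈ vBs, xorSel wA (Nat.xor (actV s m) m) ≠ 0)))
    (by decide +kernel) hg
  simp only [Bool.and_eq_true, Bool.or_eq_true, decide_eq_true_eq] at h
  exact ⟨s, vs, rfl, (intw_iff valid_k1 valid_k1 vs).1 h.1.1, h.1.2,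
    h.2.imp (beq_idP_iff vs ls).1 id⟩

theorem r3_mem : valid r3 = true ∧ toPerm r3 ∈ Tri :=
  allIn_Tri (gs := [r3]) (by decide +kernel) r3 (by simp)
theorem r3_move : ∀ m < 2048, xorSel wA m ≠ 0 →
    xorSel wA (actV r3 m) ≠ 0 ∧ xorSel wA (actV r3 m) ≠ xorSel wA m := by decide +kernel

theorem c24k_ok : Complete M24 [] c24k :=
  complete_nil (allIn_M24 (by decide +kernel)) (by rw [card_M24]; decide +kernel)

theorem norm_k1 {g : P24} (hg : g ∈ M24) {i : ℕ} (hi : i < 7) (h0 : i ≠ 0)
    (h : g * toPerm k1 = toPerm k1 ^ i * g) : i ∈ ({1, 2, 4} : Finset ℕ) ∧
      ∃ s, valid s = true ∧ toPerm s = g ∧ ∀ m ∈ zB, xorSel zA (actV s m) = 0 := by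
  have key : ∀ i < 7, i ≠ 0 → (btList (keepC k1 (powP k1 i)) (intw k1 (powP k1 i)) c24k [] idP
      []).all (fun s => decide (i ∈ ({1, 2, 4} : Finset ℕ)) &&
        decide (∀ m ∈ zB, xorSel zA (actV s m) = 0)) = true := by decide +kernel
  rw [← (powP_spec valid_k1 i).2] at h
  obtain ⟨s, vs, -, rfl, hs⟩ := bt_all (keepOK_C valid_k1 (powP_spec valid_k1 i).1) _ _ c24k_ok
    (key i hi h0) hg h
  have := hs ((intw_iff valid_k1 (powP_spec valid_k1 i).1 vs).2 h)
  simp only [Bool.and_eq_true, decide_eq_true_eq] at this
  exact ⟨this.1, s, vs, rfl, this.2⟩

/-! ### elements of order five and seven in the duad group -/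

theorem w5_eq : wdP gens0P (six w5) = p5 ∧ wdM 12 gens0M (six w5) = M5 ∧
    powP (wdP gens0P w5) 5 = idP := by decide +kernel
theorem w7_eq : wdP gens0P (six w7) = p7 ∧ wdM 12 gens0M (six w7) = M7 ∧
    powP (wdP gens0P w7) 7 = idP := by decide +kernel
theorem p5_mem : valid p5 = true ∧ toPerm p5 ∈ Duo :=
  allIn_Duo (gs := [p5]) (by decide +kernel) p5 (by simp)
theorem p7_mem : valid p7 = true ∧ toPerm p7 ∈ Duo :=
  allIn_Duo (gs := [p7]) (by decide +kernel) p7 (by simp)
theorem orderOf_p5 : orderOf (toPerm p5) = 5 := orderOf_toPerm (by norm_num) (by decide +kernel)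
theorem orderOf_p7 : orderOf (toPerm p7) = 7 := orderOf_toPerm (by norm_num) (by decide +kernel)
theorem M5_fix : ∀ m < 4096, xorSel M5 m = m ↔ m ∈ F5 :=
  H77.J4.ball64 (by decide +kernel)
theorem cnt_F5 : ((List.range 4096).filter fun m => memL m F5).length = 16 := by decide +kernel
theorem M7_fix : ∀ m < 4096, xorSel M7 m = m → m = 0 := H77.J4.ball64 (by decide +kernel)
theorem F5_cls : ∀ m ∈ F5, m ∈ [0, 22, 43, 61] ∨ gam m m = 1 ∨ H77.J4.fo m ≠ 0 := by
  decide +kernel
theorem F5_cent : ∀ m ∈ F5, gam m 22 = gam 22 m → gam m 43 = gam 43 m → m ∈ [0, 22, 43, 61] := by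
  decide +kernel
theorem cnt_p5 : ((List.range 2048).filter fun m => Nat.beq (actV p5 m) m).length = 8 := by
  decide +kernel

theorem cDuo5_ok : Complete Duo [] cDuo5 :=
  complete_nil (allIn_Duo (by decide +kernel)) (by rw [card_Duo]; decide +kernel)
theorem cDuo7_ok : Complete Duo [] cDuo7 :=
  complete_nil (allIn_Duo (by decide +kernel)) (by rw [card_Duo]; decide +kernel)

theorem card_cent_p5 : Nat.card ↥(Duo ⊓ Subgroup.centralizer {toPerm p5}) ≤ 10 :=
  (card_le_bt (keepOK_C p5_mem.1 p5_mem.1) (intw p5 p5) (by simp) cDuo5_ok
    (Duo ⊓ Subgroup.centralizer {toPerm p5})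
    (fun _ hg => ⟨by rw [pstab_nil]; exact hg.1, Subgroup.mem_centralizer_singleton_iff.1 hg.2⟩)
    fun _ vz hz => (intw_iff p5_mem.1 p5_mem.1 vz).2
      (Subgroup.mem_centralizer_singleton_iff.1 hz.2)).trans (le_of_eq (by decide +kernel))

theorem card_cent_p7 : Nat.card ↥(Duo ⊓ Subgroup.centralizer {toPerm p7}) ≤ 14 :=
  (card_le_bt (keepOK_C p7_mem.1 p7_mem.1) (intw p7 p7) (by simp) cDuo7_ok
    (Duo ⊓ Subgroup.centralizer {toPerm p7})
    (fun _ hg => ⟨by rw [pstab_nil]; exact hg.1, Subgroup.mem_centralizer_singleton_iff.1 hg.2⟩)
    fun _ vz hz => (intw_iff p7_mem.1 p7_mem.1 vz).2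
      (Subgroup.mem_centralizer_singleton_iff.1 hz.2)).trans (le_of_eq (by decide +kernel))

theorem cent22_p5 {g : P24} (hg : g ∈ Spor.M22) (h : g * toPerm p5 = toPerm p5 * g) :
    ∃ i : ℕ, g = toPerm p5 ^ i := by
  obtain ⟨s, vs, -, rfl, hs⟩ := bt_all (keepOK_C p5_mem.1 p5_mem.1) (intw p5 p5)
    (fun s => !(Nat.beq (ap s 0) 0) || decide (∃ i ∈ List.range 5, s = powP p5 i)) cDuo5_ok
    (by decide +kernel) (M22_le_Duo hg) h
  have h1 := hs ((intw_iff p5_mem.1 p5_mem.1 vs).2 h)
  have h2 := (mem_M22_of_Duo (M22_le_Duo hg)).1 hg
  rw [toPerm_pt vs (by norm_num)] at h2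
  have h3 : ap s 0 = 0 := pt_inj (ap_lt vs (by norm_num)) (by norm_num) h2
  rw [h3] at h1
  simp only [Nat.beq_refl, Bool.not_true, Bool.false_or, decide_eq_true_eq] at h1
  obtain ⟨i, -, e⟩ := h1
  exact ⟨i, by rw [e, (powP_spec p5_mem.1 i).2]⟩

theorem p5_F20 : toPerm p5 ∈ F20 := mem_of_sift cF20_spec.1.allIn p5_mem.1 (by decide +kernel)

theorem F20_spec {g : P24} (hg : g ∈ F20) : (∃ i : ℕ, g * toPerm p5 * g⁻¹ = toPerm p5 ^ i) ∧
    (g * toPerm p5 = toPerm p5 * g → ∃ i : ℕ, g = toPerm p5 ^ i) := by
  obtain ⟨s, vs, -, rfl, h⟩ := forall_elems cF20_spec.1 (R := fun s =>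
    decide (∃ i ∈ List.range 5, intw p5 (powP p5 i) s = true) &&
      (!(intw p5 p5 s) || decide (∃ i ∈ List.range 5, s = powP p5 i))) (by decide +kernel) hg
  simp only [Bool.and_eq_true, Bool.or_eq_true, decide_eq_true_eq, Bool.not_eq_true'] at h
  obtain ⟨⟨i, -, h1⟩, h2⟩ := h
  refine ⟨⟨i, ?_⟩, fun e => ?_⟩
  · rw [mul_inv_eq_iff_eq_mul, ← (powP_spec p5_mem.1 i).2]
    exact (intw_iff p5_mem.1 (powP_spec p5_mem.1 i).1 vs).1 h1
  · rw [(intw_iff p5_mem.1 p5_mem.1 vs).2 e] at h2
    obtain ⟨j, -, e⟩ := h2.resolve_left (by simp)
    exact ⟨j, by rw [e, (powP_spec p5_mem.1 j).2]⟩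

theorem f4_mem : inM24 f4 = true := by decide +kernel
theorem f4_conj : toPerm f4 * toPerm p5 * (toPerm f4)⁻¹ = toPerm p5 ^ 2 := by
  rw [mul_inv_eq_iff_eq_mul, ← (powP_spec p5_mem.1 2).2]
  exact (intw_iff p5_mem.1 (powP_spec p5_mem.1 2).1 (inM24_spec f4_mem).1).1 (by decide +kernel)

end H74.J4
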