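import Cfsg.Agent.H74.O8Kit
import Cfsg.Agent.H46.Coprime

/-! Second kit for the tower O8: elements of order 3 acting on 2-subgroups. -/

set_option autoImplicit false

namespace H74.O8

open Cfsg Subgroup H98 H74.OC
open scoped commutatorElement

universe u

variable {G : Type u} [Group G] [Finite G]


omit [Finite G] in
theorem cen_zp (y : G) : centralizer (zpowers y : Set G) = centralizer ({y} : Set G) := by
  rw [zpowers_eq_closure, centralizer_closure]

omit [Finite G] in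
theorem p3 {y : G} (hy : orderOf y = 3) : IsPGroup 3 (zpowers y) :=
  isPGroup_zpowers (k := 1) (by rw [pow_one, ← hy, pow_orderOf_eq_one])

/-- A coset fixed by an element of order 3 contains a fixed element. -/
theorem lift_fix {W : Subgroup G} (hW : IsPGroup 2 W) {y x : G} (hy : orderOf y = 3)
    (hn : y ∈ normalizer (W : Set G)) (h : y * x * y⁻¹ * x⁻¹ ∈ W) :
    ∃ n ∈ W, n * x ∈ centralizer ({y} : Set G) := by
  rw [← cen_zp]
  refine exists_mul_mem_centralizer (p3 hy) (not_dvd_card_of_isPGroup_ne Nat.prime_three (by norm_num) hW)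
    (zpowers_le.2 hn) fun a ha => ?_
  obtain ⟨k, rfl⟩ := (mem_powers_iff_mem_zpowers).2 ha
  induction k with
  | zero => simp
  | succ k ih =>
    have := mul_mem (conj_mem_of_mem_normalizer hn (ih (pow_mem (mem_zpowers y) k))) h
    rw [commutatorElement_def] at this ⊢
    convert this using 1
    simp only [pow_succ']
    group

theorem ord3 (h : Sp 8 G) {A : Subgroup G} (hA : Nat.card A = 9) {a : G} (ha : a ∈ A) (h1 : a ≠ 1) :
    orderOf a = 3 :=
  orderOf_eq_prime (exp3 h (k := 2) (orderOf_dvd_iff_pow_eq_one.1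
    ((A.orderOf_dvd_natCard ha).trans (by rw [hA]; rfl)))) h1

/-- A 2-group is generated by the fixed points of the nonidentity elements of a group of order 9. -/
theorem gen9 (h : Sp 8 G) {A W L : Subgroup G} (hA : Nat.card A = 9) (hW : IsPGroup 2 W)
    (hn : A ≤ normalizer (W : Set G))
    (hL : ∀ a ∈ A, orderOf a = 3 → W ⊓ centralizer ({a} : Set G) ≤ L) : W ≤ L := by
  refine H46.coprime_abelian_gen_cent1 (IsPGroup.isMulCommutative_of_card_eq_prime_sq (p := 3) hA)
    (fun c => ?_) hn ?_ fun a ha h1 => hL a ha (ord3 h hA ha h1)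
  · obtain ⟨g, hg⟩ := c.exists_ofOrder_eq_natCard
    have := h g
    rw [orderOf_coe, hg, hA] at this
    omega
  · obtain ⟨n, e⟩ := hW.exists_card_eq
    rw [hA, e]
    exact Nat.Coprime.pow_right n (by norm_num)

/-- The fixed points of a group of order 9 are central. -/
theorem cent9 (h : Sp 8 G) {A W : Subgroup G} (hA : Nat.card A = 9) (hW : IsPGroup 2 W)
    (hn : A ≤ normalizer (W : Set G)) : W ⊓ centralizer (A : Set G) ≤ oz 2 W := by
  obtain ⟨a, a1⟩ := ne_bot_iff_exists_ne_one.1 (show A ≠ ⊥ by rintro rfl; simp at hA)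
  have k : ∀ b ∈ A, W ⊓ centralizer (A : Set G) ≤ W ⊓ centralizer ({b} : Set G) := fun b hb =>
    inf_le_inf_left _ (centralizer_le (Set.singleton_subset_iff.2 hb))
  refine le_oz (H12.ea_mono (el3 h (ord3 h hA a.2 fun e => a1 (Subtype.ext e))
    (hW.to_le inf_le_left) inf_le_right) (k a a.2)) inf_le_left (le_centralizer_iff.1 ?_)
  exact gen9 h hA hW hn fun b hb o => (H12.ea_le_centralizer
    (el3 h o (hW.to_le inf_le_left) inf_le_right)).trans (centralizer_anti (k b hb))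

theorem card9 {y v : G} (hy : orderOf y = 3) (hv : orderOf v = 3) (hc : y * v = v * y)
    (hn : y ∉ zpowers v) : Nat.card ↥(zpowers y ⊔ zpowers v) = 9 := by
  have i : zpowers y ⊓ zpowers v = ⊥ :=
    (eq_or_eq_of_card Nat.prime_three bot_le inf_le_left (by
      rw [Nat.card_zpowers, hy, card_bot])).resolve_right fun e => hn (e.ge (mem_zpowers y)).2
  have c : zpowers y ≤ normalizer (zpowers v : Set G) := zpowers_le.2 (centralizer_le_normalizer _ (by
    rw [cen_zp]; exact mem_centralizer_singleton_iff.2 hc))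
  have := H46.card_sup_mul_card_inf c
  rwa [sup_comm, inf_comm, i, card_bot, mul_one, Nat.card_zpowers, Nat.card_zpowers, hy, hv] at this

theorem mod3_of_mod5 {n k : ℕ} (h : n = 2 ^ k) (h5 : n ≡ 1 [MOD 5]) : n ≡ 1 [MOD 3] := by
  rw [h, ← Nat.div_add_mod k 4, pow_add, pow_mul] at h5 ⊢
  have a : (2 ^ 4) ^ (k / 4) ≡ 1 [MOD 5] := by simpa using Nat.ModEq.pow (k / 4) (show 2 ^ 4 ≡ 1 [MOD 5] by decide)
  have b : (2 ^ 4) ^ (k / 4) ≡ 1 [MOD 3] := by simpa using Nat.ModEq.pow (k / 4) (show 2 ^ 4 ≡ 1 [MOD 3] by decide)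
  have c := (a.mul_right (2 ^ (k % 4))).symm.trans h5
  refine (b.mul_right _).trans ?_
  have : k % 4 < 4 := Nat.mod_lt _ (by norm_num)
  interval_cases k % 4 <;> simp_all +decide

/-- An element of order 3 fixes two cosets of a subgroup of index 5. -/
theorem other5 {B M : Subgroup G} (hB : B ≤ M) (hc : Nat.card M = 5 * Nat.card B) {y : G} (hm : y ∈ M)
    (hy : orderOf y = 3) : ∃ g ∈ M, g ∉ B ∧ g⁻¹ * y * g ∈ B := by
  have i5 : Nat.card (M ⧸ B.subgroupOf M) = 5 := Nat.eq_of_mul_eq_mul_right (Nat.card_pos (α := B)) (by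
    rw [← hc, ← index_mul_card (B.subgroupOf M), Nat.card_congr (subgroupOfEquivOfLe hB).toEquiv]; rfl)
  have e := (p3 (y := (⟨y, hm⟩ : M)) (by rw [← orderOf_coe, hy])).card_modEq_card_fixedPoints
    (M ⧸ B.subgroupOf M)
  by_contra r
  push Not at r
  have : Nat.card (MulAction.fixedPoints (zpowers (⟨y, hm⟩ : M)) (M ⧸ B.subgroupOf M)) ≤ 1 := by
    refine Finite.card_le_one_iff_subsingleton.2 ⟨?_⟩
    have k : ∀ x : MulAction.fixedPoints (zpowers (⟨y, hm⟩ : M)) (M ⧸ B.subgroupOf M),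
        x.1 = ((1 : M) : M ⧸ B.subgroupOf M) := by
      rintro ⟨x, hx⟩
      induction x using QuotientGroup.induction_on with | H g => ?_
      have a : (((⟨y, hm⟩ : M) * g : M) : M ⧸ B.subgroupOf M) = g := hx ⟨_, mem_zpowers _⟩
      have b : (g : G)⁻¹ * y * g ∈ B := by
        simpa [mem_subgroupOf, mul_assoc] using QuotientGroup.eq.1 a.symm
      refine QuotientGroup.eq.2 ?_
      simpa [mem_subgroupOf] using by_contra fun n => r g g.2 n b
    exact fun a b => Subtype.ext ((k a).trans (k b).symm)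
  rw [i5, Nat.ModEq] at e
  omega

namespace S3T

variable {S H W : Subgroup G}

theorem mul_inv_mem (h : S3T S H W) {s t : G} (hs : s ∈ S) (ht : t ∈ S) (hs' : s ∉ W) (ht' : t ∉ W) :
    s * t⁻¹ ∈ W := by
  have i2 : (W.subgroupOf S).index = 2 := Nat.eq_of_mul_eq_mul_right (Nat.card_pos (α := W)) (by
    rw [← h.c1, ← index_mul_card (W.subgroupOf S), Nat.card_congr (subgroupOfEquivOfLe h.le1).toEquiv])
  exact (mul_mem_iff_of_index_two i2 (a := ⟨s, hs⟩) (b := ⟨t, ht⟩⁻¹)).2
    (iff_of_false hs' fun e => ht' (inv_mem_iff.1 e))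

theorem exs (h : S3T S H W) : ∃ s ∈ S, s ∉ W :=
  SetLike.not_le_iff_exists.1 fun e => h.nn (le_antisymm e h.le1 ▸ h.nor)

theorem supW (h : S3T S H W) {s : G} (hs : s ∈ S) (hs' : s ∉ W) : W ⊔ zpowers s = S :=
  (h.ovr' le_sup_left (sup_le h.le1 (zpowers_le.2 hs))).resolve_left fun e =>
    hs' (e.le (mem_sup_right (mem_zpowers s)))

/-- An element of order 3 normalising `S` and `H` has fixed points outside `W`. -/
theorem fix (h : S3T S H W) (hs : Sp 8 G) {y : G} (hy : orderOf y = 3) (h1 : y ∈ normalizer (S : Set G))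
    (h2 : y ∈ normalizer (H : Set G)) : (∃ q ∈ S, q ∉ W ∧ q ∈ centralizer ({y} : Set G)) ∧
      ∃ v ∈ H, orderOf v = 3 ∧ v ∈ centralizer ({y} : Set G) := by
  have yW : y ∈ normalizer (W : Set G) := h.core_eq ▸ normalizer_le_normalizer_pCoreOf H h2
  refine ⟨?_, ?_⟩
  · obtain ⟨s, a, b⟩ := h.exs
    obtain ⟨n, c, d⟩ := lift_fix h.twoW hy yW (h.mul_inv_mem (conj_mem_of_mem_normalizer h1 a) a
      (fun e => b (by simpa [mul_assoc] using conj_mem_of_mem_normalizer' yW e)) b)
    exact ⟨_, mul_mem (h.le1 c) a, fun e => b ((mul_mem_cancel_left c).1 e), d⟩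
  obtain ⟨f, -, k⟩ := h.iso
  have m : ∀ a : H, f a = 1 ↔ (a : G) ∈ W := fun a => by rw [← MonoidHom.mem_ker, k, mem_subgroupOf]
  obtain ⟨x, hx, o⟩ := h.ex3
  have x3 : x ^ 3 = 1 := o ▸ pow_orderOf_eq_one x
  have y3 : y ^ 3 = 1 := hy ▸ pow_orderOf_eq_one y
  have nx : x ∉ W := fun e => h.not_mem o (h.le1 e)
  have hx1 := conj_mem_of_mem_normalizer h2 hx
  have hx2 := conj_mem_of_mem_normalizer h2 hx1
  have key : ∀ a b c : Equiv.Perm (Fin 3), a ≠ 1 → a ^ 3 = 1 → b ≠ 1 → b ^ 3 = 1 →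
      (b * a = 1 → c * b = 1 ∧ a * c = 1) → b * a⁻¹ = 1 := by decide
  have a3 : f ⟨x, hx⟩ ^ 3 = 1 := by rw [← map_pow, m]; simp [x3, one_mem]
  have := key (f ⟨x, hx⟩) (f ⟨_, hx1⟩) (f ⟨_, hx2⟩) (fun e => nx ((m _).1 e)) a3
    (fun e => nx (by simpa [mul_assoc] using conj_mem_of_mem_normalizer' yW ((m _).1 e)))
    (by rw [← map_pow, m]; simp [conj_pow, x3, one_mem]) fun e => by
      rw [← map_mul, m] at e
      have e1 := conj_mem_of_mem_normalizer yW e
      have e2 := conj_mem_of_mem_normalizer yW e1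
      rw [← map_mul, ← map_mul, m, m]
      refine ⟨by convert e1 using 1; simp only [coe_mul]; group, ?_⟩
      convert e2 using 1
      simp only [coe_mul]
      calc x * (y * (y * x * y⁻¹) * y⁻¹) = y ^ 3 * x * (y ^ 3)⁻¹ * (y * (y * x * y⁻¹) * y⁻¹) := by
            rw [y3]; group
        _ = _ := by simp only [pow_succ, pow_zero]; group
  rw [← map_inv, ← map_mul, m] at this
  obtain ⟨n, c, d⟩ := lift_fix h.twoW hy yW this
  have nH := h.le2 (h.le1 c)
  obtain ⟨r, -⟩ := lift3 (hs.sub H) f (g := ⟨n, nH⟩ * ⟨x, hx⟩) (by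
    rw [map_mul, (m ⟨n, nH⟩).2 c, one_mul]
    exact orderOf_eq_prime a3 fun e => nx ((m _).1 e))
  exact ⟨(n * x) ^ 4, pow_mem (mul_mem nH hx) 4, by rw [← r, ← orderOf_coe]; rfl, pow_mem d 4⟩

end S3T

end H74.O8
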