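import Cfsg.Agent.H74.O8Kit2

/-! Jobs A5b and VW of the tower O8. -/

set_option autoImplicit false

namespace H74.O8

open Cfsg Subgroup H98 H74.OC
open scoped commutatorElement

universe u

variable {G : Type u} [Group G] [Finite G]

theorem card_sup3 {S : Subgroup G} {y : G} (h2 : IsPGroup 2 S) (hy : orderOf y = 3)
    (hn : y ∈ normalizer (S : Set G)) : Nat.card ↥(S ⊔ zpowers y) = 3 * Nat.card S := by
  have i : S ⊓ zpowers y = ⊥ :=
    (eq_or_eq_of_card Nat.prime_three bot_le inf_le_right (by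
      rw [Nat.card_zpowers, hy, card_bot])).resolve_right fun e => by
        have := two_dvd_order h2 (e.ge (mem_zpowers y)).1 (by rintro rfl; simp at hy)
        rw [hy] at this; omega
  have := H46.card_sup_mul_card_inf (zpowers_le.2 hn)
  rwa [i, card_bot, mul_one, Nat.card_zpowers, hy, mul_comm] at this

theorem card_mod3 (hs : Sp 8 G) {U : Subgroup G} (hU : IsPGroup 2 U) {σ : G} (ho : orderOf σ = 5)
    (hn : σ ∈ normalizer (U : Set G)) : Nat.card U ≡ 1 [MOD 3] := by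
  obtain ⟨k, hk⟩ := hU.exists_card_eq
  have := card_modEq Nat.prime_five ho hn
  rw [fpf hs (.inl ho) hU, card_bot] at this
  exact mod3_of_mod5 hk this

omit [Finite G] in
theorem mem_of_sq3 {K : Subgroup G} {v : G} (hv : orderOf v = 3) (h : v * v ∈ K) : v ∈ K := by
  have e : v = v * v * (v * v) := by
    have := pow_orderOf_eq_one v
    rw [hv] at this
    calc v = v ^ 3 * v := by rw [this, one_mul]
      _ = _ := by simp only [pow_succ, pow_zero, one_mul, mul_assoc]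
  rw [e]; exact K.mul_mem h h

theorem idx2 {Q K : Subgroup G} (h : Q ≤ K) (hc : Nat.card K = 2 * Nat.card Q) {s t : G} (hs : s ∈ K)
    (ht : t ∈ K) (hs' : s ∉ Q) (ht' : t ∉ Q) : s * t⁻¹ ∈ Q := by
  have i2 : (Q.subgroupOf K).index = 2 := Nat.eq_of_mul_eq_mul_right (Nat.card_pos (α := Q)) (by
    rw [← hc, ← index_mul_card (Q.subgroupOf K), Nat.card_congr (subgroupOfEquivOfLe h).toEquiv])
  exact (mul_mem_iff_of_index_two i2 (a := ⟨s, hs⟩) (b := ⟨t, ht⟩⁻¹)).2
    (iff_of_false hs' fun e => ht' (inv_mem_iff.1 e))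

namespace A5D

variable {M Q S : Subgroup G} {y : G}

theorem nn (h : A5D M Q S y) (hM : Mx M Q) : ¬ M ≤ normalizer (S : Set G) := fun e => by
  have := card_le_of_le (hM.core S h.syl.isPGroup h.syl.le e)
  have := h.c1
  have := Nat.card_pos (α := Q)
  omega

theorem cardB (h : A5D M Q S y) : Nat.card M = 5 * Nat.card ↥(S ⊔ zpowers y) := by
  rw [card_sup3 h.syl.isPGroup h.ord h.nor, h.c1, h.c2]; ring

theorem borel (h : A5D M Q S y) {K : Subgroup G} (h1 : S ≤ K) (h2 : y ∈ K) (h3 : ¬ M ≤ K) :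
    M ⊓ K = S ⊔ zpowers y :=
  (eq_or_eq_of_card Nat.prime_five (sup_le (le_inf h.syl.le h1) (zpowers_le.2 ⟨h.mem, h2⟩))
    inf_le_left h.cardB).resolve_right fun e => h3 (e.ge.trans inf_le_right)

theorem sup_eq (h : A5D M Q S y) (hM : Mx M Q) {K : Subgroup G} (h1 : Q ≤ K) (h2 : K ≤ S)
    (hn : y ∈ normalizer (K : Set G)) (hne : ¬ K ≤ Q) : K = S := by
  obtain ⟨a, ha⟩ := card_dvd_of_le h1
  obtain ⟨b, hb⟩ := card_dvd_of_le h2
  have e : a * b = 4 := Nat.eq_of_mul_eq_mul_left (Nat.card_pos (α := Q)) (by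
    rw [← mul_assoc, ← ha, ← hb, h.c1, mul_comm])
  have : a ≤ 4 := Nat.le_of_dvd (by norm_num) ⟨b, e.symm⟩
  obtain ⟨u, uK, uQ⟩ := SetLike.not_le_iff_exists.1 hne
  interval_cases a
  · omega
  · exact absurd (eq_of_le_of_card_ge h1 (by rw [ha, mul_one])).ge hne
  · refine absurd (h.fpf u (h2 uK) (idx2 h1 (by rw [ha, mul_comm]) (conj_mem_of_mem_normalizer hn uK) uK
      (fun r => uQ ?_) uQ)) uQ
    simpa [mul_assoc] using conj_mem_of_mem_normalizer' (hM.nor h.mem) r
  · omega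
  · exact eq_of_le_of_card_ge h2 (by rw [ha, h.c1, mul_comm])

end A5D

theorem jobA5b : JobA5b.{u} := by
  intro G _ _ M Q S W y hs hM hT hA hX
  set X := centralizer (oz 2 S : Set G) with eX
  have yX : y ∈ normalizer (X : Set G) := normalizer_le_normalizer_centralizer _
    (le_normalizer_oz le_rfl hA.nor)
  have yW : y ∈ normalizer (W : Set G) := hX.core_eq ▸ normalizer_le_normalizer_pCoreOf _ yX
  obtain ⟨⟨q, qS, qW, qy⟩, v, vX, vo, vy⟩ := hX.fix hs hA.ord hA.nor yX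
  refine ⟨fun hV => ?_, v, vX, vo, (mem_centralizer_singleton_iff.1 vy).symm⟩
  set E := W ⊓ centralizer ({y} : Set G) with eE
  have el := el3 hs hA.ord (hX.two.to_inf_left (K := centralizer ({y} : Set G))) inf_le_right
  have EF : E ≤ S ⊓ centralizer ({y} : Set G) := inf_le_inf_right _ hX.le1
  have qE : q ∈ centralizer (E : Set G) := centralizer_anti EF (H12.ea_le_centralizer el ⟨qS, qy⟩)
  have vn : v ∈ normalizer (E : Set G) :=
    le_normalizer_inf (zpowers_le.2 (hX.nor vX)) (le_normalizer_of_le (zpowers_le.2 vy)) (mem_zpowers v)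
  have wE : q * v * q⁻¹ * v ∈ E :=
    mem_inf.2 ⟨hX.inv qS qW vX vo, mul_mem (mul_mem (mul_mem qy vy) (inv_mem qy)) vy⟩
  have vE : v ∈ centralizer (E : Set G) := mem_of_sq3 vo (by
    have a := conj_mem_of_mem_normalizer (normalizer_le_normalizer_centralizer _ vn) qE
    have := mul_mem (mul_mem a (inv_mem qE)) (H12.ea_le_centralizer (H12.ea_mono el EF) wE)
    simpa [mul_assoc] using this)
  have yv : y ∉ zpowers v := fun e =>
    hX.not_mem hA.ord (hX.nor_le ⟨zpowers_le.2 vX e, hA.nor⟩)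
  have c9 := card9 hA.ord vo (mem_centralizer_singleton_iff.1 vy).symm yv
  have EW : E ≤ oz 2 W := le_trans (le_inf inf_le_left (by
      rw [centralizer_sup, cen_zp]
      exact le_inf inf_le_right (le_centralizer_iff.1 (zpowers_le.2 vE))))
    (cent9 hs c9 hX.twoW (sup_le (zpowers_le.2 yW) (zpowers_le.2 (hX.nor vX))))
  have ES : E ≤ oz 2 S := le_oz (H12.ea_mono el EF) (EF.trans inf_le_left) (by
    rw [← hX.supW qS qW, centralizer_sup]
    exact le_inf (EW.trans (oz_le_centralizer W)) (le_centralizer_iff.1 (zpowers_le.2 qE)))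
  have Ene : E ≠ ⊥ := fun e => by
    have q1 : q ≠ 1 := by rintro rfl; exact qW W.one_mem
    have F : S ⊓ centralizer ({y} : Set G) = zpowers q :=
      le_antisymm (fun f hf => by
        by_cases fW : f ∈ W
        · rw [mem_bot.1 (e.le ⟨fW, hf.2⟩)]; exact one_mem _
        · have : f * q⁻¹ ∈ E :=
            mem_inf.2 ⟨hX.mul_inv_mem hf.1 qS fW qW, mul_mem (mem_inf.1 hf).2 (inv_mem qy)⟩
          rw [e, mem_bot, mul_inv_eq_one] at this
          rw [this]; exact mem_zpowers q) (zpowers_le.2 ⟨qS, qy⟩)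
    have m := card_modEq Nat.prime_three hA.ord hA.nor
    obtain ⟨σ, σM, σo⟩ := hA.sig
    have m' := card_mod3 hs hM.two σo (hM.nor σM)
    rw [F, Nat.card_zpowers, orderOf_eq_prime (el.2 q ⟨qS, qy⟩) q1, hA.c1] at m
    unfold Nat.ModEq at m m'
    omega
  obtain ⟨⟨e, eE'⟩, e1⟩ := ne_bot_iff_exists_ne_one.1 Ene
  have e1' : e ≠ 1 := fun r => e1 (Subtype.ext r)
  have eS := ES eE'
  have B1 : M ⊓ centralizer ({e} : Set G) = S ⊔ zpowers y := hA.borel
    (fun s hs' => mem_centralizer_singleton_iff.2 (oz_le_centralizer S eS s hs'))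
    (mem_centralizer_singleton_iff.2 (mem_centralizer_singleton_iff.1 eE'.2).symm) fun r =>
    e1' (zpowers_eq_bot.1 (hT.cen_bot hs ((isPGroup_oz S).to_le (zpowers_le.2 eS)) (cen_zp e ▸ r)))
  have B2 : M ⊓ normalizer (S : Set G) = S ⊔ zpowers y := hA.borel le_normalizer hA.nor (hA.nn hM)
  obtain ⟨g, gM, gB, gy⟩ := other5 (B1.ge.trans inf_le_left) hA.cardB hA.mem hA.ord
  have c := mem_centralizer_singleton_iff.1 (B1.ge gy).2
  have e' : g * e * g⁻¹ ∈ E := ⟨hV (conj_mem_of_mem_normalizer (hM.nor_oz.ge gM)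
    (hM.oz_le (hM.le_syl hA.syl) eS)), mem_centralizer_singleton_iff.2 (by
      calc g * e * g⁻¹ * y = g * (e * (g⁻¹ * y * g)) * g⁻¹ := by group
        _ = y * (g * e * g⁻¹) := by rw [← c]; group)⟩
  have l : cj g⁻¹ S ≤ S ⊔ zpowers y := B1 ▸ le_inf (cj_le_of_le_of_mem hA.syl.le (inv_mem gM))
    fun s hs' => mem_centralizer_singleton_iff.2 (by
      have := oz_le_centralizer S (ES e') _ (mem_cj.1 hs')
      calc s * e = g⁻¹ * (g⁻¹⁻¹ * s * g⁻¹ * (g * e * g⁻¹)) * g := by group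
        _ = e * s := by rw [this]; group)
  have n := mem_normalizer_of_cj_le (hA.syl.le_of_le_normalizer' (isPGroup_cj _ hX.two)
    (l.trans (B2.ge.trans inf_le_left)) (l.trans (B2.ge.trans inf_le_right)))
  exact gB (B2.le (mem_inf.2 ⟨gM, inv_mem_iff.1 n⟩))

theorem jobVW : JobVW.{u} := by
  intro G _ _ M Q S X W y v hs hM hT hA hX hW yW vX vo yv hV
  obtain ⟨t, tV, tW⟩ := SetLike.not_le_iff_exists.1 hV
  have QS := hM.le_syl hA.syl
  have VS : oz 2 Q ≤ S := (oz_le Q).trans QS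
  have tS := VS tV
  have t2 : t⁻¹ = t := inv_eq_of_mul_eq_one_right (by rw [← pow_two]; exact (ea_oz Q).2 t tV)
  have v3 : v ^ 3 = 1 := vo ▸ pow_orderOf_eq_one v
  have vW := hX.nor vX
  have nQ : S ≤ normalizer (Q : Set G) := hA.syl.le.trans hM.nor
  have nV : S ≤ normalizer (oz 2 Q : Set G) := le_normalizer_oz nQ
  set V' := cj v (oz 2 Q) with eV
  set E := W ⊓ Q ⊓ cj v Q with eE
  have cV' : cj v Q ≤ centralizer (V' : Set G) := by rw [eV, cj_oz]; exact le_centralizer_oz _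
  have EK : E ≤ centralizer ((oz 2 Q ⊔ V' : Subgroup G) : Set G) := by
    rw [centralizer_sup]
    exact le_inf (inf_le_left.trans (inf_le_right.trans (le_centralizer_oz Q))) (inf_le_right.trans cV')
  have w := hX.inv tS tW vX vo
  obtain ⟨v', v'K, v'o⟩ : ∃ v' ∈ oz 2 Q ⊔ V', orderOf v' = 3 := by
    obtain ⟨f, -, k⟩ := hX.iso
    have m : ∀ a : X, f a = 1 ↔ (a : G) ∈ W := fun a => by rw [← MonoidHom.mem_ker, k, mem_subgroupOf]
    have wX := hX.le2 (hX.le1 w)
    obtain ⟨r, -⟩ := lift3 (hs.sub X) f (g := ⟨_, wX⟩ * ⟨v, vX⟩) (by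
      rw [map_mul, (m ⟨_, wX⟩).2 w, one_mul]
      exact orderOf_eq_prime (by rw [← map_pow, m]; simp [v3, one_mem])
        fun e => hX.not_mem vo (hX.le1 ((m _).1 e)))
    refine ⟨(t * v * t⁻¹ * v * v) ^ 4, pow_mem ?_ 4, by rw [← r, ← orderOf_coe]; rfl⟩
    have : t * v * t⁻¹ * v * v = t * (v * t * v⁻¹) * v ^ 3 := by rw [t2]; simp [pow_succ, mul_assoc]
    rw [this, v3, mul_one]
    exact mul_mem (mem_sup_left tV) (mem_sup_right (conj_mem_cj tV))
  have el : IsElementaryAbelian 2 E := el3 hs v'o (hX.twoW.to_le (inf_le_left.trans inf_le_left))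
    (by rw [← cen_zp]; exact EK.trans (centralizer_anti (zpowers_le.2 v'K)))
  have V'X : V' ≤ X := cj_le_of_le_of_mem (VS.trans hX.le2) vX
  by_cases c : V' ⊓ W ≤ Q
  · exfalso
    have aW : v * t ∈ normalizer (W : Set G) := mul_mem vW (hX.nor (hX.le2 tS))
    have e1 : v * t * v ∈ S := by
      have : v * t * v = t⁻¹ * (t * v * t⁻¹ * v) := by rw [show v * t * v = v * t⁻¹ * v by rw [t2]]; group
      rw [this]; exact mul_mem (inv_mem tS) (hX.le1 w)
    have c' : oz 2 Q ⊓ W ≤ cj v Q := by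
      have := cj_mono (v * t) c
      rwa [cj_inf, eV, cj_cj, cj_eq_self (nV e1), cj_eq_self aW, ← cj_cj, cj_eq_self (nQ tS)] at this
    have a1 : ⁅W, oz 2 Q⁆ ≤ oz 2 Q ⊓ W := le_inf (commutator_le_right' (hX.le1.trans nV))
      (commutator_le_left' ((VS.trans hX.le2).trans hX.nor))
    have a2 : ⁅W, V'⁆ ≤ V' ⊓ W := by
      have := cj_mono v a1
      rwa [cj_commutator, cj_inf, cj_eq_self vW] at this
    have n := le_normalizer_of_le_centralizer (le_centralizer_iff.1 EK)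
    have a3 : ⁅W, oz 2 Q ⊔ V'⁆ ≤ E := commutator_sup_right_le (le_sup_left.trans n) (le_sup_right.trans n)
      (a1.trans (le_inf (le_inf inf_le_right (inf_le_left.trans (oz_le Q))) c'))
      (a2.trans (le_inf (le_inf inf_le_right c) (inf_le_left.trans (cj_mono v (oz_le Q)))))
    have := res_le_centralizer_of_quadratic hX.twoW ((sup_le (VS.trans hX.le2) V'X).trans hX.nor)
      (commutator_eq_bot_iff_le_centralizer.2 (a3.trans EK))
    exact hX.not_mem v'o (hX.le1 (hW (this (mem_res_of_coprime v'K (by rw [v'o]; norm_num)))))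
  have yV : y ∈ normalizer (V' : Set G) := cj_eq_self_iff.1 (by
    rw [eV, cj_cj, yv, ← cj_cj, cj_eq_self (hM.nor_oz.ge hA.mem)])
  have uS : V' ⊓ W ≤ S := inf_le_right.trans hX.le1
  have eS := hA.sup_eq hM (K := V' ⊓ W ⊔ Q) le_sup_right (sup_le uS QS)
    (le_normalizer_sup (le_normalizer_inf (zpowers_le.2 yV) (zpowers_le.2 yW))
      (zpowers_le.2 (hM.nor hA.mem)) (mem_zpowers y)) fun e => c (le_sup_left.trans e)
  have A : cj v Q ⊓ W ≤ E ⊔ V' := fun q hq => by
    obtain ⟨a, ha, n, hn, rfl⟩ := (mem_sup_left_norm (uS.trans nQ)).1 (eS.ge (hX.le1 hq.2))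
    have h1 := mem_inf.1 ha
    have h2 := mem_inf.1 hq
    exact mul_mem (mem_sup_right h1.1) (mem_sup_left (mem_inf.2 ⟨mem_inf.2
      ⟨(mul_mem_cancel_left h1.2).1 h2.2, hn⟩, (mul_mem_cancel_left (cj_mono v (oz_le Q) h1.1)).1 h2.1⟩))
  have B : cj v Q ≤ E ⊔ V' := fun q hq => by
    by_cases r : q ∈ W
    · exact A ⟨hq, r⟩
    have t' : v * t * v⁻¹ ∈ V' := conj_mem_cj tV
    have a := conj_mem_of_mem_normalizer vW (hX.mul_inv_mem (QS (mem_cj.1 hq)) tS
      (fun e => r (by simpa [mul_assoc] using conj_mem_of_mem_normalizer vW e)) tW)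
    have e : v * (v⁻¹ * q * v * t⁻¹) * v⁻¹ = q * (v * t * v⁻¹)⁻¹ := by group
    rw [e] at a
    exact (mul_mem_cancel_right (inv_mem (mem_sup_right t'))).1
      (A (mem_inf.2 ⟨mul_mem hq (inv_mem (cj_mono v (oz_le Q) t')), a⟩))
  exact (H12.ea_map_iff _ (MulAut.conj v).injective).1 (H12.ea_mono (H12.ea_sup el
    (by rw [eV, cj_oz]; exact ea_oz _) (inf_le_right.trans cV')) B)

end H74.O8
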