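import Cfsg.Agent.H74.O8Kit2
import Cfsg.Agent.H98.Cent
import Cfsg.Agent.H18.PiCore

/-! Jobs E3 and L232 of the tower O8. -/

set_option autoImplicit false

namespace H74.O8

open Cfsg Subgroup H98 H74.OC
open scoped commutatorElement

universe u

theorem nfix {V : Type*} [CommGroup V] (A : MulAut V) (h : ∀ x, A (A (A x)) = x) (v : V) :
    A (v * A v * A (A v)) = v * A v * A (A v) := by
  simp only [map_mul, h]; ac_rfl

theorem e3alg {V : Type*} [CommGroup V] (h3 : ∀ v : V, v ^ 3 = 1 → v = 1) {Z W F T : MulAut V}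
    (w3 : W ^ 3 = 1) (z3 : Z ^ 3 = 1) (e : Z = W * F * W⁻¹ * F⁻¹) (zw : Z * W = W * Z)
    (zf : Z * F = F * Z) (tz : T * Z * T⁻¹ * Z = 1) (ht : ∀ v, W v = v → T v = v) : Z = 1 := by
  have hc : ∀ x, W (Z x) = Z (W x) := fun x => (DFunLike.congr_fun zw x).symm
  have z3' : ∀ x, Z (Z (Z x)) = x := fun x => by simpa [pow_succ] using DFunLike.congr_fun z3 x
  have w3' : ∀ x, W (W (W x)) = x := fun x => by simpa [pow_succ] using DFunLike.congr_fun w3 x
  have p0 : ∀ v, W v = v → Z v = v := fun v hv => by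
    have a : W (Z v) = Z v := by rw [hc, hv]
    have b : W (Z (Z v)) = Z (Z v) := by rw [hc, a]
    have c : T (Z (T⁻¹ (Z v))) = v := DFunLike.congr_fun tz v
    have d : T⁻¹ (Z v) = Z v := by
      conv_lhs => rw [← ht _ a]
      simp
    rw [d, ht _ b] at c
    have := z3' v
    rwa [c] at this
  have p1 : ∀ A : MulAut V, (∀ v, A v = v → Z v = v) → ∀ v, (F * A * F⁻¹) v = v → Z v = v :=
    fun A hA v hv => by
      have a : A (F⁻¹ v) = F⁻¹ v := F.injective (by simpa using hv)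
      have b : Z (F (F⁻¹ v)) = F (Z (F⁻¹ v)) := DFunLike.congr_fun zf _
      rw [hA _ a] at b
      simpa using b
  have zi : Z⁻¹ = Z * Z := inv_eq_of_mul_eq_one_right (by rw [← z3]; simp [pow_succ, mul_assoc])
  have e1 : F * W * F⁻¹ = Z * Z * W := by rw [← zi, e]; group
  have fz : F * Z * F⁻¹ = Z := by rw [← zf]; group
  have e2 : F * (Z * Z * W) * F⁻¹ = Z * W := by
    calc _ = (F * Z * F⁻¹) * (F * Z * F⁻¹) * (F * W * F⁻¹) := by group
      _ = Z ^ 3 * Z * W := by rw [fz, e1]; simp [pow_succ, mul_assoc]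
      _ = _ := by rw [z3, one_mul]
  have q1 := e1 ▸ p1 W p0
  have q2 := e2 ▸ p1 _ q1
  ext v
  have a1 := nfix Z z3' v
  have a2 := p0 _ (nfix W w3' v)
  have a3 := q1 _ (nfix (Z * Z * W) (fun x => by simp [hc, z3', w3']) v)
  have a4 := q2 _ (nfix (Z * W) (fun x => by simp [hc, z3', w3']) v)
  have a5 := nfix Z z3' (v * W v * W (W v))
  have id : ∀ x, x ^ 3 * ((x * W x * W (W x)) * Z (x * W x * W (W x)) * Z (Z (x * W x * W (W x)))) =
      (x * Z x * Z (Z x)) * (x * W x * W (W x)) * (x * (Z * Z * W) x * (Z * Z * W) ((Z * Z * W) x)) *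
        (x * (Z * W) x * (Z * W) ((Z * W) x)) := fun x => by
    simp only [map_mul, MulAut.mul_apply, hc, z3', pow_three]; ac_rfl
  have mf : ∀ {a b : V}, Z a = a → Z b = b → Z (a * b) = a * b := fun h1 h2 => by rw [map_mul, h1, h2]
  have := mf (mf (mf a1 a2) a3) a4
  rw [← id v, map_mul, a5, map_pow] at this
  exact (mul_inv_eq_one (b := v)).1
    (h3 _ (by rw [mul_pow, mul_right_cancel this, inv_pow, mul_inv_cancel]))

section Ab

variable {K : Type u} [Group K]

theorem conj_one_iff {V : Subgroup K} [V.Normal] {g : K} :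
    MulAut.conjNormal (H := V) g = 1 ↔ g ∈ centralizer (V : Set K) :=
  ⟨fun h v hv => (mul_inv_eq_iff_eq_mul.1
      (show g * v * g⁻¹ = v from congrArg Subtype.val (DFunLike.congr_fun h (⟨v, hv⟩ : V)))).symm,
    fun h => by ext v; simp [← h v v.2]⟩

/-- The image of `N` modulo its derived group. -/
abbrev abV (N : Subgroup K) [N.Normal] : Subgroup (K ⧸ ⁅N, N⁆) := N.map (QuotientGroup.mk' _)

instance abV_normal (N : Subgroup K) [N.Normal] : (abV N).Normal :=
  Normal.map inferInstance _ (QuotientGroup.mk'_surjective _)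

theorem abV_comm (N : Subgroup K) [N.Normal] : abV N ≤ centralizer (abV N : Set (K ⧸ ⁅N, N⁆)) := by
  rintro _ ⟨a, ha, rfl⟩ _ ⟨b, hb, rfl⟩
  rw [← commutatorElement_eq_one_iff_mul_comm, ← map_commutatorElement]
  exact (QuotientGroup.eq_one_iff _).2 (commutator_mem_commutator hb ha)

theorem abV_cen {N : Subgroup K} [N.Normal] {g : K}
    (h : QuotientGroup.mk' _ g ∈ centralizer (abV N : Set (K ⧸ ⁅N, N⁆))) : ⁅N, zpowers g⁆ ≤ ⁅N, N⁆ :=
  commutator_le.2 fun n hn a ha => (QuotientGroup.eq_one_iff _).1 (by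
    have : zpowers g ≤ (centralizer (abV N : Set (K ⧸ ⁅N, N⁆))).comap (QuotientGroup.mk' _) :=
      zpowers_le.2 h
    exact (map_commutatorElement (QuotientGroup.mk' _) n a).trans
      (commutatorElement_eq_one_iff_mul_comm.2 (this ha _ (mem_map_of_mem _ hn))))

/-- The commutative group structure on an abelian subgroup. -/
@[reducible] def cg {V : Subgroup K} (h : V ≤ centralizer (V : Set K)) : CommGroup V :=
  { (inferInstance : Group V) with mul_comm := fun a b => Subtype.ext (h b.2 a a.2) }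

theorem cc_le (N A : Subgroup K) [N.Normal] : ⁅⁅N, A⁆, A⁆ ≤ ⁅N, A⁆ :=
  commutator_le_left' (le_normalizer_commutator le_normalizer_of_normal le_normalizer)

end Ab

theorem eq_one_of_pow {K : Type*} [Group K] {p q : ℕ} (hq : p.Coprime q) {V : Subgroup K}
    (h : IsPGroup p V) {v : K} (hv : v ∈ V) (e : v ^ q = 1) : v = 1 := by
  obtain ⟨k, hk⟩ := isPGroup_iff_forall.1 h v hv
  exact orderOf_eq_one_iff.1 (Nat.eq_one_of_dvd_coprimes (hq.pow_left k)
    (orderOf_dvd_of_pow_eq_one hk) (orderOf_dvd_of_pow_eq_one e))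

theorem e3ab {H : Type u} [Group H] [Finite H] (hs : Sp 8 H) {V : Subgroup H} [V.Normal]
    (h2 : IsPGroup 2 V) (hc : V ≤ centralizer (V : Set H)) {w f t z : H} (e : z = w * f * w⁻¹ * f⁻¹)
    (w3 : w ^ 3 ∈ V) (z3 : z ^ 3 ∈ V) (t2 : t * t ∈ V) (tw : t * w * t⁻¹ * w⁻¹ ∈ V)
    (zw : z * w * z⁻¹ * w⁻¹ ∈ V) (zf : z * f * z⁻¹ * f⁻¹ ∈ V) (tz : t * z * t⁻¹ * z ∈ V) :
    z ∈ centralizer (V : Set H) := by
  letI := cg hc
  let φ : H →* MulAut V := MulAut.conjNormal
  have k : ∀ g ∈ V, φ g = 1 := fun g hg => conj_one_iff.2 (hc hg)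
  have cm : ∀ {L : Type u} [Group L] (ψ : H →* L) (a b : H), ψ (a * b * a⁻¹ * b⁻¹) = 1 →
      ψ a * ψ b = ψ b * ψ a := fun ψ a b h => by
    rw [← commutatorElement_eq_one_iff_mul_comm, ← map_commutatorElement]; exact h
  by_cases h0 : w ∈ V
  · exact conj_one_iff.1 (show φ z = 1 by rw [e]; simp [k w h0])
  refine conj_one_iff.1 (e3alg (W := φ w) (F := φ f) (T := φ t) (fun v hv => Subtype.ext
    (eq_one_of_pow (by norm_num) h2 v.2 (congrArg Subtype.val hv))) (by rw [← map_pow, k _ w3])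
    (by rw [← map_pow]; exact k _ z3) (by rw [e]; simp [φ]) (cm φ _ _ (k _ zw)) (cm φ _ _ (k _ zf))
    (by simpa [φ] using k _ tz) fun v hv => ?_)
  by_cases h1 : t ∈ V
  · rw [k t h1]; rfl
  let π := QuotientGroup.mk' V
  have m : ∀ g, π g = 1 ↔ g ∈ V := QuotientGroup.eq_one_iff
  have c := cm π _ _ ((m _).2 tw)
  have o : orderOf (w * t) = 6 := ord_eq hs π (by norm_num) (by
    rw [map_mul, (Commute.symm c).orderOf_mul_eq_mul_orderOf_of_coprime] <;>
    rw [orderOf_eq_prime (p := 3) (by rw [← map_pow, m]; exact w3) (mt (m _).1 h0),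
      orderOf_eq_prime (p := 2) (by rw [← map_pow, m, pow_two]; exact t2) (mt (m _).1 h1)]
    norm_num)
  have c' : Commute (φ w) (φ t) := (cm φ _ _ (k _ tw)).symm
  have W3 : φ w ^ 3 = 1 := by rw [← map_pow, k _ w3]
  have T2 : φ t ^ 2 = 1 := by rw [← map_pow, pow_two, k _ t2]
  have a4 : φ ((w * t) ^ 4) = φ w := by
    rw [map_pow, map_mul, c'.mul_pow, pow_succ, W3, show 4 = 2 * 2 from rfl, pow_mul, T2]; simp
  have a3 : φ ((w * t) ^ 3) = φ t := by
    rw [map_pow, map_mul, c'.mul_pow, W3, pow_succ, T2]; simp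
  have o4 : orderOf ((w * t) ^ 4) = 3 := by rw [orderOf_pow, o]; rfl
  have t0 : (w * t) ^ 3 ∈ centralizer ({(w * t) ^ 4} : Set H) :=
    mem_centralizer_singleton_iff.2 (Commute.pow_pow_self _ 3 4)
  have el := el3 hs o4 (U := zpowers ((w * t) ^ 3) ⊔ V ⊓ centralizer ({(w * t) ^ 4} : Set H))
    ((isPGroup_zpowers (k := 1) (by
      rw [← pow_mul]; exact orderOf_dvd_iff_pow_eq_one.1 (by rw [o]; rfl))).to_sup_of_normal_right'
      h2.to_inf_left (le_normalizer_inf le_normalizer_of_normal (le_normalizer_of_le (zpowers_le.2 t0))))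
    (sup_le (zpowers_le.2 t0) inf_le_right)
  rw [← a4] at hv
  have hv' : (v : H) ∈ centralizer ({(w * t) ^ 4} : Set H) := mem_centralizer_singleton_iff.2
    (mul_inv_eq_iff_eq_mul.1 (congrArg Subtype.val hv)).symm
  rw [← a3]
  exact Subtype.ext (mul_inv_eq_iff_eq_mul.2 (H12.ea_comm el (mem_sup_left (mem_zpowers _))
    (mem_sup_right (mem_inf.2 ⟨v.2, hv'⟩))))

theorem e3q {H : Type u} [Group H] [Finite H] (hs : Sp 8 H) {V : Subgroup H} [V.Normal]
    (h2 : IsPGroup 2 V) {w f t z : H} (e : z = w * f * w⁻¹ * f⁻¹)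
    (w3 : w ^ 3 ∈ V) (z3 : z ^ 3 ∈ V) (t2 : t * t ∈ V) (tw : t * w * t⁻¹ * w⁻¹ ∈ V)
    (zw : z * w * z⁻¹ * w⁻¹ ∈ V) (zf : z * f * z⁻¹ * f⁻¹ ∈ V) (tz : t * z * t⁻¹ * z ∈ V) :
    res 2 (zpowers z) ≤ centralizer (V : Set H) := by
  let π := QuotientGroup.mk' ⁅V, V⁆
  have m : ∀ {g : H}, g ∈ V → π g ∈ abV V := fun hg => mem_map_of_mem _ hg
  exact res_le_cent_of_comm h2 le_normalizer_of_normal ((cc_le _ _).trans (abV_cen
    (e3ab (hs.quot _) (h2.map _) (abV_comm V) (w := π w) (f := π f) (t := π t) (by rw [e]; rfl)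
      (m w3) (m z3) (m t2) (m tw) (m zw) (m zf) (m tz))))

theorem jobE3 : JobE3.{u} := by
  intro G _ _ X R w f t z hs hX eR wX fX tX e w3 z3 t2 tw zw zf tz
  have zX : z ∈ X := by
    rw [e]; exact mul_mem (mul_mem (mul_mem wX fX) (inv_mem wX)) (inv_mem fX)
  have m : ∀ {g : X}, (g : G) ∈ R → g ∈ pCore 2 X := fun hg => by
    rw [← pCoreOf_subgroupOf, ← eR]; exact hg
  have c := e3q (hs.sub X) (isPGroup_pCore 2 X) (w := ⟨w, wX⟩) (f := ⟨f, fX⟩) (t := ⟨t, tX⟩)
    (z := ⟨z, zX⟩) (Subtype.ext e) (m w3) (m z3) (m t2) (m tw) (m zw) (m zf) (m tz)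
  have c2 := (charP_top_iff.2 (charP_iff.1 hX)).isPGroup_of_res_le le_top (by rwa [pCoreOf_top])
  obtain ⟨k, hk⟩ := isPGroup_iff_forall.1 c2 _ (mem_zpowers _)
  exact mem_of_pow_mem_of_coprime z3 (Nat.Coprime.coprime_dvd_left
    (orderOf_dvd_of_pow_eq_one (congrArg Subtype.val hk)) (Nat.Coprime.pow_left k (by norm_num)))

theorem cen23 {K : Type u} [Group K] [Finite K] {p q : ℕ} [Fact q.Prime] (hs : Group.IsSolvable K)
    (hK : ∀ r : ℕ, r.Prime → r ∣ Nat.card K → r = p ∨ r = q) (h : pCore p K = ⊥) :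
    centralizer (pCore q K : Set K) ≤ pCore q K :=
  H2.centralizer_pCore_le (sSup_eq_bot.2 fun N hN => by
    have := hN.1
    refine le_bot_iff.1 (h ▸ H2.le_pCore (IsPGroup.of_card (Nat.eq_prime_pow_of_unique_prime_dvd
      Nat.card_pos.ne' fun {r} hr hd => ?_)))
    refine (hK r hr (hd.trans (card_subgroup_dvd_card N))).resolve_right fun e => ?_
    subst e
    exact hr.one_lt.ne' (Nat.eq_one_of_dvd_coprimes hN.2 hd dvd_rfl))

theorem engel {K : Type*} [Group K] {x y : K} (h1 : (x * y) ^ 3 = 1) (h2 : (x * y⁻¹) ^ 3 = 1)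
    (h3 : y ^ 3 = 1) : Commute x (y * x * y⁻¹) := by
  have yi : y⁻¹ = y * y := inv_eq_of_mul_eq_one_right (by rw [← h3]; simp [pow_succ, mul_assoc])
  have a : x * ((y * x * y⁻¹) * (y⁻¹ * x * y)) = 1 := by
    calc _ = x * y * x * (y⁻¹ * y⁻¹) * x * y := by group
      _ = x * y * x * (y * y ^ 3) * x * y := by rw [yi]; simp [pow_succ, mul_assoc]
      _ = (x * y) ^ 3 := by rw [h3]; simp [pow_succ, mul_assoc]
      _ = _ := h1
  have b : x * ((y⁻¹ * x * y) * (y * x * y⁻¹)) = 1 := by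
    calc _ = x * y⁻¹ * x * (y * y) * x * y⁻¹ := by group
      _ = (x * y⁻¹) ^ 3 := by rw [← yi]; simp [pow_succ, mul_assoc]
      _ = _ := h2
  have c : Commute (y * x * y⁻¹) (y⁻¹ * x * y) := mul_left_cancel (a.trans b.symm)
  have d : Commute (y * x * y⁻¹ * (y⁻¹ * x * y))⁻¹ (y * x * y⁻¹) :=
    ((Commute.refl _).mul_left c.symm).inv_left
  rwa [← eq_inv_of_mul_eq_one_left a] at d

theorem l232 {K : Type u} [Group K] [Finite K] (hs : Sp 8 K) (ht : T23 (⊤ : Subgroup K))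
    (h2 : pCore 2 K = ⊥) (e3 : ∀ w f t z : K, z = w * f * w⁻¹ * f⁻¹ → w ^ 3 = 1 → z ^ 3 = 1 → t * t = 1 →
      Commute t w → Commute z w → Commute z f → t * z * t⁻¹ * z = 1 → z = 1)
    {w₀ : K} (h0 : w₀ ^ 3 = 1) : w₀ ∈ pCore 3 K := by
  by_contra r
  set F := pCore 3 K with eF
  have F3 : IsPGroup 3 F := isPGroup_pCore 3 K
  have sol : Group.IsSolvable K := by
    have := ht.solv
    exact solvable_of_surjective (f := (⊤ : Subgroup K).subtype) fun x => ⟨⟨x, trivial⟩, rfl⟩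
  have hK : ∀ r : ℕ, r.Prime → r ∣ Nat.card K → r = 2 ∨ r = 3 := fun r a b => ht r a (by simpa using b)
  have cF : centralizer (F : Set K) ≤ F := cen23 sol hK h2
  let π := QuotientGroup.mk' F
  have m : ∀ g, π g = 1 ↔ g ∈ F := QuotientGroup.eq_one_iff
  have cE : centralizer (pCore 2 (K ⧸ F) : Set (K ⧸ F)) ≤ pCore 2 (K ⧸ F) :=
    cen23 (p := 3) inferInstance (fun r a b => (hK r a (b.trans (card_quotient_dvd_card F))).symm)
      (H18.pCore_quotient_pCore 3)
  have o0 : orderOf (π w₀) = 3 := orderOf_eq_prime (by rw [← map_pow, h0, map_one]) (mt (m _).1 r)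
  set E := (pCore 2 (K ⧸ F)).comap π with eE
  obtain ⟨E₀, hE⟩ := exists_isSyl 2 E
  have mE : E₀.map π = pCore 2 (K ⧸ F) := by
    have := hE.map π
    rw [eE, map_comap_eq_self_of_surjective (QuotientGroup.mk'_surjective F)] at this
    exact this.eq_of_isPGroup (isPGroup_pCore 2 _)
  obtain ⟨a, an, n, nE, e⟩ := hE.frattini_mem (g := w₀) (le_normalizer_of_normal (mem_top _))
  obtain ⟨n', n'E, e'⟩ : π n ∈ E₀.map π := mE.ge nE
  obtain ⟨o, e4⟩ := lift3 hs π (g := a * n') (by rwa [e, map_mul, ← e', ← map_mul] at o0)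
  set w := (a * n') ^ 4 with ew
  have wn : w ∈ normalizer (E₀ : Set K) := pow_mem (mul_mem an (le_normalizer n'E)) 4
  have w3 : w ^ 3 = 1 := o ▸ pow_orderOf_eq_one w
  have πw : π w = π w₀ := by rw [e4, e, map_mul, map_mul, e']
  set B := ⁅E₀, zpowers w⁆ with eB
  have BE : B ≤ E₀ := commutator_le_left' (zpowers_le.2 wn)
  have B2 : IsPGroup 2 B := hE.isPGroup.to_le BE
  have BB : ⁅B, zpowers w⁆ = B := commutator_commutator_eq (p3 o)
    (not_dvd_card_of_isPGroup_ne Nat.prime_three (by norm_num) hE.isPGroup) (zpowers_le.2 wn)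
  have wB : zpowers w ≤ normalizer (B : Set K) := le_normalizer_of_commutator_eq BB
  have Bne : B ≠ ⊥ := fun b => by
    have := map_le_centralizer_map π (le_centralizer_iff.1 (commutator_eq_bot_iff_le_centralizer.1 b))
    rw [mE] at this
    have := two_dvd_order (isPGroup_pCore 2 _) (cE (this (mem_map_of_mem π (mem_zpowers w))))
      (by rw [πw]; exact mt (m _).1 r)
    rw [πw, o0] at this; omega
  have P3 : ∀ x ∈ F ⊔ zpowers w, x ^ 3 = 1 := fun x hx => by
    obtain ⟨k, hk⟩ := isPGroup_iff_forall.1 (F3.to_sup_of_normal_left (p3 o)) x hx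
    exact exp3 hs hk
  have fin : ∀ t : K, t * t = 1 → ⁅⁅F, zpowers t⁆, zpowers t⁆ ≤ ⁅F, F⁆ → t = 1 := fun t t2 h => by
    have := res_le_cent_of_comm F3 le_normalizer_of_normal h
    rw [res_eq_self_of_isPGroup_prime Nat.prime_two (by norm_num) (isPGroup_two t2)] at this
    exact eq_one_of_pow (q := 2) (by norm_num) F3 (cF (this (mem_zpowers t))) (by rwa [pow_two])
  have wZ := le_normalizer_oz (p := 2) wB (mem_zpowers w)
  have sq : ∀ x ∈ oz 2 B, x * x = 1 := fun x hx => by rw [← pow_two]; exact (ea_oz B).2 x hx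
  by_cases c : w ∈ centralizer (oz 2 B : Set K)
  · obtain ⟨⟨t, tZ⟩, t1⟩ := ne_bot_iff_exists_ne_one.1 (oz_ne_bot B2 Bne)
    have tw : Commute t w := c t tZ
    have ti : t⁻¹ = t := inv_eq_of_mul_eq_one_right (sq t tZ)
    have wD : zpowers w ≤ centralizer ((⁅F, zpowers t⁆ : Subgroup K) : Set K) := by
      rw [le_centralizer_iff, cen_zp, commutator_le]
      intro g hg s hs'
      have gF : ⁅g, s⁆ ∈ F := commutator_le_left F _ (commutator_mem_commutator hg hs')
      have inv : t * ⁅g, s⁆ * t⁻¹ = ⁅g, s⁆⁻¹ := by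
        obtain ⟨k, rfl⟩ := mem_zpowers_iff.1 hs'
        rcases Int.even_or_odd' k with ⟨j, rfl | rfl⟩
        · rw [zpow_mul, zpow_two, sq t tZ]; simp
        · have : t ^ (2 * j + 1) = t := by rw [zpow_add, zpow_mul, zpow_two, sq t tZ]; simp
          rw [this, commutatorElement_def, ti]
          calc _ = t * g * t * g⁻¹ * (t * t) := by group
            _ = t⁻¹ * g * t⁻¹ * g⁻¹ := by rw [sq t tZ, ti, mul_one]
            _ = _ := by group
      generalize ⁅g, s⁆ = f at gF inv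
      have fP := mem_sup_left (T := zpowers w) gF
      have wP := mem_sup_right (S := F) (mem_zpowers w)
      have a1 := engel (P3 _ (mul_mem wP fP)) (P3 _ (mul_mem wP (inv_mem fP))) (P3 _ fP)
      have a2 := engel (P3 _ (mul_mem fP wP)) (P3 _ (mul_mem fP (inv_mem wP))) w3
      have zf : Commute (w * f * w⁻¹ * f⁻¹) f := a2.symm.mul_left (Commute.refl f).inv_left
      have := e3 w f t _ rfl w3 (P3 _ (mul_mem (mul_mem (mul_mem wP fP) (inv_mem wP)) (inv_mem fP)))
        (sq t tZ) tw (by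
          have : w * f * w⁻¹ * f⁻¹ = w * (f * w * f⁻¹)⁻¹ := by group
          rw [this]; exact (Commute.refl w).mul_left a1.symm.inv_left) zf (by
          have tw' : t * w * t⁻¹ = w := by rw [tw.eq]; group
          calc _ = (t * w * t⁻¹) * (t * f * t⁻¹) * (t * w * t⁻¹)⁻¹ * (t * f * t⁻¹)⁻¹ *
                (w * f * w⁻¹ * f⁻¹) := by group
            _ = (w * f * w⁻¹)⁻¹ * (f * (w * f * w⁻¹ * f⁻¹)) := by rw [tw', inv]; group
            _ = 1 := by rw [← zf.eq]; group)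
      exact mem_centralizer_singleton_iff.2 (by
        rw [mul_inv_eq_one, mul_inv_eq_iff_eq_mul] at this; exact this.symm)
    have BD : B ≤ centralizer ((⁅F, zpowers t⁆ : Subgroup K) : Set K) := BB ▸ commutator_le_of_norm wD
      (le_normalizer_centralizer (le_normalizer_commutator le_normalizer_of_normal
        (le_normalizer_of_le_centralizer ((le_centralizer_oz B).trans (centralizer_anti (zpowers_le.2 tZ))))))
    exact t1 (Subtype.ext (fin t (sq t tZ) (le_of_eq_of_le (commutator_eq_bot_iff_le_centralizer.2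
      (le_centralizer_iff.1 (zpowers_le.2 (BD (oz_le B tZ))))) bot_le)))
  obtain ⟨x, xZ, xw⟩ : ∃ x ∈ oz 2 B, ¬ x * w = w * x := by
    by_contra! h; exact c h
  have x1 := conj_mem_of_mem_normalizer wZ xZ
  have x2 := conj_mem_of_mem_normalizer wZ x1
  have cz := fun a (ha : a ∈ oz 2 B) b (hb : b ∈ oz 2 B) => H12.ea_comm (ea_oz B) ha hb
  letI := cg (abV_comm F)
  let φ : K →* MulAut (abV F) := MulAut.conjNormal.comp (QuotientGroup.mk' _)
  have bZ := mul_mem xZ x1
  have b1 := conj_mem_of_mem_normalizer wZ bZ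
  have := H26.OC.a4 (α := φ (x * (w * x * w⁻¹))) (β := φ (w * (x * (w * x * w⁻¹)) * w⁻¹)) (η := φ w)
    (fun v hv => Subtype.ext (eq_one_of_pow (q := 2) (by norm_num) (F3.map _) v.2
      (by rw [pow_two]; exact congrArg Subtype.val hv)))
    (by rw [← map_mul, sq _ bZ, map_one]) (by rw [← map_mul, ← map_mul, cz _ bZ _ b1])
    (by rw [← map_inv, ← map_mul, ← map_mul]) (by
      rw [← map_inv, ← map_mul, ← map_mul, ← map_mul]
      congr 1
      calc _ = (w * (w * x * w⁻¹) * w⁻¹) * (w ^ 3 * x * (w ^ 3)⁻¹) := by simp [pow_succ, mul_assoc]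
        _ = x * ((w * x * w⁻¹) * (w * x * w⁻¹)) * (w * (w * x * w⁻¹) * w⁻¹) := by
          rw [w3, sq _ x1, one_mul, inv_one, mul_one, cz _ xZ _ x2]
        _ = _ := by group)
    fun ⟨_, g, hg, rfl⟩ => by
      have e1 := P3 _ (mul_mem (mem_sup_left hg) (mem_sup_right (mem_zpowers w)))
      have : g * (w * g * w⁻¹) * (w * (w * g * w⁻¹) * w⁻¹) = 1 := by
        rw [← e1, ← mul_one (_ * _ * _), ← w3, pow_three, pow_three]; group
      have := congrArg (QuotientGroup.mk' ⁅F, F⁆) this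
      exact Subtype.ext (by simpa [φ] using this)
  have := fin _ (sq _ bZ) ((cc_le _ _).trans
    (abV_cen (conj_one_iff.1 this)))
  apply xw
  rw [mul_inv_eq_iff_eq_mul.1 (eq_inv_of_mul_eq_one_right this), inv_eq_of_mul_eq_one_right (sq x xZ)]

theorem jobL232 : JobL232.{u} := by
  intro e3 G _ _ X hs hX ht
  let π := QuotientGroup.mk' (pCore 2 X)
  have m : ∀ g : X, π g = 1 ↔ (g : G) ∈ pCoreOf 2 X := fun g => by
    rw [← mem_subgroupOf, pCoreOf_subgroupOf]; exact QuotientGroup.eq_one_iff g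
  have s' : Sp 8 (X ⧸ pCore 2 X) := (hs.sub X).quot _
  refine ⟨((pCore 3 _).comap π).map X.subtype, fun x hx => ⟨⟨x, pCoreOf_le X hx⟩, ?_, rfl⟩,
    map_subtype_le _, le_normalizer_map_subtype _, ?_, fun x hx o => ⟨⟨x, hx⟩, ?_, rfl⟩⟩
  · exact mem_comap.2 (by rw [(m _).2 hx]; exact one_mem _)
  · rintro _ ⟨x, hx, rfl⟩
    obtain ⟨k, hk⟩ := isPGroup_iff_forall.1 (isPGroup_pCore 3 _) _ (mem_comap.1 hx)
    exact (m (x ^ 3)).1 (by rw [map_pow, exp3 s' hk])
  refine mem_comap.2 (l232 s' (fun p hp hd => ht p hp (by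
    simpa using hd.trans (by simpa using card_quotient_dvd_card (pCore 2 X))))
    (H18.pCore_quotient_pCore 2) (fun w f t z => ?_) ?_)
  · obtain ⟨w, rfl⟩ := QuotientGroup.mk'_surjective _ w
    obtain ⟨f, rfl⟩ := QuotientGroup.mk'_surjective _ f
    obtain ⟨t, rfl⟩ := QuotientGroup.mk'_surjective _ t
    rintro rfl a b c d e g h
    have k : ∀ a b : X, Commute (π a) (π b) → (a * b * a⁻¹ * b⁻¹ : G) ∈ pCoreOf 2 X := fun a b h =>
      (m (a * b * a⁻¹ * b⁻¹)).1 (by simp only [map_mul, map_inv, h.eq]; group)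
    simp only [← map_inv, ← map_mul, ← map_pow] at *
    exact (m _).2 (e3 G X _ w f t _ hs hX rfl w.2 f.2 t.2 rfl ((m _).1 a) ((m _).1 b) ((m _).1 c)
      (k _ _ d) (k _ _ e) (k _ _ g) ((m _).1 h))
  · rw [← map_pow, m]
    simp [← o, one_mem]

end H74.O8
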