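import Cfsg.Agent.H74.O8Spec
import Cfsg.Agent.H26.OCRad
import Cfsg.Agent.H98.Coprime
import Cfsg.Agent.H83.OrdA

/-! Kit for the tower O8. -/

set_option autoImplicit false

namespace H74.O8

open Cfsg Subgroup H98 H74.OC

universe u

variable {G : Type u} [Group G] [Finite G]

local instance : Fact (Nat.Prime 2) := ⟨Nat.prime_two⟩

theorem eq_or_eq_of_card {A B C : Subgroup G} {p : ℕ} (hp : p.Prime) (h1 : A ≤ B) (h2 : B ≤ C)
    (hc : Nat.card C = p * Nat.card A) : B = A ∨ B = C := by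
  obtain ⟨a, ha⟩ := card_dvd_of_le h1
  obtain ⟨b, hb⟩ := card_dvd_of_le h2
  have : a * b = p := Nat.eq_of_mul_eq_mul_left (Nat.card_pos (α := A)) (by
    rw [← mul_assoc, ← ha, ← hb, hc, mul_comm])
  rcases (Nat.dvd_prime hp).1 ⟨b, this.symm⟩ with e | e
  · exact .inl (eq_of_le_of_card_ge h1 (by rw [ha, e, mul_one])).symm
  · exact .inr (eq_of_le_of_card_ge h2 (by rw [hc, ha, e, mul_comm]))

theorem two_dvd_order {U : Subgroup G} (hU : IsPGroup 2 U) {x : G} (hx : x ∈ U) (h1 : x ≠ 1) :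
    2 ∣ orderOf x := by
  obtain ⟨k, hk⟩ := isPGroup_iff_forall.1 hU x hx
  obtain ⟨j, -, e⟩ := (Nat.dvd_prime_pow Nat.prime_two).1 (orderOf_dvd_of_pow_eq_one hk)
  rcases j with _ | j
  · exact absurd (orderOf_eq_one_iff.1 e) h1
  · exact e ▸ dvd_pow_self 2 j.succ_ne_zero

/-- Elements of order 5 or 7 are fixed point free on 2-subgroups. -/
theorem fpf (h : Sp 8 G) {σ : G} (hσ : orderOf σ = 5 ∨ orderOf σ = 7) {U : Subgroup G}
    (hU : IsPGroup 2 U) : U ⊓ centralizer ({σ} : Set G) = ⊥ := by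
  refine eq_bot_iff.2 fun x hx => by_contra fun r => ?_
  have c : Commute x σ := mem_centralizer_singleton_iff.1 hx.2
  rcases hσ with e | e
  · have := H26.OC.pr h c Nat.prime_two (by norm_num : Nat.Prime 5) (two_dvd_order hU hx.1 r)
      (e ▸ dvd_rfl) (by norm_num)
    omega
  · have := H26.OC.pr h c Nat.prime_two (by norm_num : Nat.Prime 7) (two_dvd_order hU hx.1 r)
      (e ▸ dvd_rfl) (by norm_num)
    omega

/-- A 2-subgroup centralising an element of order 3 is elementary abelian. -/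
theorem el3 (h : Sp 8 G) {x : G} (hx : orderOf x = 3) {U : Subgroup G} (hU : IsPGroup 2 U)
    (hc : U ≤ centralizer ({x} : Set G)) : IsElementaryAbelian 2 U := by
  have sq : ∀ a ∈ U, a ^ 2 = 1 := fun a ha => by
    obtain ⟨k, hk⟩ := isPGroup_iff_forall.1 hU a ha
    obtain ⟨j, -, e⟩ := (Nat.dvd_prime_pow Nat.prime_two).1 (orderOf_dvd_of_pow_eq_one hk)
    have := h.mul_le (mem_centralizer_singleton_iff.1 (hc ha)) (by
      rw [e, hx]; exact Nat.Coprime.pow_left j (by norm_num))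
    rw [e, hx] at this
    have hj : j ≤ 1 := by
      by_contra r
      have := Nat.pow_le_pow_right (show 0 < 2 by norm_num) (show 2 ≤ j by omega)
      omega
    exact orderOf_dvd_iff_pow_eq_one.1 (e ▸ (pow_dvd_pow 2 hj).trans (by norm_num))
  refine H12.ea_of (fun a ha b hb => ?_) sq
  have h1 := sq a ha
  have h2 := sq b hb
  have h3 := sq _ (mul_mem ha hb)
  rw [pow_two] at h1 h2 h3
  calc a * b = a * (a * b * (a * b)) * b := by rw [h3, mul_one]
    _ = (a * a) * b * a * (b * b) := by group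
    _ = b * a := by rw [h1, h2, one_mul, mul_one]

theorem exp3 (h : Sp 8 G) {x : G} {k : ℕ} (hx : x ^ 3 ^ k = 1) : x ^ 3 = 1 := by
  obtain ⟨j, -, e⟩ := (Nat.dvd_prime_pow Nat.prime_three).1 (orderOf_dvd_of_pow_eq_one hx)
  have := h x
  have hj : j ≤ 1 := by
    by_contra r
    have := Nat.pow_le_pow_right (show 0 < 3 by norm_num) (show 2 ≤ j by omega)
    omega
  exact orderOf_dvd_iff_pow_eq_one.1 (e ▸ (pow_dvd_pow 3 hj).trans (by norm_num))

theorem t23_of_cen (h : Sp 8 G) {z : G} (h1 : z ≠ 1) (h2 : z ^ 2 = 1) {X : Subgroup G}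
    (hX : X ≤ centralizer ({z} : Set G)) : T23 X := fun p hp hd => by
  haveI := Fact.mk hp
  obtain ⟨x, hx⟩ := exists_prime_orderOf_dvd_card' (G := X) p hd
  by_contra r
  push Not at r
  have := H26.OC.pr h (mem_centralizer_singleton_iff.1 (hX x.2)) hp Nat.prime_two
    (by rw [orderOf_coe, hx]) (by rw [orderOf_eq_prime h2 h1]) r.1
  have h4 : p ≠ 4 := by rintro rfl; norm_num at hp
  have := hp.two_le
  omega

theorem T23.solv {X : Subgroup G} (h : T23 X) : Group.IsSolvable X := by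
  by_contra r
  obtain ⟨x, a, b⟩ := H26.OC.big r
  rcases h _ a (orderOf_dvd_natCard x) with e | e <;> omega

omit [Finite G] in
theorem T23.mono {X Y : Subgroup G} (h : T23 X) (e : Y ≤ X) : T23 Y :=
  fun p hp hd => h p hp (hd.trans (card_dvd_of_le e))

/-- Fixed points of an element of prime order. -/
theorem card_modEq {U : Subgroup G} {x : G} {p : ℕ} (hp : p.Prime) (hx : orderOf x = p)
    (hn : x ∈ normalizer (U : Set G)) :
    Nat.card U ≡ Nat.card (U ⊓ centralizer ({x} : Set G) : Subgroup G) [MOD p] := by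
  haveI := Fact.mk hp
  exact H83.Ord.conj_modEq (hx ▸ pow_orderOf_eq_one x) hn

/-- An element whose image has order at least 5 has that order. -/
theorem ord_eq (h : Sp 8 G) {K : Type*} [Group K] (f : G →* K) {g : G} {n : ℕ} (hn : 5 ≤ n)
    (e : orderOf (f g) = n) : orderOf g = n := by
  obtain ⟨k, hk⟩ := e ▸ orderOf_map_dvd f g
  have a := h g
  have b := orderOf_pos g
  rcases k with _ | _ | k
  · omega
  · omega
  · nlinarith

/-- Lifting an element of order 3. -/
theorem lift3 (h : Sp 8 G) {K : Type*} [Group K] (f : G →* K) {g : G} (e : orderOf (f g) = 3) :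
    orderOf (g ^ 4) = 3 ∧ f (g ^ 4) = f g := by
  have a := e ▸ orderOf_map_dvd f g
  have b := h g
  have c := orderOf_pos g
  refine ⟨?_, by rw [map_pow, pow_succ, ← e, pow_orderOf_eq_one, one_mul]⟩
  rw [orderOf_pow' g (by norm_num)]
  obtain r | r : orderOf g = 3 ∨ orderOf g = 6 := by omega
  all_goals rw [r]; norm_num

namespace S3T

variable {S H W : Subgroup G}

theorem syl (h : S3T S H W) : IsSyl 2 S H := ⟨h.le2, h.two, fun Q hQ a b => by
  rcases eq_or_eq_of_card Nat.prime_three a b h.c2 with e | rfl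
  · exact e
  · obtain ⟨n, hn⟩ := hQ.exists_card_eq
    have : 3 ∣ 2 ^ n := hn ▸ h.c2 ▸ dvd_mul_right 3 _
    exact absurd (Nat.prime_three.dvd_of_dvd_pow this) (by norm_num)⟩

theorem ovr (h : S3T S H W) {K : Subgroup G} (h1 : S ≤ K) (h2 : K ≤ H) : K = S ∨ K = H :=
  eq_or_eq_of_card Nat.prime_three h1 h2 h.c2

theorem ovr' (h : S3T S H W) {K : Subgroup G} (h1 : W ≤ K) (h2 : K ≤ S) : K = W ∨ K = S :=
  eq_or_eq_of_card Nat.prime_two h1 h2 h.c1

omit [Finite G] in
theorem twoW (h : S3T S H W) : IsPGroup 2 W := h.two.to_le h.le1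

theorem core_eq (h : S3T S H W) : pCoreOf 2 H = W :=
  (h.ovr' (le_pCoreOf h.twoW (h.le1.trans h.le2) h.nor) h.syl.pCoreOf_le).resolve_right fun e =>
    h.nn (e ▸ self_le_normalizer_pCoreOf H)

theorem core (h : S3T S H W) {B : Subgroup G} (h2 : IsPGroup 2 B) (hB : B ≤ H)
    (hn : H ≤ normalizer (B : Set G)) : B ≤ W := h.core_eq ▸ le_pCoreOf h2 hB hn

theorem nor_le (h : S3T S H W) : H ⊓ normalizer (S : Set G) ≤ S :=
  ((h.ovr (le_inf h.le2 le_normalizer) inf_le_left).resolve_right fun e =>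
    h.nn (e.ge.trans inf_le_right)).le

/-- A subgroup normalised by `H` and containing `S` contains `H`. -/
theorem ncl (h : S3T S H W) {K : Subgroup G} (h1 : S ≤ K) (hn : H ≤ normalizer (K : Set G)) :
    H ≤ K := by
  rcases h.ovr (le_inf h.le2 h1) inf_le_left with e | e
  · exact absurd (e ▸ le_normalizer_inf le_normalizer hn) h.nn
  · exact e.ge.trans inf_le_right

theorem t23 (h : S3T S H W) : T23 H := fun p hp hd => by
  obtain ⟨n, hn⟩ := h.two.exists_card_eq
  rw [h.c2, hn] at hd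
  rcases (Nat.Prime.dvd_mul hp).1 hd with e | e
  · exact .inr ((Nat.prime_dvd_prime_iff_eq hp Nat.prime_three).1 e)
  · exact .inl ((Nat.prime_dvd_prime_iff_eq hp Nat.prime_two).1 (hp.dvd_of_dvd_pow e))

theorem ex3 (h : S3T S H W) : ∃ x ∈ H, orderOf x = 3 := by
  haveI := Fact.mk Nat.prime_three
  obtain ⟨x, hx⟩ := exists_prime_orderOf_dvd_card' (G := H) 3 (h.c2 ▸ dvd_mul_right 3 _)
  exact ⟨x, x.2, by rw [orderOf_coe, hx]⟩

theorem not_mem (h : S3T S H W) {x : G} (hx : orderOf x = 3) : x ∉ S := fun e => by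
  have := two_dvd_order h.two e (by rintro rfl; simp at hx)
  omega

theorem sup (h : S3T S H W) {x : G} (hx : x ∈ H) (ho : orderOf x = 3) : S ⊔ zpowers x = H :=
  (h.ovr le_sup_left (sup_le h.le2 (zpowers_le.2 hx))).resolve_left fun e =>
    h.not_mem ho (e.le (mem_sup_right (mem_zpowers x)))

theorem iso (h : S3T S H W) :
    ∃ f : H →* Equiv.Perm (Fin 3), Function.Surjective f ∧ f.ker = W.subgroupOf H := by
  classical
  have i3 : (S.subgroupOf H).index = 3 := Nat.eq_of_mul_eq_mul_right (Nat.card_pos (α := S)) (by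
    rw [← h.c2, ← index_mul_card (S.subgroupOf H), Nat.card_congr (subgroupOfEquivOfLe h.le2).toEquiv])
  haveI := Fintype.ofFinite (H ⧸ S.subgroupOf H)
  let e : (H ⧸ S.subgroupOf H) ≃ Fin 3 := Fintype.equivFinOfCardEq (by
    rw [← Nat.card_eq_fintype_card]; exact i3)
  let f := e.permCongrHom.toMonoidHom.comp (MulAction.toPermHom H (H ⧸ S.subgroupOf H))
  have k : f.ker = W.subgroupOf H := by
    have k1 : f.ker = (S.subgroupOf H).normalCore := by
      rw [normalCore_eq_ker, ← MonoidHom.comap_ker, (MonoidHom.ker_eq_bot_iff _).2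
        e.permCongrHom.injective, MonoidHom.comap_bot]
    rw [k1, ← h.core_eq, pCoreOf_subgroupOf]
    refine le_antisymm (le_sSup (show _ ∈ {N : Subgroup H | N.Normal ∧ IsPGroup 2 N} from
      ⟨inferInstance, (isPGroup_subgroupOf h.two H).to_le (normalCore_le _)⟩)) ?_
    refine normal_le_normalCore.2 ?_
    rw [← pCoreOf_subgroupOf]
    exact fun x hx => h.syl.pCoreOf_le hx
  refine ⟨f, ?_, k⟩
  rw [← MonoidHom.range_eq_top, ← card_eq_iff_eq_top, ← index_ker, k, Nat.card_perm, Nat.card_fin]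
  exact Nat.eq_of_mul_eq_mul_right (Nat.card_pos (α := W)) (by
    rw [← Nat.card_congr (subgroupOfEquivOfLe (h.le1.trans h.le2)).toEquiv, index_mul_card,
      Nat.card_congr (subgroupOfEquivOfLe (h.le1.trans h.le2)).toEquiv, h.c2, h.c1, ← mul_assoc]
    rfl)

/-- Elements of `S \ W` invert the elements of order 3 modulo `W`. -/
theorem inv (h : S3T S H W) {s x : G} (hs : s ∈ S) (hs' : s ∉ W) (hx : x ∈ H) (ho : orderOf x = 3) :
    s * x * s⁻¹ * x ∈ W := by
  obtain ⟨f, -, k⟩ := h.iso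
  have m : ∀ a : H, f a = 1 ↔ (a : G) ∈ W := fun a => by rw [← MonoidHom.mem_ker, k, mem_subgroupOf]
  have key : ∀ a b : Equiv.Perm (Fin 3), a ≠ 1 → a * a = 1 → b ^ 3 = 1 → a * b * a⁻¹ * b = 1 := by
    decide
  have s2 : s * s ∈ W := by
    haveI : (W.subgroupOf S).Normal := (normal_subgroupOf_iff_le_normalizer h.le1).2 (h.le2.trans h.nor)
    have i2 : (W.subgroupOf S).index = 2 := Nat.eq_of_mul_eq_mul_right (Nat.card_pos (α := W)) (by
      rw [← h.c1, ← index_mul_card (W.subgroupOf S), Nat.card_congr (subgroupOfEquivOfLe h.le1).toEquiv])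
    exact mul_self_mem_of_index_two i2 ⟨s, hs⟩
  have := key (f ⟨s, h.le2 hs⟩) (f ⟨x, hx⟩) (fun e => hs' ((m _).1 e))
    (by rw [← map_mul, m]; exact s2)
    (by rw [← map_pow, m]; simp [← ho, one_mem])
  rw [← map_inv, ← map_mul, ← map_mul, ← map_mul, m] at this
  exact this

/-- `W⟨x⟩` is normal in `H`. -/
theorem nor3 (h : S3T S H W) {x : G} (hx : x ∈ H) (ho : orderOf x = 3) :
    H ≤ normalizer ((W ⊔ zpowers x : Subgroup G) : Set G) := by
  rw [← h.sup hx ho]
  refine sup_le (fun s hs => mem_normalizer_of_cj_le ?_) (le_sup_right.trans le_normalizer)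
  rw [cj_sup, cj_eq_self (h.nor (h.le2 hs))]
  refine sup_le le_sup_left ((MonoidHom.map_zpowers _ x).le.trans (zpowers_le.2 ?_))
  change s * x * s⁻¹ ∈ _
  have m : x ∈ W ⊔ zpowers x := mem_sup_right (mem_zpowers x)
  by_cases r : s ∈ W
  · exact mul_mem (mul_mem (mem_sup_left r) m) (inv_mem (mem_sup_left r))
  · have := mul_mem (mem_sup_left (h.inv hs r hx ho)) (inv_mem m)
    rwa [mul_inv_cancel_right] at this

theorem of_index (h2 : IsPGroup 2 S) (hle : S ≤ H) (hc : Nat.card H = 3 * Nat.card S)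
    (hn : ¬ H ≤ normalizer (S : Set G)) : S3T S H (pCoreOf 2 H) := by
  have sy : IsSyl 2 S H := ⟨hle, h2, fun Q hQ a b => by
    rcases eq_or_eq_of_card Nat.prime_three a b hc with e | rfl
    · exact e
    · obtain ⟨n, hn⟩ := hQ.exists_card_eq
      have : 3 ∣ 2 ^ n := hn ▸ hc ▸ dvd_mul_right 3 _
      exact absurd (Nat.prime_three.dvd_of_dvd_pow this) (by norm_num)⟩
  refine ⟨h2, sy.pCoreOf_le, hle, self_le_normalizer_pCoreOf H, ?_, hc, hn⟩
  have i3 : (S.subgroupOf H).index = 3 := Nat.eq_of_mul_eq_mul_right (Nat.card_pos (α := S)) (by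
    rw [← hc, ← index_mul_card (S.subgroupOf H), Nat.card_congr (subgroupOfEquivOfLe hle).toEquiv])
  have d6 : (S.subgroupOf H).normalCore.index ∣ 6 := by
    rw [normalCore_eq_ker, index_ker]
    refine (card_subgroup_dvd_card _).trans ?_
    rw [Nat.card_perm, show Nat.card (H ⧸ S.subgroupOf H) = 3 from i3]
    rfl
  have le : (S.subgroupOf H).normalCore ≤ pCore 2 H :=
    le_sSup (show _ ∈ {N : Subgroup H | N.Normal ∧ IsPGroup 2 N} from
      ⟨inferInstance, (isPGroup_subgroupOf h2 H).to_le (normalCore_le _)⟩)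
  have d := (index_dvd_of_le le).trans d6
  obtain ⟨a, ha⟩ := card_dvd_of_le (sy.pCoreOf_le)
  have e : (pCore 2 H).index = 3 * a := Nat.eq_of_mul_eq_mul_right
    (Nat.card_pos (α := pCoreOf 2 H)) (by
      rw [mul_assoc, mul_comm a, ← ha, ← hc, ← index_mul_card (pCore 2 H), ← pCoreOf_subgroupOf,
        Nat.card_congr (subgroupOfEquivOfLe (pCoreOf_le H)).toEquiv])
  rw [e] at d
  rcases (Nat.dvd_prime Nat.prime_two).1 (Nat.dvd_of_mul_dvd_mul_left (by norm_num : 0 < 3)
    (show 3 * a ∣ 3 * 2 from d)) with r | r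
  · have := eq_of_le_of_card_ge sy.pCoreOf_le (by rw [ha, r, mul_one])
    exact absurd (this ▸ self_le_normalizer_pCoreOf H) hn
  · rw [ha, r, mul_comm]

end S3T

namespace Mx

variable {M Q : Subgroup G}

theorem nor_oz (h : Mx M Q) : normalizer (oz 2 Q : Set G) = M :=
  h.max _ (isPGroup_oz Q) (oz_ne_bot h.two h.ne) (le_normalizer_oz h.nor)

theorem nor_jt (h : Mx M Q) : normalizer (jt 2 Q : Set G) = M := by
  refine h.max _ (h.two.to_le (jt_le Q)) (H12.thompsonSubgroupOf_ne_bot ?_) (le_normalizer_jt h.nor)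
  obtain ⟨n, hn⟩ := h.two.exists_card_eq
  rcases n with _ | n
  · exact absurd (card_eq_one.1 hn) h.ne
  · exact hn ▸ dvd_pow_self 2 n.succ_ne_zero

omit [Finite G] in
theorem oz_le (h : Mx M Q) {T : Subgroup G} (hT : Q ≤ T) : oz 2 T ≤ oz 2 Q :=
  oz_le_oz hT ((oz_le_centralizer T).trans ((centralizer_le hT).trans h.cen))

end Mx

namespace Typ

variable {M Q : Subgroup G} {k : ℕ}

/-- `M` centralises no nontrivial 2-subgroup. -/
theorem cen_bot (h : Typ M Q k) (hs : Sp 8 G) {U : Subgroup G} (hU : IsPGroup 2 U)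
    (hc : M ≤ centralizer (U : Set G)) : U = ⊥ := by
  obtain ⟨σ, a, b⟩ := h.sig
  rw [← fpf hs b hU, eq_comm, inf_eq_left]
  exact fun x hx => mem_centralizer_singleton_iff.2 (hc a x hx)

theorem cenV (h : Typ M Q k) (hs : Sp 8 G) (hM : Mx M Q) : centralizer (oz 2 Q : Set G) = Q := by
  have c : centralizer (oz 2 Q : Set G) ≤ M := hM.nor_oz ▸ centralizer_le_normalizer _
  refine le_antisymm ((h.simp _ c (hM.nor_oz ▸ normalizer_le_normalizer_centralizer _)).resolve_right
    fun e => oz_ne_bot hM.two hM.ne (h.cen_bot hs (isPGroup_oz Q) ?_)) (le_centralizer_oz Q)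
  exact e.ge.trans (sup_le le_rfl (le_centralizer_oz Q))

end Typ

theorem Big.cen (h : Big G) {B : Subgroup G} (h2 : IsPGroup 2 B) (hb : B ≠ ⊥) :
    H98.CharP 2 (centralizer (B : Set G)) :=
  (h.ch B h2 hb).normal (centralizer_le_normalizer _) (normalizer_le_normalizer_centralizer B)

theorem Big.cen1 (h : Big G) {z : G} (h1 : z ≠ 1) (h2 : z ^ 2 = 1) :
    H98.CharP 2 (centralizer ({z} : Set G)) := by
  have := h.cen (B := zpowers z) (isPGroup_zpowers (k := 1) (by simpa using h2)) (by simpa using h1)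
  rwa [zpowers_eq_closure, centralizer_closure] at this

theorem Big.card_syl (h : Big G) {S : Subgroup G} (hS : IsSyl 2 S ⊤) : 256 ≤ Nat.card S := by
  rw [hS.card_eq, card_top]
  exact Nat.pow_le_pow_right (n := 2) (by norm_num) (i := 8)
    ((Nat.prime_two.pow_dvd_iff_le_factorization Nat.card_pos.ne').1 h.dvd)

end H74.O8
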