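import Cfsg.Agent.H51.TESpec

/-! Tower TE, part 2 (S1308): job KX1. -/

set_option autoImplicit false

namespace H74.TE2KX1

open Cfsg Subgroup MulAction H14 H98 H1.Gold H31.S2 H14.GC H14.FE H14.NF H51.TE
open scoped commutatorElement

universe u

theorem job : JobKX1.{u} := by
  intro kp G _ _ K E Q₁ T h x t₁ hx ⟨k, hk, t₀, ht₀, t01, e⟩ P hPX hP hxP htP hne
  have tg := h.gx.tg
  have elT : El T := pt_el tg h.col.p2
  have hXK : K ⊔ T ≤ nor K := sup_le le_normalizer h.nk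
  have hKQ : K ≤ cen (cen K) := fun a ha => mem_centralizer_iff.2 fun b hb =>
    (mem_centralizer_iff.1 hb a ha).symm
  have hXE : K ⊔ T ≤ cen E := sup_le (hKQ.trans (centralizer_le tg.le)) h.col.comm
  have hXQ : K ⊔ T ≤ nor (cen K) := le_normalizer_centralizer hXK
  have hXE' : K ⊔ T ≤ nor E := hXE.trans (centralizer_le_normalizer _)
  have cmK : ∀ a ∈ K ⊔ T, ∀ b ∈ K ⊔ T, ⁅a, b⁆ ∈ K := by
    intro a ha b hb
    obtain ⟨a1, ha1, s, hs, rfl⟩ := (mem_sup_right_norm h.nk).1 ha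
    obtain ⟨b1, hb1, t, ht, rfl⟩ := (mem_sup_right_norm h.nk).1 hb
    have c := El.comm elT hs ht
    have : ⁅a1 * s, b1 * t⁆ = a1 * (s * b1 * s⁻¹) * (t * a1⁻¹ * t⁻¹) * b1⁻¹ := by
      calc ⁅a1 * s, b1 * t⁆ = a1 * s * b1 * (t * s⁻¹) * a1⁻¹ * t⁻¹ * b1⁻¹ := by
            rw [commutatorElement_def]; group
        _ = a1 * s * b1 * (s⁻¹ * (s * t) * s⁻¹) * a1⁻¹ * t⁻¹ * b1⁻¹ := by group
        _ = a1 * (s * b1 * s⁻¹) * (t * a1⁻¹ * t⁻¹) * b1⁻¹ := by rw [c]; group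
    rw [this]
    exact mul_mem (mul_mem (mul_mem ha1 (conj_mem_of_mem_normalizer (h.nk hs) hb1))
      (conj_mem_of_mem_normalizer (h.nk ht) (inv_mem ha1))) (inv_mem hb1)
  have colc : ∀ g ∈ K ⊔ T, Col (cen K) E (cen K) E (cj g Q₁) (cj g T) := fun g hg => by
    have := col_cj h.col g
    rwa [cj_eq_self (hXQ hg), cj_eq_self (hXE' hg)] at this
  have hxX : x ∈ K ⊔ T := hPX hxP
  have xi : x⁻¹ = x := inv_eq_of_mul_eq_one_right hx
  have c1 := colc k hk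
  set A := cj k Q₁ with hA
  set B := cj k T with hB
  have hBX : B ≤ K ⊔ T := cj_le_of_le_of_mem le_sup_right hk
  have hBA : B ≤ A := pt_le tg c1.p2
  have elB : El B := pt_el tg c1.p2
  have htB : t₁ ∈ B := e ▸ conj_mem_cj ht₀
  have t11 : t₁ ≠ 1 := fun e' => t01 (by rwa [e, conj_eq_one_iff] at e')
  have niA : NI (A ⊓ K) := by
    intro d hd h2
    have : d ∈ cj k (Q₁ ⊓ K) := by rw [cj_inf, cj_eq_self (hXK hk)]; exact hd
    refine h.ni _ (mem_cj.1 this) ?_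
    simpa using h2.conj k⁻¹
  have hxA : x ∉ nor A := fun hn => by
    have := niA.eq_one hP (comm_mem htP hxP)
      ⟨comm_mem_left (hBA htB) hn, cmK _ (hBX htB) _ hxX⟩
    exact hne (commutatorElement_eq_one_iff_mul_comm.1 this).symm
  have d1 : Dv E t₁ := dv_of c1.p2 htB t11
  have cm := h.p1 _ _ d1 (d1.conj x) P hP htP (mul_mem (mul_mem hxP htP) (inv_mem hxP))
  have hs : x * t₁ * x⁻¹ ∈ nor A := pt_cen tg c1.p2 (hBA htB) ⟨t11, elB _ htB⟩
    (mem_centralizer_singleton_iff.2 cm.symm)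
  have hBx : B ≤ nor (cj x A) :=
    tg.mn _ _ _ _ (pt_cj c1.p2 x) c1.p2 _ (conj_mem_cj htB) (d1.conj x).1 hs
  set M : Subgroup G := (K ⊔ T) ⊓ (nor A ⊓ nor (cj x A)) with hM
  have hBM : B ≤ M := le_inf hBX (le_inf (hBA.trans le_normalizer) hBx)
  have hxM : x ∈ nor M := by
    refine cj_eq_self_iff.1 ?_
    rw [hM, cj_inf, cj_inf, cj_eq_self_of_mem hxX, cj_normalizer, cj_normalizer, cj_cj x x, hx, cj_one,
      inf_comm (nor A)]
  have hU : IsPGroup 2 (zpowers x) := hP.to_le (zpowers_le.2 hxP)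
  obtain ⟨S, hS, hxS, hSM⟩ := exists_inv_syl hU (zpowers_le.2 hxM)
  have hxS' : x ∈ S := hxS (mem_zpowers x)
  obtain ⟨m, hm, hle⟩ := hSM.exists_cj_le (El.two elB) hBM
  have c2 := colc (m * k) (mul_mem hm.1 hk)
  rw [← cj_cj, ← cj_cj, ← hA, ← hB, cj_eq_self hm.2.1] at c2
  set B₁ := cj m B with hB₁
  have hB1X : B₁ ≤ K ⊔ T := hle.trans (inf_le_right.trans inf_le_left)
  have hB1S : B₁ ≤ S := hle.trans inf_le_left
  have elB1 : El B₁ := pt_el tg c2.p2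
  have cc : ∀ a ∈ B₁, ∀ b ∈ B₁, a * (x * b * x⁻¹) = x * b * x⁻¹ * a := by
    intro a ha b hb
    by_cases a1 : a = 1
    · simp [a1]
    by_cases b1 : b = 1
    · simp [b1]
    exact h.p1 _ _ (dv_of c2.p2 ha a1) ((dv_of c2.p2 hb b1).conj x) S hS.isPGroup (hB1S ha)
      (mul_mem (mul_mem hxS' (hB1S hb)) (inv_mem hxS'))
  obtain ⟨t, ht, t1, r, hr, hd⟩ := kp G _ E h.gx A B₁ c2 x hx (hXE hxX)
    (fun t ht => hKQ (cmK _ (hB1X ht) _ hxX)) (fun e' => hxA (cj_eq_self_iff.1 e'))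
    (fun b hb => mem_centralizer_iff.2 fun a ha => by
      have := cc a ha _ (mem_cj.1 hb)
      have e1 : x * (x⁻¹ * b * x) * x⁻¹ = b := by group
      rwa [e1] at this)
  have ti : t⁻¹ = t := inv_eq_of_mul_eq_one_right (elB1 t ht)
  refine ⟨t, ⟨m * k, mul_mem hm.1 hk, (m * k)⁻¹ * t * (m * k), ?_, fun e' => t1 ?_, by group⟩,
    fun e' => hxA ?_, ?_, r, hr, hd⟩
  · have : t ∈ cj (m * k) T := by rw [← cj_cj]; exact ht
    exact mem_cj.1 this
  · calc t = (m * k) * ((m * k)⁻¹ * t * (m * k)) * (m * k)⁻¹ := by group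
      _ = 1 := by rw [e']; group
  · exact pt_cen tg c2.p2 (pt_le tg c2.p2 ht) ⟨t1, elB1 t ht⟩
      (mem_centralizer_singleton_iff.2 (commutatorElement_eq_one_iff_mul_comm.1 e').symm)
  · have e1 : ⁅t, x⁆ = t * (x * t * x⁻¹) := by rw [commutatorElement_def, ti]; group
    have e2 := cc t ht t ht
    have e3 := elB1 t ht
    calc ⁅t, x⁆ * ⁅t, x⁆ = t * ((x * t * x⁻¹) * t) * (x * t * x⁻¹) := by rw [e1]; group
      _ = (t * t) * (x * (t * t) * x⁻¹) := by rw [← e2]; group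
      _ = 1 := by rw [e3]; group

end H74.TE2KX1
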