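/- Tower KU (S2196), slot Ar: torus assembly. -/
import Cfsg.Agent.H53.KUSpec

set_option autoImplicit false

namespace H74.KUAr

open H53.KU

section

variable {F : Type} [Field F] [Fintype F] {m q : ℕ}

theorem pow_qq (hF : Fintype.card F = q ^ 2) (x : Fˣ) : (x ^ q) ^ q = x := by
  apply Units.ext
  have := FiniteField.pow_card (x : F)
  rw [hF] at this
  simpa [← pow_mul, sq] using this

theorem eig_eig (hF : Fintype.card F = q ^ 2) (a : Fin m → Fˣ) (π : Equiv.Perm (Fin m)) (ε : Fin m → Bool)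
    (i : Fin m) (s : Bool) : eig q (sw q π ε a) i s = eig q a (π i) (xor s (ε i)) := by
  unfold eig
  rw [sw_apply]
  unfold eig
  cases s <;> cases ε i <;> simp [pow_qq hF]

theorem sw_sw (hF : Fintype.card F = q ^ 2) (π π' : Equiv.Perm (Fin m)) (ε ε' : Fin m → Bool) (a : Fin m → Fˣ) :
    sw q π ε (sw q π' ε' a) = sw q (π' * π) (fun i => xor (ε i) (ε' (π i))) a := by
  funext i
  rw [sw_apply, eig_eig hF, sw_apply]
  rfl

theorem sw_inv (hF : Fintype.card F = q ^ 2) (π : Equiv.Perm (Fin m)) (ε : Fin m → Bool) (a : Fin m → Fˣ) :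
    sw q π ε (sw q π⁻¹ (fun i => ε (π⁻¹ i)) a) = a := by
  rw [sw_sw hF]
  funext i
  simp [sw_apply, eig]

theorem eig_pow (hF : Fintype.card F = q ^ 2) (hq : 1 ≤ q) (a : Fin m → Fˣ) (i : Fin m) (s : Bool) :
    eig q a i s ^ (q - 1) = a i ^ (q - 1) := by
  unfold eig
  cases s
  · simp
  · have h := pow_qq hF (a i)
    obtain ⟨k, rfl⟩ : ∃ k, q = k + 1 := ⟨q - 1, by omega⟩
    simp only [if_true, Nat.add_sub_cancel, inv_pow]
    rw [inv_eq_iff_mul_eq_one]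
    have h2 : (a i ^ (k + 1)) ^ k * a i ^ k * a i = 1 * a i := by
      rw [mul_assoc, ← pow_succ, ← pow_succ, h, one_mul]
    exact mul_right_cancel h2

theorem sw_mem (hF : Fintype.card F = q ^ 2) (hq : 1 ≤ q) {o : Prop} (π : Equiv.Perm (Fin m)) (ε : Fin m → Bool)
    {a : Fin m → Fˣ} (ha : a ∈ Tor F m q o) : sw q π ε a ∈ Tor F m q o := by
  rcases mem_Tor.1 ha with h | h
  · exact mem_Tor.2 (Or.inl h)
  · refine mem_Tor.2 (Or.inr ?_)
    rw [← Finset.prod_pow] at h ⊢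
    simp only [sw_apply, eig_pow hF hq]
    rw [← h]
    exact Equiv.prod_comp π (fun i => a i ^ (q - 1))

theorem od_eq (hF : Fintype.card F = q ^ 2) (hq : 1 ≤ q) {o : Prop} {l l' : (Fin m → Fˣ) →* ℂˣ}
    (h : Cj q o l l') : od q o l = od q o l' := by
  obtain ⟨π, ε, h⟩ := h
  unfold od
  congr 2
  ext z
  constructor
  · rintro ⟨a, ha, rfl⟩
    have hb := sw_mem hF hq π⁻¹ (fun i => ε (π⁻¹ i)) ha
    exact ⟨_, hb, by rw [h _ hb, sw_inv hF]⟩
  · rintro ⟨a, ha, rfl⟩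
    exact ⟨_, sw_mem hF hq π ε ha, (h a ha).symm⟩

theorem cj_of_comp (hF : Fintype.card F = q ^ 2) (hq : 1 ≤ q) {o : Prop} (π : Equiv.Perm (Fin m)) (ε : Fin m → Bool)
    {l l' : (Fin m → Fˣ) →* ℂˣ} (h : Cj q o (l.comp (sw q π ε)) (l'.comp (sw q π ε))) : Cj q o l l' := by
  obtain ⟨σ, δ, h⟩ := h
  exact ⟨_, _, fun a ha => (congrArg l' (sw_inv hF π ε a).symm).trans
    ((h _ (sw_mem hF hq π⁻¹ (fun i => ε (π⁻¹ i)) ha)).trans
      (congrArg l ((congrArg (sw q π ε) (sw_sw hF σ π⁻¹ δ _ a)).trans (sw_sw hF π _ ε _ a))))⟩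

theorem in_comp (hF : Fintype.card F = q ^ 2) (hq : 1 ≤ q) {o : Prop} (π : Equiv.Perm (Fin m)) (ε : Fin m → Bool)
    {D : Subgroup (Fin m → Fˣ)} {l : (Fin m → Fˣ) →* ℂˣ} (h : In q o (D.map (sw q π ε)) l) :
    In q o D (l.comp (sw q π ε)) := by
  obtain ⟨⟨a, ha, hl⟩, h⟩ := h
  refine ⟨⟨_, sw_mem hF hq π⁻¹ (fun i => ε (π⁻¹ i)) ha, ?_⟩, fun d hd => h _ ⟨d, hd, rfl⟩⟩
  rwa [MonoidHom.comp_apply, sw_inv hF]

/-- Characters of every order dividing the order of the image of the torus. -/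
theorem chars (k1 : JobK1) {o : Prop} {D : Subgroup (Fin m → Fˣ)} (hD : D ≤ Tor F m q o)
    {ν : (Fin m → Fˣ) →* Fˣ} (hν : ∀ d ∈ D, ν d = 1) {d : ℕ} (h1 : 1 < d)
    (hd : d ∣ Nat.card ((Tor F m q o).map ν)) : ∃ l, In q o D l ∧ od q o l = d := by
  have hb : D.map ν = ⊥ := by
    rw [eq_bot_iff]
    rintro _ ⟨x, hx, rfl⟩
    exact hν x hx
  obtain ⟨φ, h⟩ := k1 F m q o D hD ν d h1 (by rwa [hb, Subgroup.relIndex_bot_left])
  exact ⟨_, h⟩

theorem not_big (k1 : JobK1) (hF : Fintype.card F = q ^ 2) (hq : 1 ≤ q) {o : Prop} {D : Subgroup (Fin m → Fˣ)}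
    (hD : D ≤ Tor F m q o) (h3 : H3 q o D) {ν : (Fin m → Fˣ) →* Fˣ} (hν : ∀ d ∈ D, ν d = 1) :
    ¬ Big (Nat.card ((Tor F m q o).map ν)) := by
  rintro ⟨a, b, c, h1, hab, hbc, ha, hb, hc⟩
  obtain ⟨l₁, i₁, e₁⟩ := chars k1 hD hν h1 ha
  obtain ⟨l₂, i₂, e₂⟩ := chars k1 hD hν (by omega) hb
  obtain ⟨l₃, i₃, e₃⟩ := chars k1 hD hν (by omega) hc
  rcases h3 _ _ _ i₁ i₂ i₃ with h | h | h <;> have := od_eq hF hq h <;> omega

/-- The eigenvalue as a homomorphism. -/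
def eigH (q : ℕ) (i : Fin m) (s : Bool) : (Fin m → Fˣ) →* Fˣ :=
  (Pi.evalMonoidHom (fun _ => Fˣ) i).comp (sw q 1 fun _ => s)

omit [Fintype F] in
theorem eigH_apply (i : Fin m) (s : Bool) (a : Fin m → Fˣ) : eigH q i s a = eig q a i s := rfl

/-- The determinant part as a homomorphism. -/
def detH (q : ℕ) : (Fin m → Fˣ) →* Fˣ where
  toFun a := (∏ k, a k) ^ (q - 1)
  map_one' := by simp
  map_mul' a b := by simp [Finset.prod_mul_distrib, mul_pow]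

end

theorem jobAr (k1 : JobK1) (ar1 : JobAr1) (red : JobRed) (im : JobIm) (x3 : JobX3) : JobAr := by
  intro F _ _ r q o hF hq D hD h3 hI
  have hq1 : 1 ≤ q := by omega
  by_cases hn : Two q o D ∧ Sing q D
  · exact Or.inr hn
  refine Or.inl ⟨(ar1 F r q o hF hq D hD h3).resolve_right hn, ?_, ?_, ?_⟩
  · set ε : Fin (r + 3) → Bool := fun i => decide (i = 1) with hε
    have hD' : D.map (sw q 1 ε) ≤ Tor F _ q o := by
      rintro _ ⟨x, hx, rfl⟩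
      exact sw_mem hF hq1 _ _ (hD hx)
    have h3' : H3 q o (D.map (sw q 1 ε)) := fun l₁ l₂ l₃ i₁ i₂ i₃ =>
      (h3 _ _ _ (in_comp hF hq1 _ _ i₁) (in_comp hF hq1 _ _ i₂) (in_comp hF hq1 _ _ i₃)).imp
        (cj_of_comp hF hq1 _ _) (Or.imp (cj_of_comp hF hq1 _ _) (cj_of_comp hF hq1 _ _))
    rcases ar1 F r q o hF hq _ hD' h3' with ⟨_, ⟨d, hd, rfl⟩, hg⟩ | ⟨⟨l₁, l₂, i₁, i₂, hc⟩, hs⟩
    · refine ⟨d, hd, ?_⟩
      have e0 : sw q 1 ε d 0 = d 0 := by simp [sw_apply, eig, hε]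
      have e1 : sw q 1 ε d 1 = (d 1 ^ q)⁻¹ := by simp [sw_apply, eig, hε]
      rwa [e0, e1, div_inv_eq_mul] at hg
    · have ht : Two q o D :=
        ⟨_, _, in_comp hF hq1 _ _ i₁, in_comp hF hq1 _ _ i₂, fun h => hc (cj_of_comp hF hq1 _ _ h)⟩
      refine absurd ⟨ht, fun i c hc => ?_⟩ hn
      obtain ⟨x, hx, e⟩ := hs i c hc
      rw [← e]
      exact hI ht _ _ x hx
  · intro i j s s' hi hj hij
    by_contra hc
    push Not at hc
    obtain ⟨ν, hν, hρ⟩ := red F _ D al (eigH q i s / eigH q j s') (fun d hd h => by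
      rw [al_apply, div_eq_one] at h
      rw [MonoidHom.div_apply, eigH_apply, eigH_apply, hc d hd h, div_self'])
    have hm : ∀ a ∈ Tor F _ q o, a 0 = a 1 → eig q a i s / eig q a j s' ∈ (Tor F _ q o).map ν :=
      fun a ha h => ⟨a, ha, hρ a (by rw [al_apply, h, div_self'])⟩
    rcases (im F r q o hF hq _ i s hi).1 j s' hj hij hm with h | ⟨rfl, hr, h⟩
    · exact not_big k1 hF hq1 hD h3 hν h
    · obtain ⟨l₂, i₂, e₂⟩ := chars k1 hD hν (d := 2) (by norm_num) (by rw [h]; norm_num)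
      obtain ⟨l₄, i₄, e₄⟩ := chars k1 hD hν (d := 4) (by norm_num) (by rw [h])
      have ht : Two 3 o D := ⟨l₂, l₄, i₂, i₄, fun h => by have := od_eq hF hq1 h; omega⟩
      exact hn ⟨ht, x3 F r o hF hr D h3 (hI ht) l₂ l₄ i₂ i₄ e₂ e₄⟩
  · intro ho i s hi
    by_contra hc
    push Not at hc
    obtain ⟨ν, hν, hρ⟩ := red F _ D al (eigH q i s / detH q) (fun d hd h => by
      rw [al_apply, div_eq_one] at h
      rw [MonoidHom.div_apply, eigH_apply, hc d hd h]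
      exact div_self' _)
    have hm : ∀ a : Fin (r + 3) → Fˣ, a 0 = a 1 →
        eig q a i s / (∏ k, a k) ^ (q - 1) ∈ (Tor F _ q o).map ν :=
      fun a h => ⟨a, mem_Tor.2 (Or.inl ho), hρ a (by rw [al_apply, h, div_self'])⟩
    exact not_big k1 hF hq1 hD h3 hν ((im F r q o hF hq _ i s hi).2 hm)

end H74.KUAr
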