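import Cfsg.Agent.H74.SP3T4

/-! STD-SP (row S3129), chapter III, slot `T1b`: the elements `τ (a • u)` commute. -/

set_option autoImplicit false
set_option linter.unusedSectionVars false

namespace H74.SP3

open Matrix H57 Subgroup H67.UA H67.SP
open H67.SA (cm)
open H72.SPF (hs hr cc sh0 nli li_ac hx aE aT mE' sqE jT ac_ne)

universe u

/-- a biadditive alternating map that is homogeneous of degree two vanishes -/
theorem g_zero {F : Type} [Field F] [CharP F 2] [Finite F] (g : F → F → F)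
    (h1 : ∀ c a b, g c (a + b) = g c a + g c b) (h2 : ∀ a b, g a b = g b a) (h3 : g 1 1 = 0)
    (h4 : ∀ l a b, l ≠ 0 → g (l * a) (l * b) = l ^ 2 * g a b) (r : F) : g 1 r = 0 := by
  have t := two0 F
  have k : ∀ r, r ≠ 0 → g 1 r = r ^ 2 * g 1 r⁻¹ := fun r hr => by
    rw [← h4 _ _ _ hr, mul_one, mul_inv_cancel₀ hr, h2]
  obtain ⟨s, rfl⟩ : ∃ s, r = s ^ 2 := ⟨rt r, (rt_sq r).symm⟩
  obtain rfl | h0 := eq_or_ne s 0
  · simpa using h1 1 0 0
  obtain rfl | h5 := eq_or_ne s 1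
  · simpa using h3
  have h6 : s + 1 ≠ 0 := fun e => h5 (by linear_combination e - t)
  have k1 := k s h0
  have k2 := k (s + 1) h6
  have k3 := k (s * (s + 1)) (mul_ne_zero h0 h6)
  rw [show (s * (s + 1))⁻¹ = s⁻¹ + (s + 1)⁻¹ by field_simp; linear_combination -s * t, h1,
    show s * (s + 1) = s ^ 2 + s by ring, h1] at k3
  rw [h1, h3] at k2
  linear_combination k3 - (s + 1) ^ 2 * k1 - s ^ 2 * k2 + (s ^ 2 + s) * g 1 s * t

variable {n : ℕ} {F : Type} [Field F] [StarRing F] [TrivialStar F] [CharP F 2] [Finite F] [FV n F]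
  {G : Type u} [Group G] {e : XU n F →* G} {t : G} {τ : Vn n F → G} {β ρ : F}

theorem pu (u : Vn n F) (c d : F) : hf (c • u) (d • u) = 0 := pl (pr (hx u) d) c

theorem fs {p : XU n F} {u : Vn n F} (h : ac p u = u) (a : F) : ac p (a • u) = a • u := by
  rw [ac_smul, h]

theorem tc_inj (w : AW e t) {u : Vn n F} (hu : u ≠ 0) {a b : F} (h : e (Tc a u) = e (Tc b u)) :
    a = b := by
  have := Tc_eq_one hu (hx u) (star_trivial (a + b)) (by
    rw [← ta, w.inj h, ta, cc, Tc, EE_zero])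
  linear_combination this - b * two0 F

theorem tconj (r : R0 e τ) (ht : Tt e τ t) {x : Vn n F} {p : XU n F} (h : ac p x = x) :
    τ x * (t * e p) * (τ x)⁻¹ = t * e (Tc 1 x * p) := by
  calc _ = τ x * t * (τ x)⁻¹ * (τ x * e p * (τ x)⁻¹) := by group
    _ = _ := by rw [ht, ← r.fix h, mul_inv_cancel_right, map_mul, mul_assoc]

theorem three {a b c x y z : G} (h1 : x * b = b * x) (h2 : x * c = c * x) (h3 : y * c = c * y) :
    a * x * (b * y) * (c * z) = a * b * c * (x * y * z) := by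
  calc _ = a * (x * b) * (y * c) * z := by group
    _ = a * b * (x * c) * y * z := by rw [h1, h3]; group
    _ = _ := by rw [h2]; group

theorem cm_ex (w : AW e t) (r : R0 e τ) (ht : Tt e τ t) (hq : Sq e τ ρ) {u : Vn n F} (hu : u ≠ 0)
    (a b : F) : ∃ g, cm (τ (a • u)) (τ (b • u)) = e (Tc g u) := by
  obtain rfl | ha := eq_or_ne a 0
  · exact ⟨0, by simp [r.zero, cm]⟩
  have k : ∀ c d : F, τ (c • u) * τ (d • u) * t * (τ (c • u) * τ (d • u))⁻¹ =
      t * e (Tc (c ^ 2 + d ^ 2) u) := fun c d => by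
    calc _ = τ (c • u) * (τ (d • u) * t * (τ (d • u))⁻¹) * (τ (c • u))⁻¹ := by group
      _ = _ := by rw [ht, tconj r ht (fT 1 (pu u c d)), ts, ts, ta, mul_one, mul_one]
  have c0 : ∀ {p}, ac p u = u → ∀ c : F, Commute (τ (c • u)) (e p) := fun h c =>
    (r.fix (fs h c)).symm
  have c1 : ∀ {p}, ac p u = u → Commute (cm (τ (a • u)) (τ (b • u))) (e p) := fun h =>
    (((c0 h a).mul_left (c0 h b)).mul_left (c0 h a).inv_left).mul_left (c0 h b).inv_left
  obtain ⟨g, hg | hg⟩ := w.v1 (cm (τ (a • u)) (τ (b • u))) u hu (by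
    have k1 := k a b
    have k2 := k b a
    rw [add_comm (b ^ 2), ← k1] at k2
    have k3 : ∀ x y : G, y * x * t * (y * x)⁻¹ = x * y * t * (x * y)⁻¹ →
        ∀ s, s = x * y * t * (x * y)⁻¹ → cm x y * s = s * cm x y := fun x y h s hs => by
      calc cm x y * s = cm x y * (y * x * t * (y * x)⁻¹) := by rw [h, hs]
        _ = x * y * t * (x * y)⁻¹ * cm x y := by rw [cm]; group
        _ = _ := by rw [hs]
    have k4 := k3 _ _ k2 _ k1.symm
    rw [← mul_assoc, mul_assoc t, ← (c1 (fT _ (hx u))).eq, ← mul_assoc, mul_left_inj] at k4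
    exact k4) fun p hp => (c1 hp).eq
  · exact ⟨g, hg⟩
  exfalso
  have q : τ (a • u) * τ (a • u) * τ (b • u) = τ (b • u) * (τ (a • u) * τ (a • u)) := by
    rw [hq]; exact r.fix (fT _ (pu u b a))
  have q1 : τ (a • u) * cm (τ (a • u)) (τ (b • u)) * (τ (a • u))⁻¹ * cm (τ (a • u)) (τ (b • u)) = 1 := by
    calc _ = τ (a • u) * τ (a • u) * τ (b • u) * (τ (a • u) * τ (a • u))⁻¹ * (τ (b • u))⁻¹ := by
          rw [cm]; group
      _ = _ := by rw [q]; group
  rw [hg, tconj r ht (fT _ (pl (hx u) a)), w.cen, mul_assoc, ← mul_assoc t, w.tt, one_mul,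
    ← map_mul, mul_assoc, ta, cc, show Tc 0 u = 1 from EE_zero u, mul_one, ← map_one e] at q1
  exact one_ne_zero (Tc_eq_one (smul_ne_zero ha hu) (hx _) (star_one F) (w.inj q1))

variable [FW n F] [H67.SP.Par n F]

theorem d_ex (w : AW e t) (h : R1a e τ β) (ht : Tt e τ t) {u : Vn n F} (hu : u ≠ 0) (a b : F) :
    ∃ g, τ (a • u) * τ (b • u) * τ ((a + b) • u) = e (Tc g u) := by
  have r := h.toR0
  have c0 : ∀ {p}, ac p u = u → ∀ c : F, Commute (τ (c • u)) (e p) := fun h c =>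
    (r.fix (fs h c)).symm
  obtain ⟨g, hg | hg⟩ := w.v1 (τ (a • u) * τ (b • u) * τ ((a + b) • u)) u hu (by
    rw [← mul_inv_eq_iff_eq_mul]
    calc _ = τ (a • u) * (τ (b • u) * (τ ((a + b) • u) * t * (τ ((a + b) • u))⁻¹) * (τ (b • u))⁻¹) *
          (τ (a • u))⁻¹ := by group
      _ = _ := by
        rw [ht, tconj r ht (fT 1 (pu u _ _)), ts, ts, ta, tconj r ht (fT _ (pl (hx u) _)),
          ts, ta, show a ^ 2 * 1 + (b ^ 2 * 1 + (a + b) ^ 2 * 1) = 0 by
            linear_combination (a ^ 2 + a * b + b ^ 2) * two0 F, Tc, EE_zero, map_one, mul_one])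
    fun p hp => (((c0 hp a).mul_left (c0 hp b)).mul_left (c0 hp (a + b))).eq
  · exact ⟨g, hg⟩
  exfalso
  obtain ⟨v, p, l⟩ := exl hu
  have pq : ∀ c : F, hf (c • u) v = 0 := pl p
  have k : ∀ c : F, τ v * τ (c • u) * (τ v)⁻¹ = τ (c • u) * e (qq ((β * c) • u) v) := fun c => by
    obtain rfl | hc := eq_or_ne c 0
    · simp [r.zero]
    have := h.cmi v (c • u) (hf_symm (pq c)) (by simpa using li_sm (lis l) one_ne_zero hc)
    rw [cm, mul_inv_eq_iff_eq_mul, smul_smul] at this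
    rw [this, (c0 (fE (pq _) 0 p (pr (hx u) _)) c).eq]
  have m : ∀ c d : F, e (qq (c • u) v) * e (qq (d • u) v) = e (qq ((c + d) • u) v) := fun c d => by
    rw [← map_mul, mE' (pq c) (pq d), pu, add_smul, add_zero, add_zero]
  have c1 : ∀ c d : F, e (qq (c • u) v) * τ (d • u) = τ (d • u) * e (qq (c • u) v) := fun c d =>
    (c0 (fE (pq _) 0 p (pr (hx u) _)) d).eq.symm
  have k1 : τ v * (τ (a • u) * τ (b • u) * τ ((a + b) • u)) * (τ v)⁻¹ =
      τ (a • u) * τ (b • u) * τ ((a + b) • u) := by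
    calc _ = τ v * τ (a • u) * (τ v)⁻¹ * (τ v * τ (b • u) * (τ v)⁻¹) *
          (τ v * τ ((a + b) • u) * (τ v)⁻¹) := by group
      _ = _ := by
        rw [k, k, k, three (c1 _ _) (c1 _ _) (c1 _ _), m, m,
          show β * a + β * b + β * (a + b) = 0 by linear_combination (β * a + β * b) * two0 F]
        simp
  rw [hg, tconj r ht (fT _ (hf_symm p)), mul_right_inj] at k1
  exact one_ne_zero (Tc_eq_one (lin l) (hx _) (star_one F) (mul_eq_right.1 (w.inj k1)))

theorem cm_line (w : AW e t) (h : R1a e τ β) (ht : Tt e τ t) (hq : Sq e τ ρ) {u : Vn n F}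
    (hu : u ≠ 0) (c : F) : cm (τ u) (τ (c • u)) = 1 := by
  have r := h.toR0
  choose g hg using cm_ex w r ht hq (ev_ne (K := F) (0 : Fin (n + 1)))
  have all : ∀ {x : Vn n F}, x ≠ 0 → ∀ a b, cm (τ (a • x)) (τ (b • x)) = e (Tc (g a b) x) :=
    fun hx a b => by
      obtain ⟨p, rfl⟩ := FW.w1 _ hx
      rw [← ac_smul, ← ac_smul, ← r.eqv, ← r.eqv, ← jT, map_mul, map_mul, map_inv, ← hg, cm, cm]
      group
  have c0 : ∀ a c : F, e (Tc a u) * τ (c • u) = τ (c • u) * e (Tc a u) := fun a c =>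
    r.fix (fT _ (pl (hx u) c))
  have z := g_zero g (fun c a b => by
      obtain ⟨d, hd⟩ := d_ex w h ht hu a b
      have k : ∀ a : F, τ (c • u) * τ (a • u) * (τ (c • u))⁻¹ = τ (a • u) * e (Tc (g c a) u) :=
        fun a => by rw [← c0, ← all hu, cm]; group
      have k1 : τ (c • u) * (τ (a • u) * τ (b • u) * τ ((a + b) • u)) * (τ (c • u))⁻¹ =
          τ (a • u) * τ (b • u) * τ ((a + b) • u) * e (Tc (g c a + g c b + g c (a + b)) u) := by
        calc _ = τ (c • u) * τ (a • u) * (τ (c • u))⁻¹ * (τ (c • u) * τ (b • u) * (τ (c • u))⁻¹) *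
              (τ (c • u) * τ ((a + b) • u) * (τ (c • u))⁻¹) := by group
          _ = _ := by
            rw [k, k, k, three (c0 _ _) (c0 _ _) (c0 _ _), ← map_mul, ta, ← map_mul, ta]
      rw [hd, ← c0, mul_inv_cancel_right, ← map_mul, ta] at k1
      linear_combination -tc_inj w hu k1 - (g c a + g c b) * two0 F)
    (fun a b => tc_inj w hu (by
      rw [← _root_.inv_inj, ← all hu, ← map_inv, H72.SPF.inE (by simp), ← all hu, cm, cm]; group))
    (tc_inj w hu (by rw [← all hu, cm]; simp))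
    (fun l a b hl => tc_inj w hu (by
      rw [← all hu, ← ts, ← all (smul_ne_zero hl hu), smul_smul, smul_smul, mul_comm a, mul_comm b]))
    c
  have := all hu 1 c
  rwa [z, one_smul, Tc, EE_zero, map_one] at this

theorem jobT1b : JobT1b.{u} := by
  intro n F _ _ _ _ _ _ G _ _ e t b _ w τ β ρ h ht hq
  refine ⟨h.toR0, fun u v p => ?_⟩
  obtain rfl | hu := eq_or_ne u 0
  · simp [h.zero, cm]
  by_cases l : Li u v
  · exact h.cmi u v p l
  obtain ⟨c, rfl⟩ := nli hu l
  rw [cm_line w h ht hq hu, smul_smul, qq, sh0, Tc, EE_zero, map_one]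

end H74.SP3
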