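import Cfsg.Agent.H67.SPIII
import Cfsg.Agent.H72.SPFR

/-! STD-SP (row S3129), chapter III, slot `T4`: the relations inside the totally isotropic
subspaces hold for dependent vectors too. -/

set_option autoImplicit false
set_option linter.unusedSectionVars false

namespace H74.SP3

open Matrix H57 Subgroup H67.UA H67.SP
open H67.SA (cm)
open H72.SPF (hs hr cc sh0 nli li_ac hx aE aT mE' sqE p10 li01)

universe u

variable {n : ℕ} {F : Type} [Field F] [StarRing F] [TrivialStar F] [CharP F 2] [Finite F] [FV n F]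

theorem ts (c a : F) (u : Vn n F) : Tc c (a • u) = Tc (a ^ 2 * c) u := by
  rw [Tc_smul, nm, star_trivial, sq]
theorem ta (a b : F) (u : Vn n F) : Tc a u * Tc b u = Tc (a + b) u :=
  (Tc_add (hx u) (star_trivial a) (star_trivial b)).symm
theorem fT (c : F) {u y : Vn n F} (h : hf y u = 0) : ac (Tc c u) y = y := by
  rw [aT, h, mul_zero, zero_smul, add_zero]
theorem fE {u x y : Vn n F} (h : hf x u = 0) (c : F) (h1 : hf y u = 0) (h2 : hf y x = 0) :
    ac (EE u x c) y = y := ac_EE_fix (FV.ok u x c h) h1 h2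
theorem pl {u v : Vn n F} (h : hf u v = 0) (a : F) : hf (a • u) v = 0 := by
  rw [hf_smul_left, h, mul_zero]
theorem pr {u v : Vn n F} (h : hf u v = 0) (a : F) : hf u (a • v) = 0 := by
  rw [hr, h, mul_zero]
theorem pa {u v w : Vn n F} (h : hf u v = 0) (h' : hf u w = 0) : hf u (v + w) = 0 := by
  rw [hf_add_right, h, h', add_zero]
theorem lis {u v : Vn n F} (h : Li u v) : Li v u := fun a b e =>
  (h b a (by rwa [add_comm])).symm
theorem lia {u v : Vn n F} (h : Li u v) (c : F) : Li u (v + c • u) := fun a b e => by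
  obtain ⟨h1, h2⟩ := h (a + b * c) b (by rw [← e]; module)
  exact ⟨by simpa [h2] using h1, h2⟩
theorem li_sm {u v : Vn n F} (h : Li u v) {a b : F} (ha : a ≠ 0) (hb : b ≠ 0) :
    Li (a • u) (b • v) :=
  fun c d e => by simpa [ha, hb] using h (c * a) (d * b) (by rwa [mul_smul, mul_smul])
theorem lin {u v : Vn n F} (h : Li u v) : v ≠ 0 := fun e =>
  one_ne_zero (h 0 1 (by simp [e])).2

theorem exl [FW n F] [H67.SP.Par n F] {u : Vn n F} (hu : u ≠ 0) : ∃ v, hf u v = 0 ∧ Li u v := by
  obtain ⟨g, rfl⟩ := FW.w1 u hu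
  exact ⟨ac g (ev 1), by rw [hf_ac, hf_symm (by simpa using p10 (n := n) (1 : F))], li_ac g li01⟩

variable {G : Type u} [Group G] {e : XU n F →* G} {τ : Vn n F → G} {β : F}

theorem sg_fix (h : R0 e τ) {g : XU n F} {u v : Vn n F} (hu : ac g u = u) (hv : ac g v = v) :
    e g * sg e τ β u v = sg e τ β u v * e g := by
  have := h.sg_eqv β g u v
  rwa [hu, hv, mul_inv_eq_iff_eq_mul] at this

theorem ta_eq (h : R0 e τ) (hq : Sq e τ β) {u v : Vn n F} (p : hf u v = 0) :
    τ (u + v) = sg e τ β u v * τ v * τ u := by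
  have c1 : e (Tc β u) * τ v = τ v * e (Tc β u) := h.fix (fT β (hf_symm p))
  have c2 : e (Tc β v) * τ v = τ v * e (Tc β v) := h.fix (fT β (hx v))
  have c3 : e (Tc β u) * τ u = τ u * e (Tc β u) := h.fix (fT β (hx u))
  have q : ∀ w, τ w * τ w * e (Tc β w) = 1 := fun w => by
    rw [hq w, ← map_mul, ta, cc, Tc, EE_zero, map_one]
  calc τ (u + v) = τ (u + v) * (τ u * τ u * e (Tc β u)) := by rw [q, mul_one]
    _ = τ (u + v) * τ u * (τ v * τ v * e (Tc β v)) * (τ u * e (Tc β u)) := by rw [q v]; group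
    _ = τ (u + v) * τ u * τ v * (τ v * (e (Tc β v) * e (Tc β u))) * τ u := by rw [← c3]; group
    _ = _ := by
      have c4 : e (Tc β v) * e (Tc β u) = e (Tc β u) * e (Tc β v) := by
        rw [← hq v, mul_assoc, ← c1, ← mul_assoc, ← c1, mul_assoc]
      rw [H67.SP.sg, map_mul, c4, ← mul_assoc (τ v), ← c1, mul_assoc (e _), ← c2]; group

theorem sg0 (h : R0 e τ) (hq : Sq e τ β) (v : Vn n F) : sg e τ β 0 v = 1 := by
  rw [H67.SP.sg, zero_add, h.zero, mul_one, hq v, show Tc β (0 : Vn n F) = 1 from EE_zero_left _ _,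
    one_mul, ← map_mul, ta, cc, Tc, EE_zero, map_one]

section T4

variable (h : R3 e τ β)
include h

theorem phi1 {u v : Vn n F} (p : hf u v = 0) (l : Li u v) (a : F) :
    sg e τ β u (v + a • u) = sg e τ β u v * e (Tc (β * a) u) := by
  obtain ⟨f, f1, f2⟩ := h.phi
  obtain rfl | ha := eq_or_ne a 0
  · simp
  have hc := rt_ne ha
  have k1 := f2 (rt a • u) v 1 (pl p _) (by simpa using li_sm l hc one_ne_zero)
  have l1 : Li u (rt a • v) := by simpa using li_sm l one_ne_zero hc
  rw [one_smul, h.sscali _ _ _ (pa p (pr (hx u) _)) (lia l _) hc, h.sscali _ _ _ p l hc, smul_add,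
    smul_smul, ← sq, rt_sq, f2 _ _ _ (pr p _) l1, mul_right_inj, ts, rt_sq, f1] at k1
  rw [f2 _ _ _ p l, k1, mul_comm a]

variable [FW n F] [H67.SP.Par n F]

theorem nadd (a b : F) (u : Vn n F) :
    τ (a • u) * τ (b • u) = τ ((a + b) • u) * e (Tc (β * a * b) u) := by
  obtain rfl | hu := eq_or_ne u 0
  · simp [h.zero]
  obtain rfl | ha := eq_or_ne a 0
  · simp [h.zero]
  obtain rfl | hb := eq_or_ne b 0
  · simp [h.zero]
  obtain rfl | hab := eq_or_ne a b
  · rw [cc, zero_smul, h.zero, one_mul, h.sq, ts]; congr 2; ring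
  have hab' : a + b ≠ 0 := fun k => hab (by linear_combination k - b * two0 F)
  obtain ⟨v, p, l⟩ := exl hu
  have r := h.toR2.toR1.toR0
  have lv : ∀ {c : F}, c ≠ 0 → Li v (c • u) := fun hc => by
    simpa using li_sm (lis l) one_ne_zero hc
  have pv : ∀ c : F, hf v (c • u) = 0 := fun c => pr (hf_symm p) c
  have pu : ∀ c d : F, hf (c • u) (d • u) = 0 := fun c d => pl (pr (hx u) d) c
  have e1 := h.saddi v (b • u) (a • u) ⟨pv b, pv a, pu b a⟩ (lv hb) (lv ha)
    (by rw [← add_smul, add_comm b]; exact lv hab')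
  have e2 := phi1 h (pl p b) (lis (lv hb)) (a / b)
  rw [smul_smul, div_mul_cancel₀ a hb, ts, show b ^ 2 * (β * (a / b)) = β * a * b by
    field_simp] at e2
  have e3 := ta_eq r h.sq (pa (pv b) (pv a))
  have e4 := ta_eq r h.sq (pa (pl p b) (pu b a))
  have e5 := ta_eq r h.sq (pv a)
  have e6 := h.ssym (b • u) v (pl p b)
  have e7 := h.cmp (b • u) v (pl p b)
  have pq' : hf (β • v) (b • u) = 0 := pl (pv b) β
  rw [add_left_comm, e3, e1, e2, e5, e6, ← add_smul, add_comm b] at e4
  have c1 : e (Tc (β * a * b) u) * sg e τ β v (a • u) = _ :=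
    sg_fix r (fT _ (hf_symm p)) (fT _ (pl (hx u) a))
  have c2 : e (qq (β • v) (b • u)) * sg e τ β v (a • u) = _ :=
    sg_fix r (fE pq' 0 (pv b) (pr (hx v) β)) (fE pq' 0 (pu a b) (pr (pl p a) β))
  have c3 : ∀ c : F, e (qq (β • v) (b • u)) * τ (c • u) = _ := fun c =>
    r.fix (fE pq' 0 (pu c b) (pr (pl p c) β))
  have c4 : ∀ c : F, e (Tc (β * a * b) u) * τ (c • u) = _ := fun c => r.fix (fT _ (pl (hx u) c))
  have c5 : e (Tc (β * a * b) u) * e (Tc (β * a * b) u) = 1 := by
    rw [← map_mul, ta, cc, Tc, EE_zero, map_one]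
  have c6 : e (qq (β • v) (b • u)) * e (qq (β • v) (b • u)) = 1 := by
    rw [← map_mul, sqE pq', map_one]
  generalize e (Tc (β * a * b) u) = z at *
  generalize e (qq (β • v) (b • u)) = k at *
  have c7 := c3 (a + b)
  have c8 := c3 a
  have c9 := c3 b
  have c11 := c4 (a + b)
  generalize τ ((a + b) • u) = S at *
  generalize τ (a • u) = Y at *
  generalize τ (b • u) = X at *
  generalize sg e τ β v (a • u) = s at *
  generalize sg e τ β (b • u) v = s' at *
  generalize τ v = V at *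
  have d1 : V * X = k * X * V := by
    rw [← mul_right_inj k, mul_assoc k X, ← mul_assoc k k, c6, ← e7, cm]; group
  have d2 : k * s * S * V = z * (s * Y * V) * X := by
    rw [← mul_right_inj s']
    simpa only [mul_assoc] using e4
  have d3 : k * S = z * Y * (k * X) := by
    rw [← mul_left_inj V, ← mul_right_inj s]
    calc _ = k * s * S * V := by rw [c2]; group
      _ = (z * s) * Y * (V * X) := by rw [d2]; group
      _ = _ := by rw [c1, d1]; group
  rw [c7, c9, ← mul_assoc, mul_left_inj] at d3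
  rw [← c11, d3, ← mul_assoc, ← mul_assoc, c5, one_mul]

theorem shift (a : F) (u : Vn n F) : sg e τ β u (a • u) = e (Tc (β * a) u) := by
  have := nadd h 1 a u
  rw [add_smul, one_smul] at this
  rw [H67.SP.sg, mul_assoc (τ _), this, ← mul_assoc, h.sq, show u + a • u = (1 + a) • u by module,
    ts, ts, ← map_mul, ← map_mul, ta, ta, ta]
  congr 2
  linear_combination (β + β * a + a ^ 2 * β) * two0 F

theorem phi2 {u v : Vn n F} (p : hf u v = 0) (a : F) :
    sg e τ β u (v + a • u) = sg e τ β u v * e (Tc (β * a) u) := by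
  have r := h.toR2.toR1.toR0
  obtain rfl | hu := eq_or_ne u 0
  · simp [sg0 r h.sq]
  by_cases l : Li u v
  · exact phi1 h p l a
  obtain ⟨c, rfl⟩ := nli hu l
  rw [← add_smul, shift h, shift h, ← map_mul, ta, mul_add]

theorem sadd (u v w : Vn n F) (p : P3 u v w) :
    sg e τ β u (v + w) = sg e τ β u v * sg e τ β u w := by
  have r := h.toR2.toR1.toR0
  obtain rfl | hu := eq_or_ne u 0
  · simp [sg0 r h.sq]
  by_cases l1 : Li u v
  swap
  · obtain ⟨c, rfl⟩ := nli hu l1
    rw [add_comm, phi2 h p.uw, shift h, sg_fix r (fT _ (hx u)) (fT _ (hf_symm p.uw))]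
  by_cases l2 : Li u w
  swap
  · obtain ⟨c, rfl⟩ := nli hu l2
    rw [phi2 h p.uv, shift h]
  by_cases l3 : Li u (v + w)
  · exact h.saddi u v w p l1 l2 l3
  obtain ⟨c, k⟩ := nli hu l3
  have k' : w = v + c • u := by rw [← k, ← add_assoc, v_add_self, zero_add]
  rw [k, shift h, k', phi2 h p.uv, ← mul_assoc, h.ssq _ _ p.uv, one_mul]

theorem sscal (a : F) (u v : Vn n F) (p : hf u v = 0) :
    sg e τ β (a • u) v = sg e τ β u (a • v) := by
  have r := h.toR2.toR1.toR0
  obtain rfl | hu := eq_or_ne u 0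
  · simp [sg0 r h.sq]
  obtain rfl | ha := eq_or_ne a 0
  · have := shift h 0 u
    simp only [zero_smul, mul_zero, Tc, EE_zero, map_one] at this ⊢
    rw [this, sg0 r h.sq]
  by_cases l : Li u v
  · exact h.sscali a u v p l ha
  obtain ⟨c, rfl⟩ := nli hu l
  have := shift h (c / a) (a • u)
  rw [smul_smul, div_mul_cancel₀ c ha, ts] at this
  rw [this, smul_smul, shift h]
  congr 2
  field_simp

end T4

theorem jobT4 : JobT4.{u} := by
  intro n F _ _ _ _ _ _ b G _ e τ β h
  exact ⟨h.toR2.toR1, h.sq, h.ssq, h.ssym, h.stau, nadd h, sadd h, sscal h, shift h⟩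

end H74.SP3
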