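import Cfsg.Agent.H2.PrimeCore
import Cfsg.Agent.H72.Simple

set_option autoImplicit false

namespace H74.PQ

open Subgroup

theorem perm_add_le {α : Type*} [Fintype α] [DecidableEq α] {σ : Equiv.Perm α} {p q : ℕ}
    (hp : p.Prime) (hq : q.Prime) (hpq : p ≠ q) (h : orderOf σ = p * q) :
    p + q ≤ Fintype.card α := by
  have hd : p * q ∣ σ.cycleType.prod := by
    rw [← h, ← Equiv.Perm.lcm_cycleType]
    exact Multiset.lcm_dvd.2 fun b hb => Multiset.dvd_prod hb
  obtain ⟨a, ha, hpa⟩ := hp.prime.exists_mem_multiset_dvd (dvd_of_mul_right_dvd hd)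
  obtain ⟨b, hb, hqb⟩ := hq.prime.exists_mem_multiset_dvd (dvd_of_mul_left_dvd hd)
  have h2a := Equiv.Perm.two_le_of_mem_cycleType ha
  have h2b := Equiv.Perm.two_le_of_mem_cycleType hb
  have hs := σ.sum_cycleType_le
  by_cases hab : a = b
  · subst hab
    have : p * q ∣ a := ((Nat.coprime_primes hp hq).2 hpq).mul_dvd_of_dvd_of_dvd hpa hqb
    have h1 := Nat.le_of_dvd (by omega) this
    have h2 := Multiset.single_le_sum (fun x _ => Nat.zero_le x) a ha
    have := hp.two_le
    have := hq.two_le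
    nlinarith
  · have hb' : b ∈ σ.cycleType.erase a := (Multiset.mem_erase_of_ne (Ne.symm hab)).2 hb
    have h1 := Multiset.sum_erase ha
    have h2 := Multiset.single_le_sum (fun x _ => Nat.zero_le x) b hb'
    have h3 := Nat.le_of_dvd (by omega) hpa
    have h4 := Nat.le_of_dvd (by omega) hqb
    omega

variable {G : Type*} [Group G] [Finite G]

theorem exists_orderOf_of_dvd {g : G} {m : ℕ} (h : m ∣ orderOf g) : ∃ x : G, orderOf x = m :=
  ⟨g ^ (orderOf g / m), orderOf_pow_orderOf_div (orderOf_pos g).ne' h⟩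

/-- Frattini argument plus a fixed point count. -/
theorem fr (N : Subgroup G) [N.Normal] {p q : ℕ} (hp : p.Prime) (hq : q.Prime) (hpq : p ≠ q)
    (h1 : p ∣ Nat.card N) (h2 : q ∣ Nat.card G) (h3 : ¬ q ∣ Nat.card N)
    (h4 : ∀ i, 1 ≤ i → p ^ i ∣ Nat.card G → ¬ p ^ i ≡ 1 [MOD q]) :
    ∃ g : G, orderOf g = p * q := by
  classical
  haveI : Fact p.Prime := ⟨hp⟩
  haveI : Fact q.Prime := ⟨hq⟩
  obtain ⟨P⟩ : Nonempty (Sylow p N) := inferInstance
  set P' : Subgroup G := (P : Subgroup N).map N.subtype with hP'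
  have htop := P.normalizer_sup_eq_top
  rw [← hP'] at htop
  set K : Subgroup G := normalizer (P' : Set G) with hK
  have hqK : q ∣ Nat.card K := by
    have e1 : N.index = N.relIndex K := by
      rw [← relIndex_sup_right, htop, relIndex_top_right]
    have e2 : q ∣ N.index := by
      rw [← N.card_mul_index] at h2
      exact (hq.dvd_mul.1 h2).resolve_left h3
    rw [e1] at e2
    exact e2.trans (relIndex_dvd_card _ _)
  obtain ⟨y, hy⟩ := exists_prime_orderOf_dvd_card' q hqK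
  have hyG : orderOf (y : G) = q := by rw [orderOf_coe]; exact hy
  have hPp : IsPGroup p P' := P.isPGroup'.map _
  obtain ⟨i, hi⟩ := hPp.exists_card_eq
  have hi1 : 1 ≤ i := by
    have : p ∣ Nat.card P' := by
      rw [hP', card_map_of_injective N.subtype_injective]
      exact P.dvd_card_of_dvd_card h1
    rcases i with _ | i
    · rw [hi] at this
      exact absurd (Nat.dvd_one.1 (by simpa using this)) hp.one_lt.ne'
    · omega
  let f : Function.End P' := fun x => ⟨y * x * (y : G)⁻¹, (mem_normalizer_iff.1 y.2 x).1 x.2⟩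
  have hfp : ∀ k : ℕ, ∀ x : P', (((f ^ k) x : P') : G) = (y : G) ^ k * x * ((y : G) ^ k)⁻¹ := by
    intro k
    induction k with
    | zero => intro x; simp; rfl
    | succ k ih =>
      intro x
      rw [pow_succ]
      change (((f ^ k) (f x) : P') : G) = _
      rw [ih]
      simp only [f, pow_succ, mul_inv_rev, mul_assoc]
  have hf : f ^ q ^ 1 = 1 := by
    funext x
    apply Subtype.ext
    rw [hfp, pow_one, ← hyG, pow_orderOf_eq_one]
    simp
    rfl
  haveI := Fintype.ofFinite P'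
  have hmod := Equiv.Perm.card_fixedPoints_modEq hf
  rw [← Nat.card_eq_fintype_card, hi] at hmod
  have hne : Fintype.card f.fixedPoints ≠ 1 := by
    intro h
    rw [h] at hmod
    exact h4 i hi1 (hi ▸ card_subgroup_dvd_card P') hmod
  have h1m : (1 : P') ∈ f.fixedPoints := by
    apply Subtype.ext; simp [f]
  obtain ⟨x, hx⟩ : ∃ x : f.fixedPoints, x ≠ ⟨1, h1m⟩ := by
    by_contra hc
    push Not at hc
    exact hne (Fintype.card_eq_one_iff.2 ⟨_, hc⟩)
  have hx1 : ((x : P') : G) ≠ 1 := fun h => hx (Subtype.ext (Subtype.ext h))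
  have hc : Commute ((x : P') : G) (y : G) := by
    have := congrArg Subtype.val x.2
    simp only [f] at this
    rw [mul_inv_eq_iff_eq_mul] at this
    exact this.symm
  obtain ⟨k, hk⟩ := (IsPGroup.iff_orderOf.1 hPp) x
  have hk' : orderOf ((x : P') : G) = p ^ k := by rw [orderOf_coe]; exact hk
  have hk0 : k ≠ 0 := by
    rintro rfl
    exact hx1 (orderOf_eq_one_iff.1 (by simpa using hk'))
  have hco : (orderOf ((x : P') : G)).Coprime (orderOf (y : G)) := by
    rw [hk', hyG]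
    exact ((Nat.coprime_primes hp hq).2 hpq).pow_left k
  have := hc.orderOf_mul_eq_mul_orderOf_of_coprime hco
  refine exists_orderOf_of_dvd (g := ((x : P') : G) * y) ?_
  rw [this, hk', hyG]
  exact Nat.mul_dvd_mul_right (dvd_pow_self p hk0) q

theorem abel (N H : Subgroup G) [N.Normal] {p q : ℕ} (hp : p.Prime) (hq : q.Prime) (hpq : p ≠ q)
    (h1 : p ∣ Nat.card H) (h2 : q ∣ Nat.card H) (h3 : ¬ p ∣ Nat.card N) (h4 : ¬ q ∣ Nat.card N)
    (hc : ∀ a ∈ H, ∀ b ∈ H, a⁻¹ * b⁻¹ * a * b ∈ N) : ∃ g : G, orderOf g = p * q := by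
  haveI : Fact p.Prime := ⟨hp⟩
  haveI : Fact q.Prime := ⟨hq⟩
  have key : ∀ r : ℕ, r.Prime → r ∣ Nat.card H → ¬ r ∣ Nat.card N →
      ∃ x ∈ H, orderOf (QuotientGroup.mk' N x) = r := by
    intro r hr hH hN
    haveI : Fact r.Prime := ⟨hr⟩
    obtain ⟨x, hx⟩ := exists_prime_orderOf_dvd_card' r hH
    have hx' : orderOf (x : G) = r := by rw [orderOf_coe]; exact hx
    refine ⟨x, x.2, orderOf_eq_prime ?_ ?_⟩
    · rw [← map_pow, ← hx', pow_orderOf_eq_one, map_one]
    · intro h
      have hm : (x : G) ∈ N := (QuotientGroup.eq_one_iff _).1 h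
      exact hN (hx' ▸ N.orderOf_dvd_natCard hm)
  obtain ⟨x, hx, ox⟩ := key p hp h1 h3
  obtain ⟨y, hy, oy⟩ := key q hq h2 h4
  have hcm : Commute (QuotientGroup.mk' N x) (QuotientGroup.mk' N y) := by
    change _ * _ = _ * _
    rw [← map_mul, ← map_mul]
    apply QuotientGroup.eq.2
    have := hc y hy x hx
    simpa [mul_assoc] using this
  have := hcm.orderOf_mul_eq_mul_orderOf_of_coprime (by
    rw [ox, oy]; exact (Nat.coprime_primes hp hq).2 hpq)
  refine exists_orderOf_of_dvd (g := x * y) ?_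
  rw [← ox, ← oy, ← this, ← map_mul]
  exact orderOf_map_dvd _ _

theorem exists_min (p : ℕ) (h : p ∣ Nat.card G) :
    ∃ H : Subgroup G, H.Normal ∧ p ∣ Nat.card H ∧
      ∀ K : Subgroup G, K.Normal → K < H → ¬ p ∣ Nat.card K := by
  obtain ⟨H, hH, hmin⟩ := (wellFounded_lt (α := Subgroup G)).has_min
    {H : Subgroup G | H.Normal ∧ p ∣ Nat.card H} ⟨⊤, inferInstance, by simpa using h⟩
  exact ⟨H, hH.1, hH.2, fun K hK hlt hd => hmin K ⟨hK, hd⟩ hlt⟩

theorem not_solvable {p q : ℕ} (hp : p.Prime) (hq : q.Prime) (hpq : p ≠ q)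
    (h1 : p ∣ Nat.card G) (h2 : q ∣ Nat.card G)
    (h3 : ∀ i, 1 ≤ i → p ^ i ∣ Nat.card G → ¬ p ^ i ≡ 1 [MOD q])
    (h4 : ∀ i, 1 ≤ i → q ^ i ∣ Nat.card G → ¬ q ^ i ≡ 1 [MOD p])
    (h : ∀ g : G, orderOf g ≠ p * q) : ¬ Group.IsSolvable G := by
  intro hs
  obtain ⟨H, hH, hpH, hmin⟩ := exists_min p h1
  have hne : H ≠ ⊥ := by
    rintro rfl
    exact hp.one_lt.ne' (by simpa using hpH)
  have hlt := Group.IsSolvable.commutator_lt_of_ne_bot hne
  have hqH : q ∣ Nat.card H := by
    by_contra hc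
    obtain ⟨g, hg⟩ := fr H hp hq hpq hpH h2 hc h3
    exact h g hg
  have hpN := hmin ⁅H, H⁆ inferInstance hlt
  have hqN : ¬ q ∣ Nat.card (⁅H, H⁆ : Subgroup G) := by
    intro hc
    obtain ⟨g, hg⟩ := fr ⁅H, H⁆ hq hp hpq.symm hc h1 hpN h4
    exact h g (hg.trans (mul_comm _ _))
  obtain ⟨g, hg⟩ := abel ⁅H, H⁆ H hp hq hpq hpH hqH hpN hqN (fun a ha b hb => by
    have := commutator_mem_commutator (H.inv_mem ha) (H.inv_mem hb)
    simpa [commutatorElement_def] using this)
  exact h g hg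

/-- a chief factor above which a prime with `p ^ 2 ∤ |G|` first appears is simple -/
theorem chief {p : ℕ} (hp : p.Prime) (h1 : p ∣ Nat.card G) (h2 : ¬ p ^ 2 ∣ Nat.card G) :
    ∃ (N H : Subgroup G) (_ : N.Normal), H.Normal ∧ N < H ∧ p ∣ Nat.card H ∧ ¬ p ∣ Nat.card N ∧
      IsSimpleGroup (H ⧸ N.subgroupOf H) := by
  haveI : Fact p.Prime := ⟨hp⟩
  obtain ⟨H, hH, hpH, hmin⟩ := exists_min p h1
  have hlt : Cfsg.pPrimeCore p G ⊓ H < H := by
    refine lt_of_le_of_ne inf_le_right fun h => ?_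
    have : H ≤ Cfsg.pPrimeCore p G := h ▸ inf_le_left
    exact H2.not_dvd_card_pPrimeCore p G (hpH.trans (card_dvd_of_le this))
  haveI := H2.pPrimeCore_characteristic p G
  haveI hN : (Cfsg.pPrimeCore p G ⊓ H).Normal := inferInstance
  set N := Cfsg.pPrimeCore p G ⊓ H with hNdef
  refine ⟨N, H, hN, hH, hlt, hpH, hmin N hN hlt, ?_⟩
  haveI : Nontrivial (H ⧸ N.subgroupOf H) := by
    rw [QuotientGroup.nontrivial_iff]
    intro h
    exact hlt.not_ge (subgroupOf_eq_top.1 h)
  refine ⟨fun M hM => ?_⟩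
  set M' : Subgroup H := M.comap (QuotientGroup.mk' _) with hM'
  haveI : M'.Normal := hM.comap _
  by_cases hpM : p ∣ Nat.card M'
  · right
    have hall : ∀ y : H, y ^ p = 1 → y ∈ M' := fun y hy =>
      H72.mem_normal_of_pow_prime hp (fun h => h2 (h.trans (card_subgroup_dvd_card H))) M' hpM hy
    have hcore : ¬ (M'.map H.subtype).normalCore < H := by
      intro hl
      apply hmin _ inferInstance hl
      obtain ⟨x, hx⟩ := exists_prime_orderOf_dvd_card' p hpH
      have hx' : orderOf (x : G) = p := by rw [orderOf_coe]; exact hx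
      rw [← hx']
      apply Subgroup.orderOf_dvd_natCard
      intro b
      refine ⟨⟨b * x * b⁻¹, hH.conj_mem _ x.2 b⟩, hall _ (Subtype.ext ?_), rfl⟩
      simp only [SubmonoidClass.coe_pow, conj_pow, OneMemClass.coe_one]
      rw [← hx', pow_orderOf_eq_one]; simp
    have hle : (M'.map H.subtype).normalCore ≤ H :=
      (normalCore_le _).trans (map_subtype_le _)
    have heq : (M'.map H.subtype).normalCore = H := by
      by_contra hne
      exact hcore (lt_of_le_of_ne hle hne)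
    have htop : M' = ⊤ := by
      rw [eq_top_iff]
      intro x _
      have : (x : G) ∈ M'.map H.subtype := normalCore_le _ (heq.ge x.2)
      obtain ⟨y, hy, e⟩ := this
      rwa [← (Subtype.ext e : y = x)]
    rw [eq_top_iff]
    intro x _
    obtain ⟨x, rfl⟩ := QuotientGroup.mk'_surjective _ x
    have : x ∈ M' := htop ▸ mem_top x
    exact this
  · left
    have h5 : M' ≤ Cfsg.pPrimeCore p H := H2.le_pPrimeCore_of_not_dvd hpM
    rw [eq_bot_iff]
    intro x hx
    obtain ⟨x, rfl⟩ := QuotientGroup.mk'_surjective _ x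
    have h6 : x ∈ Cfsg.pPrimeCore p H := h5 hx
    rw [H2.pPrimeCore_eq_subgroupOf] at h6
    exact (QuotientGroup.eq_one_iff _).2 ⟨h6, x.2⟩

theorem pow_dvd_factorial {p n r : ℕ} (hp : p.Prime) (hn : n < p ^ 2) (h : p ^ r ∣ n.factorial) :
    r ≤ n / p := by
  have := (hp.pow_dvd_factorial_iff (b := 2) (n := n) (r := r)
    (Nat.log_lt_of_lt_pow' (by norm_num) hn)).1 h
  simpa using this

end H74.PQ
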