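/- One filtration step and the vanishing theorem for the norm family. -/
import Cfsg.Agent.H24.CxKit

set_option autoImplicit false

namespace H74.Cx

open Subgroup Cfsg H98 H24.Cx

universe u

theorem jobStep : JobStep.{u} := by
  intro p _ G X W _ _ _ _ _ Γ Y D C C₁ C₂ n hX hp hD hC u1 u2 e s1 s2 h
  have hs := sys_FU hp hD u1 u2 e
  have m : ∀ P Q, Rel p Γ Y P → Rel p Γ Y Q → P ≤ Q → Nat.card (JJ C Y P) ≤ Nat.card (JJ C Y Q) :=
    fun P Q _ _ k => card_le_of_le (JJ_mono k)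
  have i : ∀ g ∈ Γ, ∀ P, Rel p Γ Y P → Nat.card (JJ C Y (cj g P)) = Nat.card (JJ C Y P) :=
    fun g hg P _ => by rw [JJ_cj hp hC hg, card_cj]
  refine van_filt hX hp hs (fun P => Nat.card (JJ C Y P)) m i fun j => ?_
  have hj : Sys p Γ Y (cut (fun P => j < Nat.card (JJ C Y P)) (FU D C₂) (FU D C₁))
      (cut (fun P => j ≤ Nat.card (JJ C Y P)) (FU D C₂) (FU D C₁)) :=
    hs.cut2 hp ⟨fun P Q a b c d => d.trans (m P Q a b c), fun g hg P a d => (i g hg P a).symm ▸ d⟩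
      ⟨fun P Q a b c d => d.trans_le (m P Q a b c), fun g hg P a d => (i g hg P a).symm ▸ d⟩
      fun _ _ a => a.le
  have sup : ∀ P, Rel p Γ Y P → ¬ cut (fun P => j < Nat.card (JJ C Y P)) (FU D C₂) (FU D C₁) P ≤
      cut (fun P => j ≤ Nat.card (JJ C Y P)) (FU D C₂) (FU D C₁) P →
      Nat.card (JJ C Y P) = j ∧ C₁ P ∧ ¬ C₂ P := fun P hP k => by
    rcases lt_trichotomy j (Nat.card (JJ C Y P)) with a | a | a
    · exact absurd (by rw [cut_pos (C := fun P => j < Nat.card (JJ C Y P)) a,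
        cut_pos (C := fun P => j ≤ Nat.card (JJ C Y P)) a.le]) k
    · rw [cut_neg (C := fun P => j < Nat.card (JJ C Y P)) a.not_lt,
        cut_pos (C := fun P => j ≤ Nat.card (JJ C Y P)) a.le] at k
      refine ⟨a.symm, by_contra fun b => k ?_, fun b => k ?_⟩
      · rw [FU_neg b, FU_neg (mt (e P hP) b)]
      · rw [FU_pos b]; exact bot_le
    · exact absurd (by rw [cut_neg (C := fun P => j < Nat.card (JJ C Y P)) a.not_gt,
        cut_neg (C := fun P => j ≤ Nat.card (JJ C Y P)) a.not_ge]) k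
  refine van_loc hX hp hj (JJ C Y) (fun P hP _ => ⟨le_JJ _ _ _, JJ_le hP.ge⟩)
    (fun g hg P _ _ => JJ_cj hp hC hg P) (fun P Q hP hQ a b c => ?_) fun P hP a => ?_
  · refine (eq_of_le_of_card_ge ?_ ((sup Q hQ b).1.trans (sup P hP a).1.symm).le).symm
    rw [← JJ_JJ hP.ge]; exact JJ_mono c
  obtain ⟨a1, a2, a3⟩ := sup P hP a
  have hE := hP.JJ C
  have eE := JJ_JJ (C := C) hP.ge
  have c1 := s1 P hP a2
  have c2 : ¬ C₂ (JJ C Y P) := fun b => a3 (u2.mono _ _ hE hP (JJ_le hP.ge) b)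
  generalize JJ C Y P = E at a1 hE eE c1 c2
  refine (van_congr hX hE.pair (hj.res inf_le_left hE.ge)
    (sys_FU_bot hE.pair (hD.mono inf_le_left) (up_QJ hE.pair (hC.mono inf_le_left))) fun Q hQ => .inr ?_).2
    (h E hE eE c1 c2)
  have rQ := hE.of_loc hQ
  have b := JJ_base hE.ge eE hQ.ge
  have le : E ≤ JJ C Y Q := b ▸ le_JJ _ _ _
  have q1 := FU_pos (D := D) (u1.mono _ _ hE rQ hQ.ge c1)
  refine ⟨?_, by rw [cut_pos (C := fun P => j ≤ Nat.card (JJ C Y P)) (a1 ▸ card_le_of_le le), q1]⟩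
  by_cases k : QJ C E Q
  · rw [FU_pos k, cut_pos (C := fun P => j < Nat.card (JJ C Y P)), q1]
    refine a1 ▸ lt_of_not_ge fun t => k ?_
    rw [b, ← eq_of_le_of_card_ge le t]
  · have t : JJ C Y Q = E := le_antisymm (b ▸ not_not.1 k) le
    rw [FU_neg k, cut_neg (C := fun P => j < Nat.card (JJ C Y P)) (by rw [t, a1]; exact lt_irrefl _),
      FU_neg fun z => c2 (t ▸ s2 Q rQ z)]

theorem jobN : JobN.{u} := by
  intro st nc p _ G X W _ _ _ _ _ Γ₀ D hX hD n
  induction n with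
  | zero =>
    intro Γ Y C₁ C₂ hΓ hp u1 u2 e s1 s2
    have m := hD.mono hΓ
    refine st p G X W Γ Y D _ C₁ C₂ _ hX hp m m.inv_NP u1 u2 e s1 s2 fun E hE _ _ _ => ?_
    have m' : Mod p (Γ ⊓ normalizer (E : Set G)) D := m.mono inf_le_left
    have uq := up_QJ hE.pair m'.inv_NP
    refine van_one hX hE.pair m' uq fun F hF => ?_
    obtain ⟨S, hS, hES⟩ := exists_isSyl_le hE.pair.isP hE.pair.le
    by_cases k : QJ (NP p D) E (JJ (NP p D) E S)
    · exact nc p G X W _ E S D _ _ F hX hE.pair m' m'.inv_NP (fun _ a => a) hS uq k hF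
    · refine ⟨0, zero_mem _, fun x hx q => (k ?_).elim⟩
      have r := hX.rel hE.pair hx (List.cons_ne_nil _ _)
      obtain ⟨g, hg, t⟩ := hS.exists_cj_le r.isP r.le
      have := uq.mono _ S (r.cj hE.pair hg) ⟨hES, hS.le, hS.isPGroup⟩ t (uq.inv g hg _ r q)
      rwa [QJ, JJ_JJ hES]
  | succ n ih =>
    intro Γ Y C₁ C₂ hΓ hp u1 u2 e s1 s2
    have m := hD.mono hΓ
    refine st p G X W Γ Y D _ C₁ C₂ _ hX hp m m.inv_NP u1 u2 e s1 s2 fun E hE _ _ _ => ?_
    have m' : Mod p (Γ ⊓ normalizer (E : Set G)) D := m.mono inf_le_left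
    have uq := up_QJ hE.pair m'.inv_NP
    refine van_sub hX hE.pair (sys_fix m')
      (by rw [← FU_false]; exact sys_FU hE.pair m' uq up_false fun _ _ a => a.elim) (fun _ _ => bot_le) ?_ (van_fix hX hE.pair m')
    rw [← FU_false]
    exact ih _ E _ _ (inf_le_left.trans hΓ) hE.pair uq up_false (fun _ _ a => a.elim)
      (fun P hP a => by rwa [QJ, JJ_JJ hP.ge]) fun _ _ a => a

end H74.Cx
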