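/- D3 tower (row S5261): common lemmas on the conjugates of `W` in `Q₁`. -/
import Cfsg.Agent.H90.D3Kit

set_option autoImplicit false
set_option linter.unusedSectionVars false
set_option linter.unusedSimpArgs false

open Subgroup H90.RF H90.D3

namespace H74.D3O

variable {K : Type*} [Field K] [Finite K] {T : CF K} {p : ℕ} {Y0 Y1 Y2 : Subgroup (Equiv.Perm (Co T))}

/-- conjugation by an element of `S` lies in `Y₁` -/
theorem exists_ut (h : Tri T p Y0 Y1 Y2) (s : Co T) : ∃ γ ∈ Y1, ∀ u ∈ sQ1 T, γ u = s⁻¹ * u * s := by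
  obtain ⟨y, hy, e⟩ := h.inn s⁻¹
  obtain ⟨α, hα, f⟩ := h.res1 y hy
  exact ⟨α, hα, fun u hu => by rw [f u hu, e, inv_inv]⟩

theorem sm_W (l : T.k) {z : Co T} (hz : z ∈ sW T) : z.sm l ∈ sW T :=
  ⟨rfl, by simp [hz.2.1], by simp [hz.2.2.1], by simp [hz.2.2.2]⟩

theorem e_ne {z : Co T} (hz : z ∈ sW T) (hz' : z ∉ sZ T) : z.e ≠ 0 := fun e =>
  hz' ⟨hz.1, hz.2.1, hz.2.2.1, hz.2.2.2, e⟩

/-- the image of `W` is a line -/
theorem line (hA : A1 T) {β : Co T → Co T} (a : Au (sQ1 T) β) {z z' : Co T} (hz : z ∈ sW T) (hz0 : z ∉ sZ T)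
    (hz' : z' ∈ sW T) : ∃ l : T.k, EqV (β z') ((β z).sm l) := by
  obtain ⟨ψ, hψ⟩ := hA β a
  have he := e_ne hz hz0
  refine ⟨ψ (z'.ek / z.ek), EqV.trans (EqV.map a hz'.1 (sm_mem _ _) ?_) (hψ _ z hz.1)⟩
  refine ⟨by simp [hz.2.1, hz'.2.1], by simp [hz.2.2.1, hz'.2.2.1], by simp [hz.2.2.2, hz'.2.2.2], ?_⟩
  simp only [sm_e]
  push_cast [Co.coe_ek]
  field_simp

theorem line' (hA : A1 T) {β : Co T → Co T} (a : Au (sQ1 T) β) {z : Co T} (hz : z ∈ sW T) (l : T.k) :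
    ∃ z' ∈ sW T, EqV (β z') ((β z).sm l) := by
  obtain ⟨ψ, hψ⟩ := hA β a
  exact ⟨z.sm (ψ.symm l), sm_W _ hz, by simpa using hψ (ψ.symm l) z hz.1⟩

theorem pr_W (hA : A1 T) {β : Co T → Co T} (a : Au (sQ1 T) β) {z : Co T} (hz : z ∈ sW T) (hz0 : z ∉ sZ T)
    (k : β z ∈ sW T) : Pr β (sW T) := fun z' hz' => by
  obtain ⟨l, e⟩ := line hA a hz hz0 hz'
  exact ⟨a.mem _ hz'.1, by simp [e.1, k.2.1], by simp [e.2.1, k.2.2.1], by simp [e.2.2.1, k.2.2.2]⟩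

/-- (S): a conjugate of `W` that meets `Z₃` outside `Z` is `W` -/
theorem pr_of_Z3 (hA : A1 T) (h : Tri T p Y0 Y1 Y2) {α : Equiv.Perm (Co T)} (hα : α ∈ Y1) {z : Co T}
    (hz : z ∈ sW T) (hz0 : z ∉ sZ T) (k : α z ∈ sZ3 T) : Pr α (sW T) := by
  have a := h.l1.au α hα
  obtain ⟨t, ht, h0⟩ := T.exists_perp (α z).d
  refine h.ti1 α hα (xa T t) ht fun z' hz' => ?_
  obtain ⟨l, e⟩ := line hA a hz hz0 hz'
  have m := a.mem _ hz'.1
  obtain ⟨c1, c2, c3, c4⟩ := cj_Q1 (xa T t) m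
  have m' : (xa T t)⁻¹ * α z' * xa T t ∈ sQ1 T := nQ1.conj_mem' _ m _
  have hZ : (α z')⁻¹ * ((xa T t)⁻¹ * α z' * xa T t) ∈ sZ T := by
    refine (Q1_mod m m').2 ⟨c1, ?_, ?_, ?_⟩
    · simp [c2, e.1, k.2.1]
    · simp [c3, e.1, e.2.1, k.2.1, k.2.2]
    · rw [c4, e.1, e.2.1, e.2.2.1]
      simp only [sm_b, sm_c, sm_d, k.2.1, k.2.2, mul_zero, CF.tr_zero, add_zero]
      rw [mul_left_comm, T.tr_k, show (xa T t).a * (α z).d = (α z).d * t from mul_comm _ _, h0]; simp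
  obtain ⟨z1, h1, e1⟩ := a.sur_of (Z_le.trans W_le_Q1) (pr_Z1 a) _ hZ
  exact ⟨z' * z1, mul_mem hz' (Z_le h1), by rw [a.mul _ hz'.1 _ h1.1, e1]; group⟩

/-- orthogonality is invariant -/
theorem cm_au {β : Co T → Co T} (a : Au (sQ1 T) β) {u w : Co T} (hu : u ∈ sQ1 T) (hw : w ∈ sQ1 T) :
    cm (β u) (β w) = 1 ↔ cm u w = 1 := by
  rw [← a.cm hu hw]
  exact ⟨a.inj _ (cm_a u w), fun e => by rw [e, a.one]⟩

theorem cm_iff {u w : Co T} (hu : u ∈ sQ1 T) (hw : w ∈ sQ1 T) :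
    cm u w = 1 ↔ u.b * w.e - w.b * u.e + T.tr (w.c * u.d) - T.tr (u.c * w.d) = 0 := by
  rw [← cm_g1 hu hw]
  exact ⟨fun e => by rw [e]; rfl, fun e => eq_of_Z (cm_Q1 hu hw) (one_mem _) e⟩

/-- a vector orthogonal to `W` has no first coordinate -/
theorem b_of_perp {z u : Co T} (hz : z ∈ sW T) (hz0 : z ∉ sZ T) (hu : u ∈ sQ1 T) (k : cm z u = 1) :
    u.b = 0 := by
  have := (cm_iff hz.1 hu).1 k
  simpa [hz.2.1, hz.2.2.1, hz.2.2.2, e_ne hz hz0] using this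

theorem not_Z {β : Co T → Co T} (a : Au (sQ1 T) β) {z : Co T} (hz : z ∈ sQ1 T) (k : β z ∈ sZ T) : z ∈ sZ T :=
  a.mem_of (Z_le.trans W_le_Q1) (pr_Z1 a) hz k

/-- squares in `Q₁` in characteristic two -/
theorem sq_iff (h2 : (2 : K) = 0) {u : Co T} (hu : u ∈ sQ1 T) : u * u = 1 ↔ u.b * u.e = T.tr (u.c * u.d) := by
  rw [mem_sQ1] at hu
  have g : (u * u).g = T.tr (u.c * u.d) - u.b * u.e := by
    simp [hu]; linear_combination u.g * h2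
  refine ⟨fun e => ?_, fun e => ?_⟩
  · rw [e] at g; exact (sub_eq_zero.1 g.symm).symm
  · ext
    · simp [hu]
    · simp [hu]; linear_combination u.b * h2
    · simp [hu]; linear_combination u.c * h2
    · simp [hu]; linear_combination u.d * h2
    · simp [hu]; linear_combination u.e * h2
    · rw [g, e, sub_self]; rfl

theorem sing (h2 : (2 : K) = 0) {β : Co T → Co T} (a : Au (sQ1 T) β) {u : Co T} (hu : u ∈ sZ3 T) :
    (β u).b * (β u).e = T.tr ((β u).c * (β u).d) := by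
  refine (sq_iff h2 (a.mem _ hu.1)).1 ?_
  rw [← a.mul _ hu.1 _ hu.1, (sq_iff h2 hu.1).2 (by simp [hu.2.1, hu.2.2]), a.one]

theorem two_k (h2 : (2 : K) = 0) : (2 : T.k) = 0 :=
  Subtype.ext ((map_ofNat T.k.subtype 2).trans h2)

theorem exists_sqk (h2 : (2 : K) = 0) (l : T.k) : ∃ r : T.k, (r : K) ^ 2 = l := by
  obtain ⟨r, hr⟩ := exists_sq (two_k h2) l
  exact ⟨r, by rw [← hr]; simp⟩

end H74.D3O
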