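/- D3 tower (row S5261): in characteristic two the conjugates of `W` are opposite. -/
import Cfsg.Agent.H74.D3OKit

set_option autoImplicit false
set_option linter.unusedSectionVars false
set_option linter.unusedSimpArgs false

open Subgroup H90.RF H90.D3

universe v

namespace H74.D3O

variable {K : Type*} [Field K] [Finite K] {T : CF K} {p : ℕ} {Y0 Y1 Y2 : Subgroup (Equiv.Perm (Co T))}

/-- (U): the singular vectors `(0, c, *, *)` are conjugate -/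
theorem trans_sing (h2 : (2 : K) = 0) {u w : Co T} (hu : u ∈ sQ1 T) (b1 : u.b = 0) (b2 : w.b = 0)
    (hc : u.c = w.c) (h0 : u.c ≠ 0) (s1 : T.tr (u.c * u.d) = 0) (s2 : T.tr (w.c * w.d) = 0) :
    ∃ s, EqV (s⁻¹ * u * s) w := by
  obtain ⟨y, hy⟩ := T.wg_sur (d := w.d - u.d) h0 (by rw [mul_sub, T.tr_sub, s1, hc, s2, sub_self])
  rw [T.wg_eq_cr h2] at hy
  have n0 : T.nm u.c ≠ 0 := T.nm_eq_zero.not.2 h0
  obtain ⟨l, hl⟩ := exists_sqk h2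
    ((w.ek - u.ek - T.trk (y * u.d) - T.trk (T.sh y * u.c)) / T.nmk u.c)
  push_cast [Co.coe_ek, CF.coe_trk, CF.coe_nmk] at hl
  rw [eq_div_iff n0] at hl
  obtain ⟨c1, c2, c3, c4⟩ := cj_Q1 (xa T (y + l * u.c)) hu
  refine ⟨xa T (y + l * u.c), by rw [c1, b1, b2], by rw [c2, b1, ← hc]; simp, ?_, ?_⟩
  · rw [c3, b1, T.cr_comm, show (xa T (y + l * u.c)).a = y + l * u.c from rfl, T.cr_add, hy,
      T.cr_fix (T.σ_k l), T.cr_self, h2]
    ring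
  · rw [c4, b1, show (xa T (y + l * u.c)).a = y + l * u.c from rfl]
    have e1 : T.tr ((y + l * u.c) * u.d) = T.tr (y * u.d) := by
      rw [add_mul, T.tr_add, mul_assoc, T.tr_k, s1]; simp
    have e2 : T.tr (T.sh (y + l * u.c) * u.c) =
        T.tr (T.sh y * u.c) + 2 * l * T.tr (T.sh u.c * y) + 3 * l ^ 2 * T.nm u.c := by
      simp only [CF.tr, CF.nm, CF.sh, map_add, map_mul, T.cube, CF.σ_k]; ring
    rw [e1, e2]
    linear_combination hl + (l * T.tr (T.sh u.c * y) + l ^ 2 * T.nm u.c) * h2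

theorem app_inv (α : Equiv.Perm (Co T)) (u : Co T) : α (α⁻¹ u) = u := by simp

section Main
variable (h2 : (2 : K) = 0) (hA : A1 T) (h : Tri T p Y0 Y1 Y2) {α : Equiv.Perm (Co T)} (hα : α ∈ Y1)
  {z : Co T} (hz : z ∈ sW T) (hz0 : z ∉ sZ T) (b0 : (α z).b = 0) (c0 : (α z).c ≠ 0) (d0 : (α z).d = 0)
  (e0 : (α z).e = 0)
include h2 hA h hα hz hz0 b0 c0 d0 e0

/-- `V₂ ∩ α V₂ = 0` -/
theorem inter {y : Co T} (hy : y ∈ sZ3 T) (k : α y ∈ sZ3 T) : y ∈ sZ T := by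
  have a := h.l1.au α hα
  have a' := h.l1.au α⁻¹ (inv_mem hα)
  have p1 : cm (α z) (α y) = 1 := (cm_au a hz.1 hy.1).2 (cm_Z3_Z3 (W_le hz) hy)
  rw [cm_iff (a.mem _ hz.1) k.1, b0, k.2.1, k.2.2] at p1
  have m : α (z * y) = α z * α y := a.mul _ hz.1 _ hy.1
  have ma : (α y).a = 0 := k.1
  obtain ⟨s, hs⟩ := trans_sing h2 (w := α (z * y)) (a.mem _ hz.1) b0 (by simp [m, b0, k.2.1])
    (by simp [m, ma, k.2.2]) c0 (by simp [d0]) (by simpa [m, ma, k.2.2, d0] using p1)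
  obtain ⟨γ, hγ, e⟩ := exists_ut h s
  have m1 := a.mem _ hz.1
  have q : EqV ((α⁻¹ * γ * α) z) (z * y) := by
    have := EqV.map a' (nQ1.conj_mem' _ m1 s) (a.mem _ (mul_mem hz.1 hy.1)) hs
    simpa [e _ m1] using this
  have hδ : α⁻¹ * γ * α ∈ Y1 := mul_mem (mul_mem (inv_mem hα) hγ) hα
  have zy : z * y ∈ sZ3 T := mul_mem (W_le hz) hy
  have w := pr_of_Z3 hA h hδ hz hz0
    ⟨(h.l1.au _ hδ).mem _ hz.1, q.1.trans zy.2.1, q.2.1.trans zy.2.2⟩ z hz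
  have yW : y ∈ sW T := by
    have : z * y ∈ sW T := ⟨zy.1, zy.2.1, zy.2.2, q.2.2.1.symm.trans w.2.2.2⟩
    simpa using mul_mem (inv_mem hz) this
  obtain ⟨l, el⟩ := line hA a hz hz0 yW
  have l0 : (l : K) = 0 := by simpa [c0, k.2.2] using el.2.1
  exact not_Z a hy.1 ⟨k.1, k.2.1, k.2.2, by simp [el.2.2.1, l0], by simp [el.2.2.2, l0]⟩

/-- every `c` is the second coordinate of a conjugate of `z` -/
theorem onto (c : K) : ∃ γ ∈ Y1, (γ z).b = 0 ∧ (γ z).c = c := by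
  have a := h.l1.au α hα
  have a' := h.l1.au α⁻¹ (inv_mem hα)
  have m1 := a.mem _ hz.1
  have mt : ∀ t, (xa T t)⁻¹ * α z * xa T t ∈ sQ1 T := fun t => nQ1.conj_mem' _ m1 _
  have co : ∀ t, ((xa T t)⁻¹ * α z * xa T t).b = 0 ∧ ((xa T t)⁻¹ * α z * xa T t).c = (α z).c ∧
      ((xa T t)⁻¹ * α z * xa T t).d = T.cr t (α z).c ∧
      ((xa T t)⁻¹ * α z * xa T t).e = T.tr (T.sh t * (α z).c) := fun t => by
    obtain ⟨c1, c2, c3, c4⟩ := cj_Q1 (xa T t) m1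
    rw [c1, c2, c3, c4, b0, d0, e0]
    simp [xa]
  have hb : ∀ t, (α⁻¹ ((xa T t)⁻¹ * α z * xa T t)).b = 0 := fun t => by
    refine b_of_perp hz hz0 (a'.mem _ (mt t)) ((cm_au a hz.1 (a'.mem _ (mt t))).1 ?_)
    rw [app_inv, cm_iff m1 (mt t), (co t).1, (co t).2.1, (co t).2.2.1, b0, d0, T.cr_comm,
      T.tr_cr_self, h2]
    simp
  have inj : Function.Injective fun t => (α⁻¹ ((xa T t)⁻¹ * α z * xa T t)).c := fun t t' e => by
    have n1 := a'.mem _ (mt t)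
    have n2 := a'.mem _ (mt t')
    have y3 : (α⁻¹ ((xa T t)⁻¹ * α z * xa T t))⁻¹ * α⁻¹ ((xa T t')⁻¹ * α z * xa T t') ∈ sZ3 T :=
      (mod3 ⟨n1, hb t⟩).2 ⟨⟨n2, hb t'⟩, e.symm⟩
    have ea : α ((α⁻¹ ((xa T t)⁻¹ * α z * xa T t))⁻¹ * α⁻¹ ((xa T t')⁻¹ * α z * xa T t')) =
        ((xa T t)⁻¹ * α z * xa T t)⁻¹ * ((xa T t')⁻¹ * α z * xa T t') := by
      rw [a.mul _ (inv_mem n1) _ n2, a.inv n1, app_inv, app_inv]
    have yZ := pr_Z1 a _ (inter h2 hA h hα hz hz0 b0 c0 d0 e0 y3 (by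
      rw [ea]
      exact (mod3 ⟨mt t, (co t).1⟩).2 ⟨⟨mt t', (co t').1⟩, (co t').2.1.trans (co t).2.1.symm⟩))
    rw [ea, Q1_mod (mt t) (mt t'), (co t).2.2.1, (co t').2.2.1, (co t).2.2.2, (co t').2.2.2] at yZ
    obtain ⟨l, hl⟩ := (T.cr_eq_zero (y := t' - t) c0 (by
      rw [T.cr_sub, T.cr_comm, yZ.2.2.1, T.cr_comm, sub_self])).2
    obtain rfl : t' = t + l * (α z).c := by linear_combination hl
    have e2 : T.tr (T.sh (t + l * (α z).c) * (α z).c) =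
        T.tr (T.sh t * (α z).c) + 2 * l * T.tr (T.sh (α z).c * t) + 3 * l ^ 2 * T.nm (α z).c := by
      simp only [CF.tr, CF.nm, CF.sh, map_add, map_mul, T.cube, CF.σ_k]; ring
    have : (l : K) ^ 2 * T.nm (α z).c = 0 := by
      linear_combination yZ.2.2.2 - e2 - (l * T.tr (T.sh (α z).c * t) + l ^ 2 * T.nm (α z).c) * h2
    have l0 : (l : K) = 0 := by simpa [c0] using this
    simp [l0]
  obtain ⟨t, ht⟩ := Finite.surjective_of_injective inj c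
  obtain ⟨γ, hγ, e⟩ := exists_ut h (xa T t)
  exact ⟨α⁻¹ * γ * α, mul_mem (mul_mem (inv_mem hα) hγ) hα, by simpa [e _ m1] using hb t,
    by simpa [e _ m1] using ht⟩

theorem main : False := by
  have a := h.l1.au α hα
  have a' := h.l1.au α⁻¹ (inv_mem hα)
  have n1 := a'.mem (xe T 1) rfl
  obtain ⟨r, hr, h0⟩ := T.exists_perp (α⁻¹ (xe T 1)).c
  have r3 : xd T r ∈ sZ3 T := ⟨rfl, rfl, rfl⟩
  have mx := a.mem _ r3.1
  have xb : (α (xd T r)).b = 0 := by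
    refine b_of_perp (z := xe T 1) ⟨rfl, rfl, rfl, rfl⟩ (fun e => one_ne_zero e.2.2.2.2) mx ?_
    rw [← app_inv α (xe T 1), cm_au a n1 r3.1, cm_iff n1 r3.1]
    simpa [xd] using h0
  have xc : (α (xd T r)).c ≠ 0 := fun e =>
    hr (inter h2 hA h hα hz hz0 b0 c0 d0 e0 r3 ⟨mx, xb, e⟩).2.2.2.1
  obtain ⟨γ, hγ, g1, g2⟩ := onto h2 hA h hα hz hz0 b0 c0 d0 e0 (α (xd T r)).c
  have g := h.l1.au γ hγ
  have mg := g.mem _ hz.1
  obtain ⟨s, hs⟩ := trans_sing h2 (w := α (xd T r)) mg g1 xb g2 (g2 ▸ xc)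
    (by rw [← sing h2 g (W_le hz), g1, zero_mul]) (by rw [← sing h2 a r3, xb, zero_mul])
  obtain ⟨η, hη, e⟩ := exists_ut h s
  have q : EqV ((α⁻¹ * η * γ) z) (xd T r) := by
    have := EqV.map a' (nQ1.conj_mem' _ mg s) mx hs
    simpa [e _ mg] using this
  have hδ : α⁻¹ * η * γ ∈ Y1 := mul_mem (mul_mem (inv_mem hα) hη) hγ
  have w := pr_of_Z3 hA h hδ hz hz0 ⟨(h.l1.au _ hδ).mem _ hz.1, q.1, q.2.1⟩ z hz
  exact hr (q.2.2.1.symm.trans w.2.2.2)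

end Main

theorem jobOe : JobOe.{v} := fun p _ K _ _ _ T h2 hA Y0 Y1 Y2 h α hα => by
  refine or_iff_not_imp_left.2 fun hn z hz b0 => ?_
  by_contra hz0
  have a := h.l1.au α hα
  have m := a.mem _ hz.1
  have c0 : (α z).c ≠ 0 := fun e => hn (pr_of_Z3 hA h hα hz hz0 ⟨m, b0, e⟩)
  obtain ⟨s, hs⟩ := trans_sing h2 (w := xc T (α z).c) m b0 rfl rfl c0
    (by rw [← sing h2 a (W_le hz), b0, zero_mul]) (by simp [xc])
  obtain ⟨γ, hγ, e⟩ := exists_ut h s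
  rw [← e _ m] at hs
  exact main h2 hA h (mul_mem hγ hα) hz hz0 hs.1 (fun k => c0 (hs.2.1.symm.trans k)) hs.2.2.1 hs.2.2.2

end H74.D3O
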