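/- D3 tower (row S5261): the conjugates of `W` form one orbit. -/
import Cfsg.Agent.H74.D3OKit

set_option autoImplicit false
set_option linter.unusedSectionVars false
set_option linter.unusedSimpArgs false

open Subgroup H90.RF H90.D3

universe v

namespace H74.D3O

theorem rep2 {F : Type*} [Field F] [Finite F] (h2 : (2 : F) ≠ 0) {n n' : F} (hn : n ≠ 0) (hn' : n' ≠ 0)
    (r : F) : ∃ x y : F, n * x ^ 2 + n' * y ^ 2 = r := by
  classical
  have := Fintype.ofFinite F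
  have hc : ringChar F ≠ 2 := fun e => h2 (by
    have := ringChar.Nat.cast_ringChar (R := F)
    rw [e] at this
    exact_mod_cast this)
  obtain ⟨x, y, h⟩ := FiniteField.exists_root_sum_quadratic
    (f := Polynomial.C n * Polynomial.X ^ 2) (g := Polynomial.C n' * Polynomial.X ^ 2 - Polynomial.C r)
    (by rw [Polynomial.degree_C_mul_X_pow _ hn]; rfl) (by
      rw [Polynomial.degree_sub_C] <;> rw [Polynomial.degree_C_mul_X_pow _ hn'] <;> decide)
    (FiniteField.odd_card_of_char_ne_two hc)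
  exact ⟨x, y, by simpa [← add_sub_assoc, sub_eq_zero] using h⟩

variable {K : Type*} [Field K] [Finite K] {T : CF K} {p : ℕ} {Y0 Y1 Y2 : Subgroup (Equiv.Perm (Co T))}

theorem pol (d v w : K) : T.tr (d * ((v + w) * (v + w))) =
    T.tr (d * (v * v)) + 2 * T.tr (d * (v * w)) + T.tr (d * (w * w)) := by
  simp only [CF.tr, map_add, map_mul]; ring

/-- the form `tr (d s²)` takes every value -/
theorem form_univ (h2 : (2 : K) ≠ 0) {d : K} (hd : d ≠ 0) (r : T.k) : ∃ s, T.tr (d * (s * s)) = r := by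
  obtain ⟨s1, h1⟩ : ∃ s, T.tr (d * (s * s)) ≠ 0 := by
    by_contra hh
    push Not at hh
    refine hd (T.tr_nd fun v => mul_left_cancel₀ h2 ?_)
    have := pol (T := T) d 1 v
    rw [hh, hh, hh, one_mul] at this
    linear_combination -this
  obtain ⟨s2, o2, h3⟩ : ∃ s, T.tr (d * (s1 * s)) = 0 ∧ T.tr (d * (s * s)) ≠ 0 := by
    by_contra hh
    push Not at hh
    obtain ⟨v, w, hv, hw, hvw⟩ := T.exists_perp2 (d * s1)
    rw [mul_assoc] at hv hw
    have q1 := hh v hv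
    have q2 := hh w hw
    have q3 := hh (v + w) (by rw [mul_add, mul_add, T.tr_add, hv, hw, add_zero])
    rw [pol, q1, q2] at q3
    have q4 : T.tr (d * (v * w)) = 0 := mul_left_cancel₀ h2 (by linear_combination q3)
    by_cases hs : T.tr (s1 * T.wg v w) = 0
    · obtain ⟨l, m, e⟩ := T.span2 hvw hs
      refine h1 ?_
      rw [show d * (s1 * s1) = l * (d * (s1 * v)) + m * (d * (s1 * w)) by linear_combination d * s1 * e,
        T.tr_add, T.tr_k, T.tr_k, hv, hw]; simp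
    · have : d * v = 0 := T.tr_nd fun x => by
        obtain ⟨l, m, n, e⟩ := T.span3 hs x
        rw [show d * v * x = l * (d * (s1 * v)) + m * (d * (v * v)) + n * (d * (v * w)) by
          linear_combination d * v * e, T.tr_add, T.tr_add, T.tr_k, T.tr_k, T.tr_k, hv, q1, q4]; simp
      exact hvw (by simp [(mul_eq_zero.1 this).resolve_left hd, CF.wg])
  obtain ⟨x, y, e⟩ := rep2 (F := T.k) (fun e => h2 ((map_ofNat T.k.subtype 2).symm.trans (congrArg Subtype.val e)))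
    (n := T.trk (d * (s1 * s1))) (n' := T.trk (d * (s2 * s2))) (fun e => h1 (congrArg Subtype.val e))
    (fun e => h3 (congrArg Subtype.val e)) r
  refine ⟨x * s1 + y * s2, ?_⟩
  have e' := congrArg Subtype.val e
  push_cast [CF.coe_trk] at e'
  rw [pol, show d * (x * s1 * (x * s1)) = x * (x * (d * (s1 * s1))) by ring,
    show d * (x * s1 * (y * s2)) = x * (y * (d * (s1 * s2))) by ring,
    show d * (y * s2 * (y * s2)) = y * (y * (d * (s2 * s2))) by ring]
  simp only [T.tr_k, o2]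
  linear_combination e'

/-- a normalised conjugate of an element of `W` -/
def Nv (Y1 : Subgroup (Equiv.Perm (Co T))) (d e : K) : Prop :=
  ∃ γ ∈ Y1, ∃ z ∈ sW T, (γ z).b = 1 ∧ (γ z).c = 0 ∧ (γ z).d = d ∧ (γ z).e = e

theorem nz {β : Co T → Co T} (a : Au (sQ1 T) β) {z : Co T} (k : (β z).b = 1) : z ∉ sZ T := fun e =>
  one_ne_zero (k.symm.trans (pr_Z1 a z e).2.1)

/-- orthogonal normalised vectors -/
theorem key (hA : A1 T) (h : Tri T p Y0 Y1 Y2) (ho : Opp T Y1) {d e d' e' : K} (v : Nv Y1 d e)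
    (v' : Nv Y1 d' e') {t : K} (ht : e' - e + T.tr (t * (d + d')) + T.nm t = 0) : t = 0 ∧ d' = d := by
  obtain ⟨γ, hγ, z, hz, b1, c1, rfl, rfl⟩ := v
  obtain ⟨γ', hγ', z', hz', b2, c2, rfl, rfl⟩ := v'
  obtain ⟨η, hη, eη⟩ := exists_ut h (xa T t)
  have g := h.l1.au γ hγ
  have g' := h.l1.au γ' hγ'
  have m' := g'.mem _ hz'.1
  have hδ : γ⁻¹ * η * γ' ∈ Y1 := mul_mem (mul_mem (inv_mem hγ) hη) hγ'
  have mδ := (h.l1.au _ hδ).mem _ hz'.1
  have eδ : γ ((γ⁻¹ * η * γ') z') = (xa T t)⁻¹ * γ' z' * xa T t := by simp [eη _ m']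
  obtain ⟨k1, k2, k3, k4⟩ := cj_Q1 (xa T t) m'
  rw [show (xa T t).a = t from rfl, b2, c2] at k2 k3 k4
  have hb : ((γ⁻¹ * η * γ') z').b = 0 := by
    refine b_of_perp hz (nz g b1) mδ ((cm_au g hz.1 mδ).1 ?_)
    rw [eδ, cm_iff (g.mem _ hz.1) (nQ1.conj_mem' _ m' _), k1, k2, k4, b1, b2, c1]
    rw [mul_add, T.tr_add] at ht
    simp only [zero_add, mul_one, mul_zero, zero_mul, CF.tr_zero]
    linear_combination ht
  obtain ⟨l, el⟩ := line hA g hz (nz g b1) (((ho _ hδ).resolve_right fun k => nz g' b2 (k z' hz' hb)) z' hz')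
  rw [eδ] at el
  have t0 : t = 0 := by simpa [k2, c1] using el.2.1
  have l1 : (l : K) = 1 := by simpa [k1, b1, b2, eq_comm] using el.1
  have := el.2.2.1
  rw [k3, t0, sm_d, l1] at this
  exact ⟨t0, by simpa using this⟩

theorem om_of (hA : A1 T) (h : Tri T p Y0 Y1 Y2) (ho : Opp T Y1) {a : K}
    (k : ∀ d e, Nv Y1 d e → d = a ∧ e = 0) : Om T a Y1 := fun α hα => by
  refine (ho α hα).imp_right fun hn => ?_
  have g := h.l1.au α hα
  have w1 : xe T 1 ∈ sW T := ⟨rfl, rfl, rfl, rfl⟩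
  have b0 : (α (xe T 1)).b ≠ 0 := fun e => one_ne_zero (hn _ w1 e).2.2.2.2
  obtain ⟨z1, hz1, e1⟩ := line' hA g w1 (α (xe T 1)).bk⁻¹
  have b1 : (α z1).b = 1 := by rw [e1.1]; simp [b0]
  obtain ⟨η, hη, eη⟩ := exists_ut h (xa T (-(α z1).c))
  have m1 := g.mem _ hz1.1
  obtain ⟨k1, k2, -, -⟩ := cj_Q1 (xa T (-(α z1).c)) m1
  rw [← eη _ m1, b1] at k1 k2
  have c1 : ((η * α) z1).c = 0 := k2.trans (by simp [xa])
  obtain ⟨d1, e0⟩ := k _ _ ⟨η * α, mul_mem hη hα, z1, hz1, k1, c1, rfl, rfl⟩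
  have g' := h.l1.au _ (mul_mem hη hα)
  refine ⟨xa T (-(α z1).c), fun z hz => ?_⟩
  have m := g.mem _ hz.1
  obtain ⟨l, el⟩ := line hA g' hz1 (nz g' k1) hz
  rw [← (cj_Q1 (xa T (-(α z1).c)) m).1, ← eη _ m]
  refine ⟨el.2.1.trans (by simp only [sm_c, c1, mul_zero]), el.2.2.1.trans ?_,
    el.2.2.2.trans (by simp only [sm_e, e0, mul_zero])⟩
  rw [show (η (α z)).b = _ from el.1, sm_d, sm_b, d1, show ((η * α) z1).b = 1 from k1]
  ring

theorem jobOm : JobOm.{v} := fun p _ K _ _ _ T hA Y0 Y1 Y2 h ho => by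
  refine ⟨fun h2 hH => om_of hA h ho fun d e v => ?_, fun h2 => ?_⟩
  · have d0 : ∀ d e, Nv Y1 d e → d = 0 := fun d e v => by
      by_contra hd
      obtain ⟨s, hs⟩ := form_univ (T := T) h2 hd (-(2 : T.k)⁻¹)
      have e2 : ((2 : T.k) : K) = 2 := map_ofNat T.k.subtype 2
      push_cast [e2] at hs
      have s0 : s ≠ 0 := fun e => by simp [e, h2] at hs
      have n0 : T.nm s ≠ 0 := T.nm_eq_zero.not.2 s0
      have := (key hA h ho v v (t := (T.nm s)⁻¹ * (s * s)) (by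
        rw [show (T.nm s)⁻¹ * (s * s) * (d + d) = (T.nm s)⁻¹ * (d * (s * s) + d * (s * s)) by ring,
          T.tr_fix (by simp), T.tr_add, hs, T.nm_mul, T.nm_mul, T.nm_of_fix (l := (T.nm s)⁻¹) (by simp)]
        field_simp
        ring)).1
      simp [s0] at this
    refine ⟨d0 d e v, ?_⟩
    obtain rfl := d0 d e v
    have v' : Nv Y1 0 (-e) := by
      obtain ⟨γ, hγ, z, hz, b1, c1, d1, rfl⟩ := v
      obtain ⟨η, hη, eη⟩ := hH (-1) (by simp)
      obtain ⟨τ, hτ, eτ⟩ := h.res1 η hη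
      have m := (h.l1.au γ hγ).mem _ hz.1
      refine ⟨τ * γ, mul_mem hτ hγ, z, hz, ?_⟩
      rw [Equiv.Perm.mul_apply, eτ _ m, eη]
      simp [dg, b1, c1, d1, T.nm_neg]
    have he : T.σ e = e := by
      obtain ⟨γ, -, z, -, -, -, -, rfl⟩ := v
      exact Co.he _
    obtain ⟨t, ht⟩ := T.exists_nm ⟨e + e, by rw [CF.mem_k, map_add, he]⟩
    have t0 := (key hA h ho v v' (t := t) (by rw [ht]; simp)).1
    rw [t0, CF.nm_zero] at ht
    exact mul_left_cancel₀ h2 (by linear_combination -ht)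
  · have e0 : ∀ d e, Nv Y1 d e → e = 0 := fun d e ⟨γ, hγ, z, hz, b1, c1, _, e1⟩ => by
      simpa [b1, c1, e1] using sing h2 (h.l1.au γ hγ) (W_le hz)
    by_cases hx : ∃ d e, Nv Y1 d e
    · obtain ⟨a, e, v⟩ := hx
      refine ⟨a, om_of hA h ho fun d e' v' => ⟨?_, e0 _ _ v'⟩⟩
      by_contra hd
      have n : a + d ≠ 0 := fun k => hd (by linear_combination k - a * h2)
      obtain ⟨t, ht⟩ := T.exists_tr n 1
      have t0 : T.nm t ≠ 0 := T.nm_eq_zero.not.2 fun e => by simp [e] at ht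
      obtain ⟨l, hl⟩ := exists_sqk h2 (T.nmk t)⁻¹
      push_cast [CF.coe_nmk] at hl ht
      refine hd (key hA h ho v v' (t := l * t) ?_).2
      rw [e0 _ _ v, e0 _ _ v', mul_assoc, T.tr_k, mul_comm t, ht, T.nm_mul, T.nm_of_fix (T.σ_k l), pow_succ,
        hl]
      field_simp
      linear_combination l * h2
    · exact ⟨0, om_of hA h ho fun d e v => absurd ⟨d, e, v⟩ hx⟩

/-- the automorphism that moves the parameter -/
def th (A : K) (u : Co T) : Co T :=
  ⟨u.a, u.b, u.c, u.d + u.b * A, u.e + T.tr (A * u.c), u.g + T.tr (A * u.c) + u.b * T.tr (A * u.c),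
    by simp, by simp, by simp⟩

theorem th_th (h2 : (2 : K) = 0) (A : K) (u : Co T) : th A (th A u) = u := by
  ext <;> simp only [th]
  · linear_combination u.b * A * h2
  · linear_combination T.tr (A * u.c) * h2
  · linear_combination (T.tr (A * u.c) + u.b * T.tr (A * u.c)) * h2

theorem th_mul (h2 : (2 : K) = 0) (hb : ∀ u : Co T, u.b * u.b = u.b) (A : K) (u w : Co T) :
    th A (u * w) = th A u * th A w := by
  ext
  · rfl
  · rfl
  · rfl
  · simp [th]; ring
  · simp [th, CF.tr]; ring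
  · simp only [th, Co.mul_a, Co.mul_b, Co.mul_c, Co.mul_d, Co.mul_e, Co.mul_g, CF.tr, map_add, map_mul, Co.hb]
    linear_combination (A * w.a + T.σ A * T.σ w.a + T.σ (T.σ A) * T.σ (T.σ w.a)) * hb u +
      (w.b * (A * u.c + T.σ A * T.σ u.c + T.σ (T.σ A) * T.σ (T.σ u.c)) +
        (u.b * w.b + u.b) * (A * w.a + T.σ A * T.σ w.a + T.σ (T.σ A) * T.σ (T.σ w.a))) * h2

theorem th_W (A : K) {u : Co T} (hu : u ∈ sW T) : th A u = u := by
  ext <;> simp [th, hu.2.1, hu.2.2.1]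

theorem jobOc : JobOc.{v} := fun p _ K _ _ _ T Y0 Y1 Y2 h a ho => by
  refine ⟨fun x y hx hy ⟨η, hη, eη⟩ hs α hα => ?_, fun hk => ?_⟩
  · by_cases hn : Pr α (sW T)
    · exact Or.inl hn
    obtain ⟨s, hs'⟩ := (ho α hα).resolve_left hn
    suffices a = 0 by exact Or.inr ⟨s, this ▸ hs'⟩
    obtain ⟨z, hz, hz'⟩ : ∃ z ∈ sW T, α z ∉ sW T := by simpa [Pr] using hn
    have m := (h.l1.au α hα).mem _ hz.1
    have m' : s⁻¹ * α z * s ∈ sQ1 T := nQ1.conj_mem' _ m _
    obtain ⟨c1, d1, e1⟩ := hs' z hz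
    have b1 := (cj_Q1 s m).1
    have b0 : (α z).b ≠ 0 := fun e => hz' (by
      have : s⁻¹ * α z * s ∈ sW T := ⟨m', b1.trans e, c1, by simp [d1, e]⟩
      simpa [mul_assoc] using nW.conj_mem _ this s)
    obtain ⟨τ, hτ, eτ⟩ := h.res1 η hη
    obtain ⟨γ, hγ, eγ⟩ := exists_ut h s
    have hδ : τ * γ * α ∈ Y1 := mul_mem (mul_mem hτ hγ) hα
    have eδ : (τ * γ * α) z = dg T x y (s⁻¹ * α z * s) := by
      rw [Equiv.Perm.mul_apply, Equiv.Perm.mul_apply, eγ _ m, eτ _ m', eη]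
    have b2 : ((τ * γ * α) z).b = y * (α z).b := by rw [eδ, ← b1]; rfl
    have c2 : ((τ * γ * α) z).c = 0 := by rw [eδ, show ∀ u, (dg T x y u).c = x * y * u.c from fun _ => rfl, c1]; simp
    have d2 : ((τ * γ * α) z).d = T.sh x * y * (a * (α z).b) := by rw [eδ, ← d1]; rfl
    obtain ⟨s', k⟩ := (ho _ hδ).resolve_left fun k => mul_ne_zero hy b0 (b2.symm.trans (k z hz).2.1)
    obtain ⟨k1, k2, -⟩ := k z hz
    obtain ⟨-, j1, j2, -⟩ := cj_Q1 s' ((h.l1.au _ hδ).mem _ hz.1)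
    rw [j1, c2, b2] at k1
    have a0 : s'.a = 0 := by simpa [hy, b0] using k1
    rw [j2, a0, b2, d2] at k2
    exact mul_left_cancel₀ (mul_ne_zero (sub_ne_zero.2 hs) (mul_ne_zero hy b0))
      (by simp only [CF.zero_cr, CF.sh_zero] at k2; linear_combination k2)
  · have h2 : (2 : K) = 0 := by
      rcases hk (1 + 1) with e | e
      · exact one_add_one_eq_two.symm.trans (congrArg Subtype.val e)
      · simp at e
    have hb : ∀ u : Co T, u.b * u.b = u.b := fun u => by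
      rcases hk u.bk with e | e <;> simp [show u.b = _ from congrArg Subtype.val e]
    let θ : MulAut (Co T) := ⟨⟨th a, th a, th_th h2 a, th_th h2 a⟩, th_mul h2 hb a⟩
    have eθ : ∀ u, θ u = th a u := fun _ => rfl
    refine ⟨θ, Cg_of (fun _ _ k => k) (fun i u hu => ?_) (fun _ => rfl) (fun _ _ => rfl) (fun _ _ => rfl)
      (fun u hu => by simp [eθ, th, hu.2.1]) (fun u hu => by simp [eθ, th, hu.2.2.1])
      (fun u hu => by simp [eθ, th, hu.2.2.1]), fun y hy => ?_⟩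
    · rcases i with _ | _ | _ | _ | _ | _ | i
      · rw [mem_bot.1 hu, map_one]; exact one_mem _
      · rw [eθ, th_W a (Z_le hu)]; exact hu
      · rw [eθ, th_W a hu]; exact hu
      · exact hu
      · exact hu
      · exact hu
      · trivial
    obtain ⟨α, hα, e⟩ := mem_cjY.1 hy
    have ey : ∀ z ∈ sW T, y z = θ (α z) := fun z hz => by
      rw [← th_th h2 a (y z), ← eθ (y z), ← e, eθ z, th_W a hz, eθ]
    refine (ho α hα).imp (fun k z hz => ?_) fun ⟨s, hs⟩ => ⟨θ s, fun z hz => ?_⟩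
    · rw [ey z hz, eθ, th_W a (k z hz)]; exact k z hz
    · obtain ⟨c1, d1, e1⟩ := hs z hz
      rw [ey z hz, ← map_inv, ← map_mul, ← map_mul, eθ]
      refine ⟨c1, ?_, ?_⟩
      · simp only [th, d1, (cj_Q1 s ((h.l1.au α hα).mem _ hz.1)).1]
        linear_combination a * (α z).b * h2
      · simp only [th, c1, e1]; simp

end H74.D3O
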