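/- Tower EA (S4546, S4577), slot G5: a generalized character attached to an orbit of length five. -/
import Cfsg.Agent.H68.EaSpec

set_option autoImplicit false

namespace H74.EaG5

open Cfsg H28 H24.KB H68.EA

universe u

theorem odd_prod {ι : Type*} (s : Finset ι) (ε : ι → ℤ) (h : ∀ i, Odd (ε i)) :
    Odd (∏ i ∈ s, ε i) ∧ 4 ∣ ∑ i ∈ s, (ε i - 1) - (∏ i ∈ s, ε i - 1) := by
  classical
  induction s using Finset.induction_on with
  | empty => simp
  | insert a s ha ih =>
    rw [Finset.prod_insert ha, Finset.sum_insert ha]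
    refine ⟨(h a).mul ih.1, ?_⟩
    obtain ⟨⟨k, hk⟩, m, hm⟩ := ih
    obtain ⟨l, hl⟩ := h a
    refine ⟨m - k * l, ?_⟩
    rw [hk] at hm
    rw [hk, hl]
    linear_combination hm

theorem jobG5 : JobG5.{u} := by
  intro P _ _ I v h16 h2 hf h5 v1
  classical
  have := Fintype.ofFinite P
  have : Finite I := Nat.finite_of_card_ne_zero (by rw [h5]; norm_num)
  have := Fintype.ofFinite I
  have hi : ∀ x : P, x⁻¹ = x := fun x => inv_eq_of_mul_eq_one_right (by rw [← sq, h2])
  have hc : ∀ x y : P, x * y = y * x := fun x y => by rw [← hi (x * y), mul_inv_rev, hi, hi]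
  refine isGeneralizedCharacter_iff.2 ⟨fun g k => by rw [hc k g, mul_inv_cancel_right], fun ψ hψ => ?_⟩
  have p1 := hψ.apply_one_of_comm hc
  obtain ⟨f, rfl⟩ := hψ.isCharacter.exists_hom p1
  have sg : ∀ x : P, ∃ n : ℤ, Odd n ∧ ((f x : ℂˣ) : ℂ) = n := by
    intro x
    have : ((f x : ℂˣ) : ℂ) ^ 2 = 1 := by rw [← Units.val_pow_eq_pow_val, ← map_pow, h2, map_one, Units.val_one]
    rw [sq] at this
    rcases mul_self_eq_one_iff.1 this with h | h
    · exact ⟨1, odd_one, by rw [h]; simp⟩
    · exact ⟨-1, odd_neg_one, by rw [h]; simp⟩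
  choose ε hε eε using sg
  have inj : Function.Injective fun β : I => (β : MulAut P) v := by
    intro β γ h
    have h1 : ((γ⁻¹ * β : I) : MulAut P) v = v := by
      simp only at h
      simp [h]
    have := hf _ (γ⁻¹ * β).2 v v1 h1
    exact (inv_mul_eq_one.1 (Subtype.ext this)).symm
  have pr : ∏ β : I, ε ((β : MulAut P) v) = 1 := by
    let _ : CommGroup P := { ‹Group P› with mul_comm := hc }
    have : Nontrivial I := Finite.one_lt_card_iff_nontrivial.1 (by rw [h5]; norm_num)
    obtain ⟨γ, γ1⟩ := exists_ne (1 : I)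
    have w1 : ∏ β : I, (β : MulAut P) v = 1 := by
      by_contra hw
      refine γ1 (Subtype.ext (hf _ γ.2 _ hw ?_))
      rw [map_prod]
      exact Fintype.prod_equiv (Equiv.mulLeft γ) _ _ fun β => rfl
    have h1 := congrArg (fun x => ((f x : ℂˣ) : ℂ)) w1
    simp only [map_prod, Units.coe_prod, map_one, Units.val_one, eε] at h1
    exact_mod_cast h1
  obtain ⟨-, k, hk⟩ := odd_prod Finset.univ (fun β : I => ε ((β : MulAut P) v)) fun _ => hε _
  rw [pr, Finset.sum_sub_distrib, Finset.sum_const, Finset.card_univ, ← Nat.card_eq_fintype_card, h5] at hk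
  refine ⟨-1 - k, ?_⟩
  have e : ∀ x : P, (if x = 1 then (4 : ℂ) else if ∃ α ∈ I, α v = x then -4 else 0) *
      (starRingEnd ℂ) ((f x : ℂˣ) : ℂ) = (if x = 1 then (4 : ℂ) else 0) -
        if x ∈ Finset.univ.image fun β : I => (β : MulAut P) v then 4 * (ε x : ℂ) else 0 := by
    intro x
    have hm : (x ∈ Finset.univ.image fun β : I => (β : MulAut P) v) ↔ ∃ α ∈ I, α v = x := by simp
    by_cases x1 : x = 1
    · have : ¬ ∃ α ∈ I, α v = x := by
        rintro ⟨α, -, h⟩
        exact v1 (α.injective (by rw [h, x1, map_one]))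
      rw [if_pos x1, if_pos x1, if_neg (hm.not.2 this), x1]
      simp
    · rw [if_neg x1, if_neg x1, eε]
      by_cases h : ∃ α ∈ I, α v = x
      · rw [if_pos h, if_pos (hm.2 h)]
        simp
      · rw [if_neg h, if_neg (hm.not.2 h)]
        simp
  unfold classInner
  refine Eq.trans (congrArg (fun t => (Nat.card P : ℂ)⁻¹ * t) (Finset.sum_congr rfl
    (g := fun x => (if x = 1 then (4 : ℂ) else 0) -
      if x ∈ Finset.univ.image fun β : I => (β : MulAut P) v then 4 * (ε x : ℂ) else 0)
    fun x _ => by convert e x)) ?_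
  beta_reduce
  rw [Finset.sum_sub_distrib, Finset.sum_ite_eq', if_pos (Finset.mem_univ _), Finset.sum_ite_mem,
    Finset.univ_inter, Finset.sum_image fun a _ b _ h => inj h, ← Finset.mul_sum, h16]
  have hk' : ∑ β : I, (ε ((β : MulAut P) v) : ℂ) = 5 + 4 * k := by
    have : ∑ β : I, ε ((β : MulAut P) v) = 5 + 4 * k := by
      simp only [nsmul_eq_mul] at hk
      linear_combination hk
    exact_mod_cast this
  rw [hk']
  push_cast
  ring

end H74.EaG5
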