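import Cfsg.Agent.H44.DP0EPSpec
import Cfsg.Agent.H48.Meta
import Cfsg.Agent.H1.CoprimeGen

/-! # S3275, chapter EP, job E3: the elements of order 3 of `N(S)` -/

set_option autoImplicit false

namespace H74.EpE3

open Subgroup Cfsg H98 H48.DP H57.DPC H48.DP2 H44.EP

universe u

theorem orderOf_cj {G : Type u} [Group G] (a x : G) : orderOf (a * x * a⁻¹) = orderOf x :=
  (MulAut.conj a).orderOf_eq x

theorem conj_mem_no {G : Type u} [Group G] {S : Subgroup G} {x : G} (a : G) (h : x ∈ No S) :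
    a * x * a⁻¹ ∈ No (cj a S) := by
  rw [No, ← cj_normalizer]
  exact conj_mem_cj h

theorem jobE3 : E3.{u} := by
  intro e0 home hh G _ _ M Q S y t hu tx mx pt
  have : Fact (Nat.Prime 2) := ⟨Nat.prime_two⟩
  have : Fact (Nat.Prime 3) := ⟨Nat.prime_three⟩
  obtain ⟨a, ha⟩ := home G M Q hu.toUw y pt.y3
  have y3 : orderOf (a * y * a⁻¹) = 3 := by rw [orderOf_cj, pt.y3]
  have ht : a * t * a⁻¹ ∈ M := hu.ti _ _ y3 ha (by
    have : a * t * a⁻¹ * (a * y * a⁻¹) * (a * t * a⁻¹)⁻¹ = (a * y * a⁻¹)⁻¹ := by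
      calc a * t * a⁻¹ * (a * y * a⁻¹) * (a * t * a⁻¹)⁻¹ = a * (t * y * t⁻¹) * a⁻¹ := by group
        _ = (a * y * a⁻¹)⁻¹ := by rw [pt.ty]; group
    rw [this]
    exact inv_mem ha)
  have nle : ¬ cj a S ≤ M := fun h => by
    have aM : a ∈ M := by
      refine mx.mx (S ⊔ zpowers t) a (two_sup mx.two pt.tN pt.t2)
        (sup_le mx.le ((zpowers_le (G := G)).2 pt.tM)) (card_lt_sup pt.tS) ?_
      rw [cj_le_iff] at h ⊢
      exact sup_le h ((zpowers_le (G := G)).2 (mem_cj.2 (by rwa [inv_inv])))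
    apply pt.yM
    have := M.mul_mem (M.mul_mem (inv_mem aM) ha) aM
    rwa [show a⁻¹ * (a * y * a⁻¹) * a = y by group] at this
  have bot : cj a S ⊓ M = ⊥ :=
    tx _ _ ha y3 (isPGroup_cj a mx.two) (conj_mem_no a pt.yS) nle
  have key : ∀ x ∈ No S, orderOf x = 3 → ∃ b : G, b * x * b⁻¹ ∈ M ∧ cj b S ⊓ M = ⊥ := by
    intro x hx x3
    obtain ⟨h, h1, h2⟩ := hh G M (No (cj a S)) (a * y * a⁻¹) (a * x * a⁻¹) hu.ti ha
      (conj_mem_no a pt.yS) y3 (conj_mem_no a hx) (by rw [orderOf_cj, x3])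
    refine ⟨h * a, ?_, ?_⟩
    · rwa [show h * a * x * (h * a)⁻¹ = h * (a * x * a⁻¹) * h⁻¹ by group]
    · rw [← cj_cj, cj_eq_self h1, bot]
  have fpf : ∀ x ∈ No S, orderOf x = 3 → S ⊓ C1 x = ⊥ := by
    intro x hx x3
    obtain ⟨b, b1, b2⟩ := key x hx x3
    rw [eq_bot_iff]
    rintro c ⟨c1, c2⟩
    have c3 : c * x = x * c := mem_centralizer_singleton_iff.1 c2
    have cM : b * c * b⁻¹ ∈ M := hu.ti _ _ (by rw [orderOf_cj, x3]) b1 (by
      have : b * c * b⁻¹ * (b * x * b⁻¹) * (b * c * b⁻¹)⁻¹ = b * x * b⁻¹ := by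
        calc b * c * b⁻¹ * (b * x * b⁻¹) * (b * c * b⁻¹)⁻¹ = b * (c * x * c⁻¹) * b⁻¹ := by group
          _ = b * x * b⁻¹ := by rw [c3]; group
      rwa [this])
    have : b * c * b⁻¹ ∈ cj b S ⊓ M := ⟨conj_mem_cj c1, cM⟩
    rw [b2, mem_bot] at this
    rw [mem_bot]
    calc c = b⁻¹ * (b * c * b⁻¹) * b := by group
      _ = 1 := by rw [this]; group
  refine ⟨fpf, fun x hx x3 X hX SX xX => ?_, fun B hB => ?_⟩
  · obtain ⟨b, b1, b2⟩ := key x hx x3
    by_contra ne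
    obtain ⟨T, hT⟩ := exists_isSyl 2 M
    obtain ⟨c, -, hc⟩ := (e0 G M Q T hu hT).1.exists_cj_le hX le_top
    have cM : cj c X ≤ M := hc.trans hT.le
    have xM : c * x * c⁻¹ ∈ M := by
      refine mx.mx (cj c X) _ (isPGroup_cj c hX) cM ?_ ?_
      · rw [card_cj]
        exact lt_of_le_of_ne (card_le_of_le SX) fun e => ne (eq_of_le_of_card_ge SX e.ge).symm
      · rwa [cj_eq_self (conj_mem_no c xX)]
    have bc : b * c⁻¹ ∈ M := hu.ti _ _ (by rw [orderOf_cj, x3]) xM (by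
      rwa [show b * c⁻¹ * (c * x * c⁻¹) * (b * c⁻¹)⁻¹ = b * x * b⁻¹ by group])
    have le : cj b S ≤ M := by
      have := cj_le_of_le_of_mem ((cj_mono c SX).trans cM) bc
      rwa [cj_cj, inv_mul_cancel_right] at this
    rw [inf_eq_left.2 le, cj_eq_bot_iff] at b2
    exact mx.nt b2
  · refine (H48.isCyclic_iff_pRankLE_one (by decide) hB).2 fun A cA eA => ?_
    by_contra big
    let f : B →* G := (No S).subtype.comp B.subtype
    have fi : Function.Injective f := (No S).subtype_injective.comp B.subtype_injective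
    have eA' : ∀ z ∈ A.map f, z ^ 3 = 1 := by
      rintro _ ⟨z, hz, rfl⟩
      rw [← map_pow, eA z hz, map_one]
    have AN : A.map f ≤ No S := by
      rintro _ ⟨z, -, rfl⟩
      exact z.1.2
    have nc : ¬ IsCyclic (A.map f) := fun h => big (by
      have := H48.card_le_of_cyclic_of_exponent' h (by decide) eA'
      rwa [card_map_of_injective fi, ← pow_one 3] at this)
    have p3 : IsPGroup 3 (A.map f) := isPGroup_iff_forall.2 fun z hz => ⟨1, by
      rw [pow_one]; exact eA' z hz⟩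
    refine mx.nt (le_bot_iff.1 (H1.le_of_noncyclic_centralizer_le nc AN
      (IsPGroup.coprime_card_of_ne 3 2 (by decide) _ _ p3 mx.two) ⊥ fun z hz z1 => ?_))
    exact (fpf z (AN hz) (orderOf_eq_prime (eA' z hz) z1)).le

end H74.EpE3
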