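import Cfsg.Agent.H74.FLB

/-! The case that all terms are invariant under `Aut F (γ 1)`. -/

set_option autoImplicit false
set_option linter.unusedSectionVars false

namespace H74.FT
open H93 Module

variable {p : ℕ} [hp : Fact p.Prime] {G : Type*} [Group G] [Finite G] {Y H K : Subgroup G} {x : G}
  {M : Type*} [AddCommGroup M] [Module (ZMod p) M] {ρ : G → End (ZMod p) M}
  {V : ℕ → Submodule (ZMod p) M} {L c : ℕ} {α : G → ZMod p}

theorem ker_inv (h5 : 5 ≤ p) (se : SE Y H K (t1 p x)) (R : Rp Y ρ) (Fl : Flag V (L + 2))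
    (hL : L + 2 ≤ p) (n1 : ¬ V (L + 1) ≤ V (L + 2)) (n2 : ¬ V L ≤ V (L + 1))
    (sq : (ρ x - 1) ^ 2 = 0) (sh : Sh V 3 (ρ x - 1)) (a0 : ∀ h ∈ Y, h ∈ H → α h ≠ 0)
    (hw : ∀ h ∈ Y, h ∈ H → ∀ i < L + 2, ∀ v ∈ V i, ρ h v - α h ^ (i + c) • v ∈ V (i + 1))
    (hb : ∀ h ∈ Y, h ∈ H → ∃ b : ℕ, ρ h * ρ x = ρ x ^ b * ρ h)
    (ni : ¬ ∀ g ∈ Y, ∀ v ∈ V (L + 1), ρ g v ∈ V (L + 1)) :
    ∀ g ∈ Y, ∀ v, (ρ x - 1) v = 0 → (ρ x - 1) (ρ g v) = 0 := by
  classical
  obtain ⟨N, hN⟩ : ∃ N, N = ρ x - 1 := ⟨_, rfl⟩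
  have rd : RD (g1 p) (t1 p x) ρ 1 := R.rd_nil se.mem1 sq
  rw [← hN] at sq sh ⊢
  by_cases N0 : N = 0
  · simp [N0]
  obtain ⟨z, z1, z2⟩ := SetLike.not_le_iff_exists.1 n1
  obtain ⟨y, y1, y2⟩ := SetLike.not_le_iff_exists.1 n2
  have z0 : z ≠ 0 := fun r => z2 (r ▸ zero_mem _)
  have sp : ∀ v ∈ V (L + 1), ∃ a : ZMod p, v = a • z := fun v hv => by
    obtain ⟨a, e⟩ := Fl.step _ z z1 z2 v hv
    exact ⟨a, sub_eq_zero.1 (Fl.eq_zero le_rfl e)⟩
  obtain ⟨g0, hg0, n0⟩ : ∃ g ∈ Y, ρ g z ∉ Submodule.span (ZMod p) {ρ 1 z} := by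
    by_contra! r
    refine ni fun g hg v hv => ?_
    obtain ⟨a, rfl⟩ := sp v hv
    obtain ⟨b, e⟩ := Submodule.mem_span_singleton.1 (r g hg)
    rw [map_smul, ← e, R.one]
    exact Submodule.smul_mem _ _ (Submodule.smul_mem _ _ z1)
  have wz : ∀ h ∈ Y, h ∈ H → ρ h z = α h ^ (L + 1 + c) • z := fun h a b =>
    sub_eq_zero.1 (Fl.eq_zero le_rfl (hw h a b _ (by omega) z z1))
  have c1 : L + c ≡ 0 [MOD p - 1] := by
    let B : M →ₗ[ZMod p] M →ₗ[ZMod p] Dual (ZMod p) M →ₗ[ZMod p] M :=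
      LinearMap.smulRightₗ ∘ₗ Dual.eval (ZMod p) M
    have hB : ∀ u v φ, (B - B.flip) u v φ = φ u • v - φ v • u := fun _ _ _ => rfl
    obtain ⟨ε, e1, e2⟩ := SE.rel (f₁ := fun g => ρ g z) (ν := 1 + 1)
      (f₂ := fun g => (B - B.flip) (ρ g z) (ρ g y)) (e := L + 1 + c + (L + c)) se (Γ := g1 p) le_rfl
      (R.dg_vec se.mem rd z) hg0 n0 a0 (fun h a b => R.sem_vec a (wz h a b)) (by omega)
      (fun u hu g hg => Gr.bil (B - B.flip) (R.dg_vec se.mem rd z u hu g hg)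
        (R.dg_vec se.mem rd y u hu g hg)) (fun g hg r => by
        obtain ⟨φ, a⟩ := not_forall.1 ((forall_dual_apply_eq_zero_iff (ZMod p) _).not.2 (R.ne hg z0))
        have := LinearMap.congr_fun r φ
        rw [hB, LinearMap.zero_apply, sub_eq_zero, ← map_smul, ← map_smul] at this
        exact y2 (((V _).smul_mem_iff a).1 (R.inj hg this ▸ Submodule.smul_mem _ _ z1)))
      (fun h a b g hg => by
        obtain ⟨d, e⟩ := sp _ (hw h a b L (by omega) y y1)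
        refine LinearMap.ext fun φ => ?_
        simp only [R.app hg a, wz h a b, sub_eq_iff_eq_add.1 e, LinearMap.smul_apply, hB, map_add,
          map_smul, pow_add, LinearMap.add_apply]
        module)
    obtain ⟨k, hk⟩ := hp.out.even_sub_one (by omega)
    have d2 : 2 ∣ p - 1 := ⟨k, by omega⟩
    interval_cases ε
    · have := e2.of_dvd d2
      unfold Nat.ModEq at this; omega
    · exact Nat.ModEq.add_left_cancel' (L + 1 + c) (by simpa using e2)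
    · have := e2.of_dvd d2
      unfold Nat.ModEq at this; omega
  have ex : ∃ k, ∀ v ∈ V k, N v = 0 := ⟨L + 2, fun v hv => by rw [Fl.eq_zero le_rfl hv, map_zero]⟩
  obtain ⟨k, hk⟩ : ∃ k, Nat.find ex = k + 1 := Nat.exists_eq_succ_of_ne_zero fun r =>
    N0 (LinearMap.ext fun v => (r ▸ Nat.find_spec ex) v (Fl.mem0 v))
  have k1 := hk ▸ Nat.find_spec ex
  have k2 := Nat.find_min ex (by omega : k < Nat.find ex)
  push Not at k2
  obtain ⟨u, u1, u2⟩ := k2
  obtain ⟨k', l1, l2, l3⟩ := Fl.level u2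
  obtain ⟨d, rfl⟩ : ∃ d, k' = k + (d + 3) := by
    refine ⟨k' - k - 3, ?_⟩
    by_contra r
    exact l3 (Fl.anti (by omega) (sh k u u1))
  have wN : ∀ h ∈ Y, h ∈ H → ρ h * N = α h ^ (d + 3) • (N * ρ h) := fun h a b => by
    obtain ⟨β, e⟩ := hb h a b
    obtain ⟨P, e'⟩ := one_add_pow N β
    rw [← sub_add_cancel (ρ x) 1, ← hN, e', sq, zero_mul, add_zero, mul_add, add_mul, mul_one,
      one_mul, add_comm, add_right_inj, smul_mul_assoc] at e
    rw [e]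
    congr 1
    have e1 : N (ρ h u) = α h ^ (k + c) • N u := by
      rw [← map_smul, ← sub_eq_zero, ← map_sub]
      exact k1 _ (hw h a b k (by omega) u u1)
    have e2 := hw h a b _ l1 _ l2
    rw [← End.mul_apply, e, LinearMap.smul_apply, End.mul_apply, e1, smul_smul, ← sub_smul] at e2
    by_contra r
    refine l3 (((V _).smul_mem_iff fun q => r ?_).1 e2)
    refine mul_right_cancel₀ (pow_ne_zero (k + c) (a0 h a b)) ?_
    rw [sub_eq_zero.1 q, ← pow_add]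
    congr 1
    omega
  obtain ⟨ε, e1, e2⟩ := SE.rel (f₁ := fun g => ρ g z) (f₂ := fun g => ρ g * N * ρ g⁻¹) se
    (Γ := g1 p) le_rfl (R.dg_vec se.mem rd z) hg0 n0 a0 (fun h a b => R.sem_vec a (wz h a b))
    (by omega) (R.dg_end se.mem rd N)
    (fun g hg => R.conj_ne hg N0) fun h a b => R.sem_end a (wN h a b)
  have e3 : d + 3 ≡ ε [MOD p - 1] := e2.trans (by
    rw [add_right_comm]
    simpa using (c1.add_right 1).mul_left ε)
  have e4 : d + 3 = p - 1 := by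
    by_contra r
    have := e3.eq_of_lt_of_lt (by omega) (by omega)
    omega
  intro g hg
  refine (R.end_inv hg (se.line1 (Γ := g1 p) (f := fun g => ρ g * N * ρ g⁻¹) (R.dg_end se.mem rd N)
    le_rfl (by show _ < p - 1; omega) (fun h a b => ⟨_, ?_, R.sem_end a (wN h a b)⟩) hg)).2
  rw [pow_one, e4]
  exact pow_eq_one_of_dvd (a0 h a b) dvd_rfl

end H74.FT

namespace H74.FM
open Cfsg H92 H92.Es H93 H92.P5 Subgroup H74.FT Module
open scoped commutatorElement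

universe u

theorem jobA : JobA.{u} := by
  intro Ω _ _ S p n hp F γ c κ E P all m' m U x D π ρ j lo q q'
  have h := c.mx
  have p5 := P.p5
  have sec := q.sec
  have hE := P.ess.2.1
  obtain rfl : m = m' + 1 := by
    by_contra r
    have := q.con.lt
    exact q.con.no (m' + 1) (by omega) (by omega) (all _ (by omega))
  have mn := q.le
  have j3 := q'.j3
  have jm := q'.jm
  have lo1 := q'.lo1
  have u2 : γ (m' - 1) ≤ U := q'.u2
  obtain ⟨L, rfl⟩ : ∃ L, m' = lo + L + 1 := ⟨m' - 1 - lo, by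
    by_contra r
    exact h.nle (i := m' - 1) (by omega) (by omega) (u2.trans q'.lo2)⟩
  rw [Nat.add_sub_cancel] at u2
  have xS : x ∈ S ⊓ Nm E := ⟨h.le 1 q.x1.1, q.x1.2⟩
  have xG := Nm_le_Aut F E xS
  have nm : Aut F E ≤ Nm U ⊓ Nm (γ (lo + L + 1 + 1)) := le_inf q.u3 q.g1
  have ex : ∀ g, ∃ t, g ∈ XE F E → t ∈ Nm S ∧ g⁻¹ * t ∈ Ct E := fun g => by
    by_cases hg : g ∈ XE F E
    · obtain ⟨y, y1, y2⟩ := P.ext g hg
      obtain ⟨t, t1, t2⟩ := (jobRed p n F γ c).1 y y1 fun k hk => all k hk y1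
      exact ⟨t, fun _ => ⟨Aut_le_Nm F S t1, div_trans y2 (Ct_anti P.lt.le t2)⟩⟩
    · exact ⟨1, fun r => (hg r).elim⟩
  choose t ht using ex
  have nl : ∀ i, i ≤ lo + L + 1 → γ i ≤ U → ¬ sec.sb (γ i) ≤ sec.sb (γ (i + 1)) := fun i a b r => by
    obtain ⟨y, y1, y2⟩ := h.ex (i := i) (by omega)
    exact y2 ((sec.mem_sb' (h.anti (by omega)) (b y1)).1 (r (sec.mk_mem (b y1) y1)))
  have := ker_inv (L := L) (c := lo + κ) (α := fun g => om p γ 0 (t g)) p5 (seA1 c.sat hE xS q.x2 q.x3)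
    (sec.rp.mono nm) (sec.flag h q'.lo2 inf_le_right) (by have := q'.lo3; omega)
    (nl _ le_rfl q.u1) (nl _ (by omega) u2) q.sq
    (sec.sh (V := fun i => γ (lo + i)) (nm xG) fun i y _ hy => ?_)
    (fun g _ b => h.om_ne (ht g b).1 (by omega)) (fun g a b i hi v hv => ?_) (fun g a b => ?_)
    fun r => q.g2 fun g hg => sec.nm_of (h.succ _) q.u1 (nm hg) (r g hg)
  · refine q.g2 (le_Nm_of_tv c.sat hE le_rfl xS q.x2 xG (fun g _ b => Nm_of_div_Ct (h.nm _ (ht g b).1)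
      (Ct_anti (q.u1.trans q.u2) (div_symm (ht g b).2))) (A := sec.cm (LinearMap.ker (ρ x - 1)))
      (fun g hg => sec.nm_cm (nm hg) (this g hg)) q.g1 (h.succ _) (fun y hy => ?_)
      (tv_of_com (q.g1 xG) fun y hy => ?_))
    · refine sec.mem_cm.2 ⟨q.u1 hy, ?_⟩
      rw [LinearMap.mem_ker, sec.sub_app (nm xG) (q.u1 hy), sec.co.ker _ (sec.com_mem (nm xG) (q.u1 hy))]
      exact com_symm (h.cS hy xS.1)
    · have := (sec.mem_cm.1 hy).2
      rwa [LinearMap.mem_ker, sec.sub_app (nm xG) hy.1, sec.co.ker _ (sec.com_mem (nm xG) hy.1)] at this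
  · have m := commutator_mem_commutator q'.x1 hy
    rcases q'.ne with e | e
    · rcases le_or_gt (j - 1 + (lo + i) + 2) n with r | r
      · exact Or.inl (h.anti (by omega) (h.ne (by omega) (by omega) r m))
      · exact Or.inr (h.anti (by omega) (h.com (by omega) (by omega) m))
    · exact Or.inl (h.anti (by omega) (h.ne_of e (by omega) (by omega) m))
  · have := sec.wt (h.sp (i := lo + i) (by omega)) (nm a) (Ct_anti q.u2 (ht g b).2)
      (h.nm _ (ht g b).1) (h.nm _ (ht g b).1) hv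
    rw [show i + (lo + κ) = lo + i + κ by omega, ← P.pw _ (ht g b).1 _ (by omega)
      (q'.ne.imp (by omega) fun e => ⟨by omega, e⟩)]
    exact this
  · have t3 := Ct_anti q.u2 (ht g b).2
    have t4 : t g ∈ Nm U ⊓ Nm (γ (lo + L + 1 + 1)) := ⟨Nm_of_div_Ct (q.u3 a) t3, h.nm _ (ht g b).1⟩
    have s : Sp p (γ (j - 1)) (γ j) := by
      have := h.sp (i := j - 1) (by omega)
      rwa [Nat.sub_add_cancel (by omega)] at this
    obtain ⟨k, -, k2⟩ := wt_ex s (h.nm _ (ht g b).1) (h.nm _ (ht g b).1)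
    rw [← sec.congr (nm a) (mem_Tv_of_Ct t3 (mul_mem (inv_mem (q.g1 a)) t4.2))]
    exact ⟨_, sec.conj_pow (q'.jE.trans q.u4) t4 (nm xG) (s.pow q'.x1) (k2 x q'.x1)⟩

end H74.FM
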