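import Cfsg.Agent.H74.FWt

/-! Specification of the steps for essential subgroups of fusion systems on groups of maximal
class (blueprints/FUSMC.md). -/

set_option autoImplicit false

namespace H74.FM
open Cfsg H92 H92.Es H93 H92.P5 Subgroup
open scoped commutatorElement

universe u

section
variable {Ω : Type u} [Group Ω] {S : Subgroup Ω}

/-- the nonabelian pearls -/
def XS (p : ℕ) (E : Subgroup Ω) : Prop :=
  Nat.card E = p ^ 3 ∧ IsExtraspecial p E ∧ (p ≠ 2 → Monoid.exponent E = p) ∧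
    (p = 2 → Nonempty (E ≃* QuaternionGroup 2))

/-- the isomorphism types of pearls -/
def Prl (p : ℕ) (E : Subgroup Ω) : Prop :=
  (Nat.card E = p ^ 2 ∧ IsElementaryAbelian p E) ∨ XS p E

/-- an essential subgroup properly inside `γ 1` or `C_S(Z₂(S))` -/
def Bad (p n : ℕ) (F : FusionSystem S) (γ : ℕ → Subgroup Ω) (E : Subgroup Ω) : Prop :=
  F.IsEssential p E ∧ (E < γ 1 ∨ E < Mz n S γ)

/-- the essential subgroups larger than `E` are `γ 1`, `C_S(Z₂(S))` or small -/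
def Top (p n : ℕ) (F : FusionSystem S) (γ : ℕ → Subgroup Ω) (E : Subgroup Ω) : Prop :=
  ∀ D, F.IsEssential p D → Nat.card E < Nat.card D →
    D = γ 1 ∨ D = Mz n S γ ∨ Nat.card D ≤ p ^ 3

/-- the standing hypotheses -/
structure Cx (p n : ℕ) (F : FusionSystem S) (γ : ℕ → Subgroup Ω) : Prop where
  sat : SatA p F
  mx : MX p n S γ

end

/-- a statement about all contexts -/
def All (C : ∀ {Ω : Type u} [Group Ω] [Finite Ω] {S : Subgroup Ω} (p n : ℕ) [Fact p.Prime],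
    FusionSystem S → (ℕ → Subgroup Ω) → Prop) : Prop :=
  ∀ {Ω : Type u} [Group Ω] [Finite Ω] {S : Subgroup Ω} (p n : ℕ) [Fact p.Prime]
    (F : FusionSystem S) (γ : ℕ → Subgroup Ω), Cx p n F γ → C p n F γ

/-- essential subgroups containing a uniform element are pearls -/
def JobPearl : Prop := All.{u} fun {_ _ _ S} p n _ F γ => ∀ E, F.IsEssential p E →
  ¬ E ≤ γ 1 → ¬ E ≤ Mz n S γ → Prl p E ∧ ∃ s ∈ E, s ∉ γ 1 ∧ s ∉ Mz n S γ ∧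
    ((Nat.card E = p ^ 2 ∧ E = γ (n - 1) ⊔ zpowers s) ∨
      (Nat.card E = p ^ 3 ∧ E = γ (n - 2) ⊔ zpowers s))

/-- small primes, small groups -/
def JobSmall : Prop := All.{u} fun p n _ F γ => ∀ E, Bad p n F γ E →
  5 ≤ p ∧ 5 ≤ n ∧ p ^ 3 ≤ Nat.card E

/-- `C_S(Z₂(S))` essential in an exceptional group -/
def JobM6 : Prop := All.{u} fun {_ _ _ S} p n _ F γ => ¬ γ 1 ≤ Ct (γ (n - 2)) →
  F.IsEssential p (Mz n S γ) → n = 6 ∧ ∀ E, F.IsEssential p E → E < Mz n S γ → E ≤ γ 2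

/-- bad subgroups of `C_S(Z₂(S))` outside `γ 1` -/
def JobE1 : Prop := All.{u} fun {_ _ _ S} p n _ F γ => ¬ γ 1 ≤ Ct (γ (n - 2)) →
  ∀ E, F.IsEssential p E → E < Mz n S γ → ¬ E ≤ γ 1 →
    (∀ g ∈ XE F E, ∃ t ∈ Aut F S, g⁻¹ * t ∈ Ct E) → False

/-- no extraspecial pearls in exceptional groups -/
def JobMore : Prop := All.{u} fun {_ _ _ S} p n _ F γ => ¬ γ 1 ≤ Ct (γ (n - 2)) →
  ∀ E s, F.IsEssential p E → s ∈ S → s ∉ γ 1 → s ∉ Mz n S γ → E = γ (n - 2) ⊔ zpowers s →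
    (∀ g ∈ XE F E, ∃ t ∈ Aut F S, g⁻¹ * t ∈ Ct E) → False

/-- a transvection with centre `Z(S)` and a second element of `Out_S(E)` -/
def JobTP : Prop := All.{u} fun {_ _ _ S} p n _ F γ => ∀ E U x w a, F.IsEssential p E →
  n ≤ p + 1 → 1 ≤ a → γ (n - 1) ≤ U → U ≤ E ⊓ Ct E → (∀ y ∈ U, y ^ p = 1) → Aut F E ≤ Nm U →
  U ≤ γ a → XE F E ≤ Nm (γ (n - 1)) → x ∈ S ⊓ Nm E → x ∉ E → x ∈ Tv U (γ (n - 1)) →
  x ∈ Ct (U ⊓ γ (a + 1)) → w ∈ S ⊓ Nm E → w ∉ E ⊔ zpowers x → ⁅w, x⁆ ∈ E →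
  Aut F E ≤ Nm (γ (n - 1))

/-- order `p ^ 6`, `C_S(Z₂(S))` essential -/
def JobN6 : Prop := All.{u} fun {_ _ _ S} p n _ F γ => n = 6 → ¬ γ 1 ≤ Ct (γ 4) →
  ¬ ⁅γ 1, γ 1⁆ ≤ γ 5 → ¬ F.IsEssential p (γ 1) ∧ ∀ E, F.IsEssential p E → E ≤ γ 2 →
    (∀ g ∈ XE F E, ∃ t ∈ Aut F (Mz n S γ), g⁻¹ * t ∈ Ct E) → False

/-- the main case -/
def JobP : Prop := All.{u} fun p n _ F γ => 5 ≤ p → 5 ≤ n →
  (γ 1 ≤ Ct (γ (n - 2)) ∨ ¬ ⁅γ 1, γ 1⁆ ≤ γ (n - 1)) → ∀ E, F.IsEssential p E → E < γ 1 →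
    (∀ g ∈ XE F E, ∃ t ∈ Aut F (γ 1), g⁻¹ * t ∈ Ct E) → False

/-- the result in the ambient group -/
def Main : Prop := All.{u} fun {_ _ _ S} p n _ F γ => (∀ E, ¬ Bad p n F γ E) ∧
  (¬ γ 1 ≤ Ct (γ (n - 2)) → ∀ E, F.IsEssential p E → ¬ XS p E) ∧
  ∀ E, F.IsEssential p E → E = γ 1 ∨ E = Mz n S γ ∨ (Prl p E ∧ ∃ s ∈ E, s ∉ γ 1 ∧ s ∉ Mz n S γ ∧
    ((Nat.card E = p ^ 2 ∧ E = γ (n - 1) ⊔ zpowers s) ∨
      (Nat.card E = p ^ 3 ∧ E = γ (n - 2) ⊔ zpowers s)))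

end H74.FM
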