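import Cfsg.Agent.H74.FT3
import Cfsg.Agent.H74.FSp
import Cfsg.Agent.H70.FM1

/-! Strong embedding of `XE F E`, and elementary abelian sections as modules. -/

set_option autoImplicit false
set_option linter.unusedSectionVars false

namespace H74.FM
open Cfsg H92 H92.Es H93 H92.P5 Subgroup H74.FT Module
open scoped commutatorElement

universe u
variable {Ω : Type u} [Group Ω] {S A B C D E Y : Subgroup Ω} {γ : ℕ → Subgroup Ω}
  {p n i j k a b r L : ℕ} {g s t w x y : Ω} [hp : Fact p.Prime] [Finite Ω]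

section
variable {F : FusionSystem S} (hF : SatA p F) (hE : F.IsFullyNormalized E)
include hF hE

theorem le_XE (hx : x ∈ S ⊓ Nm E) (hx' : x ∉ E) : S ⊓ Nm E ≤ XE F E := fun _ hs =>
  (M.of_mem F inf_le_left hs.1).mem_XE
    (lt_of_le_of_ne (le_inf hE.1 (le_Nm E)) fun e => hx' (e ▸ hx)) hs.2

theorem sXE (hg : g ∈ Aut F E) (ht : t ∈ S ⊓ Nm E) (ht' : t ∉ E) (h : g⁻¹ * t * g ∈ XE F E) :
    g ∈ XE F E := by
  obtain ⟨c, hc, e⟩ := ((hF.pp_of_fn hE).mono_right (sup_le (le_XE hF hE ht ht') (Ct_le_XE F E))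
    (XE_le_Aut F E)).exists_cj_le (Y := cj g⁻¹ (zpowers t))
    (isPGroup_cj _ (hF.pgl (zpowers_le.2 ht.1))) (by rw [cj_zpowers, inv_inv, zpowers_le]; exact h)
  have := mem_XE_of_conj hF hE (mul_mem (XE_le_Aut F E hc) ((Aut F E).inv_mem hg)) ht ht' (by
    have := e (conj_mem_cj c (conj_mem_cj g⁻¹ (mem_zpowers t)))
    convert this using 1; group)
  exact (inv_mem_iff).1 ((mul_mem_cancel_left hc).1 this)

omit hF hE in
theorem val_eq_zero {q : ZMod p} (hx' : x ∉ E) (px : x ^ p ∈ E) (e : x ^ q.val ∈ E) : q = 0 := by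
  by_contra r
  exact hx' (mem_of_zpow px (k := q.val) (by rwa [zpow_natCast]) (by simpa using r))

theorem seA1 (hx : x ∈ S ⊓ Nm E) (hx' : x ∉ E) (px : x ^ p ∈ E) :
    SE (Aut F E) (XE F E) E (t1 p x) :=
  se1 (Nm_le_Aut F E hx) (le_XE hF hE hx hx' hx) ((le_inf hE.1 (le_Nm E)).trans (le_XE hF hE hx hx'))
    (Aut_le_Nm F E) px fun _ hg _ e => or_iff_not_imp_right.2 fun r =>
      sXE hF hE hg (pow_mem hx _) (fun c => r (val_eq_zero hx' px c)) e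

theorem seA2 (hw : w ∈ S ⊓ Nm E) (hx : x ∈ S ⊓ Nm E) (hx' : x ∉ E) (hw' : w ∉ E ⊔ zpowers x)
    (pw : w ^ p ∈ E) (px : x ^ p ∈ E) (c : ⁅w, x⁆ ∈ E) : SE (Aut F E) (XE F E) E (t2 p w x) :=
  se2 (Nm_le_Aut F E hw) (Nm_le_Aut F E hx) (le_XE hF hE hx hx' hw) (le_XE hF hE hx hx' hx)
    ((le_inf hE.1 (le_Nm E)).trans (le_XE hF hE hx hx')) (Aut_le_Nm F E) pw px c
    fun _ hg q e => or_iff_not_imp_right.2 fun r =>
      sXE hF hE hg (mul_mem (pow_mem hw _) (pow_mem hx _)) (fun c => r (by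
        have e1 : q.1 = 0 := val_eq_zero hw' (mem_sup_left pw) ((mul_mem_cancel_right
          (mem_sup_right (pow_mem (mem_zpowers x) q.2.val))).1 (mem_sup_left c))
        have e2 : q.2 = 0 := val_eq_zero hx' px (by simpa [t2, e1] using c)
        exact Prod.ext e1 e2)) e

omit hE in
theorem exists_pow (hx : x ∈ S) (hx' : x ∉ E) : ∃ m, x ^ m ∉ E ∧ (x ^ m) ^ p ∈ E := by
  obtain ⟨k, e⟩ : ∃ k, x ^ p ^ k ∈ E := PMod.of_isPGroup hF.pg E x hx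
  induction k with
  | zero => exact (hx' (by simpa using e)).elim
  | succ k ih =>
    by_cases c : x ^ p ^ k ∈ E
    · exact ih c
    · exact ⟨_, c, by rwa [← pow_mul, ← pow_succ]⟩

/-- an overgroup of `XE F E` in `Y` containing all conjugates of `x` -/
theorem le_of_conj (hY : Y ≤ Aut F E) (hx : x ∈ S ⊓ Nm E) (hx' : x ∉ E) (hxY : x ∈ Y)
    (h1 : ∀ h ∈ Y, h ∈ XE F E → h ∈ B) (h2 : ∀ g ∈ Y, g⁻¹ * x * g ∈ B) : Y ≤ B := by
  obtain ⟨m, a, b⟩ := exists_pow hF hx.1 hx'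
  refine ((seA1 hF hE (pow_mem hx m) a b).mono1 hY (pow_mem hxY m)).le_of (g1 p)
    (Nat.sub_pos_of_lt hp.out.one_lt) h1 fun g hg q => ?_
  have := pow_mem (h2 g hg) (m * q.val)
  rwa [show g⁻¹ * x * g = g⁻¹ * x * g⁻¹⁻¹ by simp, conj_pow, inv_inv, pow_mul] at this

/-- an `XE`-invariant subgroup inside an invariant section centralized by `x` is invariant -/
theorem le_Nm_of_tv (hY : Y ≤ Aut F E) (hx : x ∈ S ⊓ Nm E) (hx' : x ∉ E) (hxY : x ∈ Y)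
    (h1 : ∀ h ∈ Y, h ∈ XE F E → h ∈ Nm C) (hA : Y ≤ Nm A) (hB : Y ≤ Nm B) (l1 : B ≤ C) (l2 : C ≤ A)
    (ht : x ∈ Tv A B) : Y ≤ Nm C :=
  le_of_conj hF hE hY hx hx' hxY h1 fun g hg => Nm_of_Tv (by
    simpa using conj_mem_Tv_of_Nm (hA (Y.inv_mem hg)) (hB (Y.inv_mem hg)) ht) l1 l2

end

variable {M : Type} [AddCommGroup M] [Module (ZMod p) M] {π : Ω → M} {ρ : Ω → End (ZMod p) M}
  {v : M} {W : Submodule (ZMod p) M}

/-- the section `A / B` as a module for `Nm A ⊓ Nm B` -/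
structure Sec (p : ℕ) [Fact p.Prime] (A B : Subgroup Ω) {M : Type} [AddCommGroup M] [Module (ZMod p) M]
    (π : Ω → M) (ρ : Ω → End (ZMod p) M) : Prop where
  co : H9.Coord A B π
  le : B ≤ A
  rp : Rp (Nm A ⊓ Nm B) ρ
  app : ∀ g ∈ Nm A ⊓ Nm B, ∀ y ∈ A, ρ g (π y) = π (g * y * g⁻¹)

theorem exists_sec (hB : B ≤ A) (hc : ⁅A, A⁆ ≤ B) (hpow : ∀ y ∈ A, y ^ p ∈ B) :
    ∃ (d : ℕ) (π : Ω → Fin d → ZMod p) (ρ : Ω → End (ZMod p) (Fin d → ZMod p)),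
      Sec p A B π ρ ∧ B.relIndex A = p ^ d := by
  obtain ⟨d, π, c, e⟩ := H9.exists_coord p (Q := A) (B := B)
    (fun y hy z hz => hc (commutator_mem_commutator hy hz)) hpow
  have : ∀ g : Ω, ∃ L : End (ZMod p) (Fin d → ZMod p), g ∈ Nm A ⊓ Nm B →
      ∀ y ∈ A, L (π y) = π (g * y * g⁻¹) := fun g => by
    by_cases hg : g ∈ Nm A ⊓ Nm B
    · obtain ⟨L, e⟩ := c.exists_lin (p := p) (f := fun y => g * y * g⁻¹) (fun _ _ _ _ => by group)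
        (fun y hy => conj_mem_of_Nm hg.1 hy) fun y _ hy => conj_mem_of_Nm hg.2 hy
      exact ⟨L, fun _ => e⟩
    · exact ⟨1, fun r => (hg r).elim⟩
  choose ρ hρ using this
  refine ⟨d, π, ρ, ⟨c, hB, ⟨c.lin_ext fun y hy => ?_, fun g hg h hh => c.lin_ext fun y hy => ?_⟩, hρ⟩, e⟩
  · simp [hρ 1 (one_mem _) y hy]
  · rw [hρ _ (mul_mem hg hh) y hy, End.mul_apply, hρ h hh y hy, hρ g hg _ (conj_mem_of_Nm hh.1 hy)]
    congr 1; group

namespace Sec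
variable (h : Sec p A B π ρ)
include h

theorem smul (c : ZMod p) (hy : y ∈ A) : c • π y = π (y ^ c.val) := by
  rw [h.co.pow hy, ← Nat.cast_smul_eq_nsmul (ZMod p), ZMod.natCast_zmod_val]

theorem zsmul (c : ℤ) (hy : y ∈ A) : (c : ZMod p) • π y = π (y ^ c) := by
  rw [h.co.zpow hy, Int.cast_smul_eq_zsmul]

/-- the image of a subgroup -/
def sb (C : Subgroup Ω) : Submodule (ZMod p) M where
  carrier := {v | ∃ y ∈ A, y ∈ C ∧ π y = v}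
  zero_mem' := ⟨1, one_mem _, one_mem _, h.co.one⟩
  add_mem' := by
    rintro _ _ ⟨y, a, b, rfl⟩ ⟨z, c, d, rfl⟩
    exact ⟨y * z, mul_mem a c, mul_mem b d, h.co.add y a z c⟩
  smul_mem' := by
    rintro c _ ⟨y, a, b, rfl⟩
    exact ⟨_, pow_mem a _, pow_mem b _, (h.smul c a).symm⟩

/-- the preimage of a subspace -/
def cm (W : Submodule (ZMod p) M) : Subgroup Ω where
  carrier := {y | y ∈ A ∧ π y ∈ W}
  one_mem' := ⟨one_mem _, h.co.one ▸ W.zero_mem⟩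
  mul_mem' := fun {a b} ha hb => ⟨mul_mem ha.1 hb.1, h.co.add a ha.1 b hb.1 ▸ add_mem ha.2 hb.2⟩
  inv_mem' := fun {a} ha => ⟨A.inv_mem ha.1, h.co.inv ha.1 ▸ neg_mem ha.2⟩

theorem mem_sb : v ∈ h.sb C ↔ ∃ y ∈ A, y ∈ C ∧ π y = v := Iff.rfl

theorem mem_cm : y ∈ h.cm W ↔ y ∈ A ∧ π y ∈ W := Iff.rfl

theorem mk_mem (hy : y ∈ A) (hC : y ∈ C) : π y ∈ h.sb C := ⟨y, hy, hC, rfl⟩

theorem mem_sb' (l : B ≤ C) (hy : y ∈ A) : π y ∈ h.sb C ↔ y ∈ C :=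
  ⟨fun ⟨z, a, b, e⟩ => by simpa using mul_mem b (l ((h.co.eq_iff a hy).1 e)), h.mk_mem hy⟩

theorem sb_mono (l : C ≤ D) : h.sb C ≤ h.sb D := fun _ ⟨y, a, b, e⟩ => ⟨y, a, l b, e⟩

theorem sb_top (l : A ≤ C) : h.sb C = ⊤ := eq_top_iff.2 fun v _ => by
  obtain ⟨y, a, rfl⟩ := h.co.surj v; exact h.mk_mem a (l a)

theorem sb_bot (l : A ⊓ C ≤ B) : h.sb C = ⊥ := eq_bot_iff.2 <| by
  rintro _ ⟨y, a, b, rfl⟩; exact (h.co.ker y a).2 (l ⟨a, b⟩)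

theorem le_cm : B ≤ h.cm W := fun y hy => ⟨h.le hy, (h.co.ker y (h.le hy)).2 hy ▸ W.zero_mem⟩

theorem cm_le : h.cm W ≤ A := fun _ hy => hy.1

theorem sb_cm : h.sb (h.cm W) = W := le_antisymm (by rintro _ ⟨y, _, b, rfl⟩; exact b.2) fun v hv => by
  obtain ⟨y, a, rfl⟩ := h.co.surj v; exact h.mk_mem a ⟨a, hv⟩

theorem cm_sb (l : B ≤ C) (l' : C ≤ A) : h.cm (h.sb C) = C :=
  le_antisymm (fun _ hy => (h.mem_sb' l hy.1).1 hy.2) fun _ hy => ⟨l' hy, h.mk_mem (l' hy) hy⟩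

theorem map_sb (hg : g ∈ Nm A ⊓ Nm B) (hC : g ∈ Nm C) (hv : v ∈ h.sb C) : ρ g v ∈ h.sb C := by
  obtain ⟨y, a, b, rfl⟩ := hv
  rw [h.app g hg y a]
  exact h.mk_mem (conj_mem_of_Nm hg.1 a) (conj_mem_of_Nm hC b)

theorem nm_cm (hg : g ∈ Nm A ⊓ Nm B) (e : ∀ v ∈ W, ρ g v ∈ W) : g ∈ Nm (h.cm W) :=
  mem_Nm_of_conj fun y hy => ⟨conj_mem_of_Nm hg.1 hy.1, h.app g hg y hy.1 ▸ e _ hy.2⟩

theorem nm_of (l : B ≤ C) (l' : C ≤ A) (hg : g ∈ Nm A ⊓ Nm B) (e : ∀ v ∈ h.sb C, ρ g v ∈ h.sb C) :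
    g ∈ Nm C := h.cm_sb l l' ▸ h.nm_cm hg e

theorem sub_app (hg : g ∈ Nm A ⊓ Nm B) (hy : y ∈ A) : (ρ g - 1) (π y) = π ⁅g, y⁆ := by
  rw [LinearMap.sub_apply, h.app g hg y hy, commutatorElement_def,
    h.co.add _ (conj_mem_of_Nm hg.1 hy) _ (A.inv_mem hy), h.co.inv hy, sub_eq_add_neg]
  rfl

theorem com_mem (hg : g ∈ Nm A ⊓ Nm B) (hy : y ∈ A) : ⁅g, y⁆ ∈ A := comm_mem_of_Nm hg.1 hy

theorem eq_one_iff (hg : g ∈ Nm A ⊓ Nm B) : ρ g = 1 ↔ g ∈ Tv A B := by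
  rw [← sub_eq_zero]
  refine ⟨fun e => tv_of_com hg.2 fun y hy => (h.co.ker _ (h.com_mem hg hy)).1 ?_,
    fun e => h.co.lin_ext fun y hy => ?_⟩
  · rw [← h.sub_app hg hy, e]; rfl
  · rw [h.sub_app hg hy, (h.co.ker _ (h.com_mem hg hy)).2 (com_of_tv e hy)]; rfl

theorem nm_of_tv (e : g ∈ Tv A B) : g ∈ Nm A ⊓ Nm B := ⟨Nm_of_Tv e h.le le_rfl, e.1⟩

theorem congr (hg : g ∈ Nm A ⊓ Nm B) (e : g⁻¹ * t ∈ Tv A B) : ρ t = ρ g := by
  have := h.rp.mul g hg _ (h.nm_of_tv e)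
  rwa [(h.eq_one_iff (h.nm_of_tv e)).2 e, mul_one, mul_inv_cancel_left] at this

theorem sh {V : ℕ → Subgroup Ω} (hg : g ∈ Nm A ⊓ Nm B)
    (e : ∀ i, ∀ y ∈ A, y ∈ V i → ⁅g, y⁆ ∈ V (i + r) ∨ ⁅g, y⁆ ∈ B) :
    Sh (fun i => h.sb (V i)) r (ρ g - 1) := by
  rintro i _ ⟨y, a, b, rfl⟩
  rw [h.sub_app hg a]
  rcases e i y a b with c | c
  · exact h.mk_mem (h.com_mem hg a) c
  · rw [(h.co.ker _ (h.le c)).2 c]; exact zero_mem _

theorem wt (hs : Sp p C D) (hg : g ∈ Nm A ⊓ Nm B) (e : g⁻¹ * t ∈ Ct A) (h1 : t ∈ Nm C)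
    (h2 : t ∈ Nm D) (hv : v ∈ h.sb C) : ρ g v - wt p C D t • v ∈ h.sb D := by
  obtain ⟨y, a, b, rfl⟩ := hv
  obtain ⟨c, d, f⟩ := wt_ex hs h1 h2
  have := (f y b).congr a (div_symm e)
  have m := conj_mem_of_Nm hg.1 a
  rw [← d, h.app g hg y a, h.zsmul c a, ← h.co.inv_mul (zpow_mem a c) m]
  exact h.mk_mem (mul_mem (A.inv_mem (zpow_mem a c)) m) this

theorem card_sb (l : B ≤ C) (l' : C ≤ A) : Nat.card (h.sb C) = B.relIndex C := by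
  classical
  have c : H9.Coord C B fun y => if hy : y ∈ C then (⟨π y, h.mk_mem (l' hy) hy⟩ : h.sb C) else 0 := by
    refine ⟨fun y a z b => ?_, ?_, fun y a => ?_⟩
    · simp only [a, b, mul_mem a b, dif_pos]; exact Subtype.ext (h.co.add y (l' a) z (l' b))
    · rintro ⟨_, y, a, b, rfl⟩; exact ⟨y, b, by simp [b]⟩
    · simp only [a, dif_pos, Subtype.ext_iff]; exact h.co.ker y (l' a)
  exact c.relIndex.symm

theorem finrank_sb (l : B ≤ C) (l' : C ≤ A) {d : ℕ} (e : B.relIndex C = p ^ d) :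
    finrank (ZMod p) (h.sb C) = d := by
  have : Finite (h.sb C) := Nat.finite_of_card_ne_zero (by
    rw [h.card_sb l l', e]; exact pow_ne_zero _ hp.out.ne_zero)
  have k := Module.natCard_eq_pow_finrank (K := ZMod p) (V := h.sb C)
  rw [h.card_sb l l', e, Nat.card_zmod] at k
  exact (Nat.pow_right_injective hp.out.two_le k).symm

variable (m : MX p n S γ)
include m

theorem flag (l : A ≤ γ a) (l' : A ⊓ γ (a + L) ≤ B) : Flag (fun i => h.sb (γ (a + i))) L where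
  anti i j e := h.sb_mono (m.anti (by omega))
  top := h.sb_top l
  bot := h.sb_bot l'
  step := by
    rintro i _ ⟨y, c, d, rfl⟩ e _ ⟨z, f, g, rfl⟩
    have e' : y ∉ γ (a + i + 1) := fun r => e (h.mk_mem c r)
    have lt : a + i < n := by
      by_contra r
      rw [m.bot (not_lt.1 r), mem_bot] at d
      exact e' (d ▸ one_mem _)
    obtain ⟨k, q⟩ := (m.sp lt).dec d e' g
    refine ⟨k, ?_⟩
    rw [h.zsmul k c, ← h.co.inv_mul (zpow_mem c k) f]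
    exact h.mk_mem (mul_mem (A.inv_mem (zpow_mem c k)) f) q

omit h in
theorem uni (h : Sec p (γ a) (γ (a + L)) π ρ) (hL : a + L ≤ n) (hs : s ∈ S)
    (hu : ∀ j, a ≤ j → j + 2 ≤ a + L → ∀ w ∈ γ j, w ∉ γ (j + 1) → ⁅w, s⁆ ∉ γ (j + 2)) :
    Uni (ρ s - 1) (fun i => h.sb (γ (a + i))) L where
  toFlag := h.flag m le_rfl inf_le_right
  sh := h.sh (V := fun i => γ (a + i)) ⟨m.nmS _ hs, m.nmS _ hs⟩ fun _ _ _ c =>
    Or.inl (com_symm (m.cS c hs))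
  ne i hi e := by
    obtain ⟨y, c, d⟩ := m.ex (i := a + i) (by omega)
    have c' := m.anti (Nat.le_add_right a i) c
    exact d ((h.mem_sb' (m.anti (by omega)) c').1 (e (h.mk_mem c' c)))
  uni := by
    rintro i hi _ ⟨y, c, d, rfl⟩ e r
    have n : s ∈ Nm (γ a) ⊓ Nm (γ (a + L)) := ⟨m.nmS _ hs, m.nmS _ hs⟩
    rw [h.sub_app n c, h.mem_sb' (m.anti (by omega)) (h.com_mem n c)] at r
    exact hu (a + i) (by omega) (by omega) y d (fun q => e (h.mk_mem c q)) (com_symm r)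

end Sec

theorem MX.relIndex (m : MX p n S γ) (e : a + L ≤ n) : (γ (a + L)).relIndex (γ a) = p ^ L := by
  have := H9.relIndex_mul_card_le (m.anti (Nat.le_add_right a L))
  rw [m.card, m.card, show n - a = L + (n - (a + L)) by omega, pow_add] at this
  exact Nat.eq_of_mul_eq_mul_right (pow_pos hp.out.pos _) this

end H74.FM
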