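import Cfsg.Agent.H74.FRed

/-! Lower bounds for noncentral chief factors of `γ 1`. -/

set_option autoImplicit false
set_option linter.unusedSectionVars false

namespace H74.FT
open H93 Module

variable {p : ℕ} [hp : Fact p.Prime] {G : Type*} [Group G] [Finite G] {Y H K : Subgroup G} {s : G}
  {M : Type*} [AddCommGroup M] [Module (ZMod p) M] {ρ : G → End (ZMod p) M}
  {V : ℕ → Submodule (ZMod p) M} {d e c : ℕ}

theorem lb (h3 : 3 ≤ p) (se : SE Y H K (t1 p s)) (R : Rp Y ρ) (U : Uni (ρ s - 1) V d) (d2 : 2 ≤ d)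
    (dp : d ≤ p - 1) (he : 1 ≤ e)
    (irr : ∀ W : Submodule (ZMod p) M, (∀ g ∈ Y, ∀ v ∈ W, ρ g v ∈ W) → W = ⊥ ∨ W = ⊤)
    (hw : ∀ h ∈ Y, h ∈ H → ∃ α : ZMod p, α ^ e = 1 ∧ ρ h * ρ s = ρ s ^ α.val * ρ h ∧
      ∀ v ∈ V (d - 1), ρ h v = α ^ c • v) :
    p - 1 ≤ e * (d - 1) ∧ (d ≤ e ∨ p ≤ d + e) ∧ (e ≤ d → p - 1 ≤ 3 * (d - 1)) := by
  have hs := se.mem1
  have nt : V 1 ≠ ⊤ := fun r => U.ne 0 (by omega) (by rw [zero_add, r]; exact le_top)
  have rd : RD (g1 p) (t1 p s) ρ (d - 1) :=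
    R.rd1 U.anti U.top (by rw [Nat.sub_add_cancel (by omega)]; exact U.bot) hs U.sh
  obtain ⟨z, z1, z2⟩ := SetLike.not_le_iff_exists.1 (U.ne (d - 1) (by omega))
  have z0 : z ≠ 0 := fun r => z2 (r ▸ zero_mem _)
  have key : ¬ ∀ g ∈ Y, ρ g z ∈ Submodule.span (ZMod p) {ρ 1 z} := fun r => by
    simp only [R.one, End.one_apply] at r
    rcases irr (Submodule.span _ {z}) (fun g hg v hv => by
      obtain ⟨a, rfl⟩ := Submodule.mem_span_singleton.1 hv
      rw [map_smul]; exact Submodule.smul_mem _ _ (r g hg)) with q | q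
    · exact z0 (Submodule.span_singleton_eq_bot.1 q)
    · exact nt (top_le_iff.1 (q ▸ (Submodule.span_singleton_le_iff_mem _ _).2
        (U.anti (by omega) z1)))
  have sp : ρ s ^ p = 1 := by
    have := add_one_pow_p (J := ρ s - 1) (U.pow_eq_zero_iff.2 (by omega))
    rwa [sub_add_cancel] at this
  have rg : ∀ i, LinearMap.range (lg (ρ s) ^ i) = V i := fun i => by
    have := lg_pow h3 U.nil i
    rwa [sub_add_cancel, U.range_pow] at this
  have lw : ∀ h (α : ZMod p), α ^ e = 1 → ρ h * ρ s = ρ s ^ α.val * ρ h → ∀ i,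
      ρ h * lg (ρ s) ^ i = α ^ i • (lg (ρ s) ^ i * ρ h) := fun h α a b i =>
    R.pow_conj (lg_conj sp (by rintro rfl; simp [show e ≠ 0 by omega] at a) b) i
  refine ⟨?_, ?_, fun ed => ?_⟩
  · by_contra r
    refine key fun g hg => se.line1 (Γ := g1 p) (f := fun g => ρ g z) (R.dg_vec se.mem rd z) he
      (by show _ < p - 1; omega) (fun h a b => ?_) hg
    obtain ⟨α, x, -, y⟩ := hw h a b
    exact ⟨α ^ c, by rw [← pow_mul, mul_comm, pow_mul, x, one_pow], R.sem_vec a (y z z1)⟩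
  · by_contra r
    obtain ⟨c0, hc⟩ := se.transfer (k := ZMod p) (fun g => ρ g * lg (ρ s) ^ e * ρ g⁻¹)
      fun g hg h a b => by
        obtain ⟨α, x, y, -⟩ := hw h a b
        simpa [x] using R.sem_end a (lw h α x y e) g hg
    let L : End (ZMod p) M →ₗ[ZMod p] M →ₗ[ZMod p] M ⧸ V (p - d) :=
      LinearMap.llcomp _ _ _ _ (V (p - d)).mkQ
    have k : ∀ u ∈ Y, ∀ v, (lg (ρ s) ^ e) (ρ u⁻¹ v) - ρ u⁻¹ (c0 v) ∈ V (p - d) := fun u hu v => by
      have := hc u hu (LinearMap.ker (L ∘ₗ LinearMap.mulLeft _ (ρ u⁻¹))) fun g hg => by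
        have k1 := Gr.gs_fil (D := p - d - 1) L (fun r T a b => LinearMap.ext fun v =>
          (Submodule.Quotient.mk_eq_zero _).2 (U.anti (by omega) (b 0 v (U.mem0 v)))) (R.gs1 hs U.sh)
        have k2 := Gr.sum_eq (Γ := g1 p) (by show _ < p - 1; omega) (Gr.bil
          ((LinearMap.llcomp _ M M _).compl₂ (LinearMap.mulRight _ (ρ u⁻¹) ∘ₗ
            LinearMap.mulLeft _ (ρ g * lg (ρ s) ^ e * ρ g⁻¹))) k1 rd.2)
        rw [LinearMap.mem_ker, map_sum, ← k2]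
        refine Finset.sum_congr rfl fun q _ => LinearMap.ext fun v => ?_
        have m := se.mem q
        simp [L, R.mul, mul_mem, hu, hg, m, inv_mem, R.inv_app hu]
      have := LinearMap.congr_fun (LinearMap.mem_ker.1 this) v
      rw [← Submodule.Quotient.mk_eq_zero]
      simpa [L, R.inv_app hu] using this
    have m1 : ∀ v, (lg (ρ s) ^ e) v ∈ V e := fun v => rg e ▸ LinearMap.mem_range_self _ v
    have c1 : ∀ v, c0 v = 0 := fun v => by
      rcases irr (⨅ u ∈ Y, (V 1).comap (ρ u)) (fun g hg v hv => by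
        simp only [Submodule.mem_iInf, Submodule.mem_comap] at hv ⊢
        exact fun u hu => R.app hu hg v ▸ hv _ (mul_mem hu hg)) with q | q
      · rw [← Submodule.mem_bot (ZMod p), ← q]
        simp only [Submodule.mem_iInf, Submodule.mem_comap]
        intro u hu
        have := sub_mem (U.anti he (m1 (ρ u⁻¹⁻¹ v))) (U.anti (by omega) (k u⁻¹ (inv_mem hu) v))
        simpa using this
      · refine (nt (top_le_iff.1 fun w _ => ?_)).elim
        have : w ∈ ⨅ u ∈ Y, (V 1).comap (ρ u) := q ▸ Submodule.mem_top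
        simp only [Submodule.mem_iInf, Submodule.mem_comap] at this
        simpa [R.one] using this 1 (one_mem _)
    refine U.ne e (by omega) (fun v hv => U.anti (by omega : e + 1 ≤ p - d) ?_)
    obtain ⟨v, rfl⟩ := rg e ▸ hv
    simpa [c1, R.one] using k 1 (one_mem _) v
  · by_contra r
    obtain ⟨i, i1, j, i2⟩ : ∃ i < e, e ∣ c + i := ⟨(e - c % e) % e, Nat.mod_lt _ he, by
      rw [Nat.dvd_iff_mod_eq_zero, Nat.add_mod_mod, ← Nat.mod_add_mod,
        Nat.add_sub_cancel' (Nat.mod_lt _ he).le, Nat.mod_self]⟩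
    refine key fun g hg => se.line2 (A := 1) (B := 1) (f₁ := fun g => ρ g z) (R.dg_vec se.mem rd z)
      (R.dg_end se.mem rd (lg (ρ s) ^ i)) (fun g hg => R.conj_ne hg fun q => ?_) le_rfl
      (by show _ < p - 1; omega) (fun h a b => ?_) hg
    · exact U.ne i (by omega) (by rw [← rg i, q]; simp)
    · obtain ⟨α, x, y, w⟩ := hw h a b
      exact ⟨α ^ c, α ^ i, by rw [pow_one, pow_one, ← pow_add, i2, pow_mul, x, one_pow],
        R.sem_vec a (w z z1), R.sem_end a (lw h α x y i)⟩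

end H74.FT

namespace H74.FM
open Cfsg H92 H92.Es H93 H92.P5 Subgroup H74.FT Module
open scoped commutatorElement

universe u

variable {Ω : Type u} [Group Ω] [Finite Ω] {S Y A B C : Subgroup Ω} {γ : ℕ → Subgroup Ω}
  {p n a b d κ : ℕ} [hp : Fact p.Prime] {F : FusionSystem S} {s t : Ω}
  {M : Type} [AddCommGroup M] [Module (ZMod p) M] {π : Ω → M} {ρ : Ω → End (ZMod p) M}

/-- conjugation relation for an element with a weight modulo a subgroup acting trivially -/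
theorem Sec.conj_pow (h : Sec p A B π ρ) (hC : C ≤ Tv A B) (ht : t ∈ Nm A ⊓ Nm B)
    (hs : s ∈ Nm A ⊓ Nm B) (ps : s ^ p ∈ C) {c : ℤ} (w : W t s C c) :
    ρ t * ρ s = ρ s ^ (c : ZMod p).val * ρ t := by
  have w' : W t s C ((c : ZMod p).val : ℕ) := w.of_eq ps (by simp)
  have := h.congr (pow_mem hs (c : ZMod p).val) (t := t * s * t⁻¹) (hC (by
    simpa only [W, zpow_natCast] using w'))
  rw [← h.rp.pow hs, ← this, ← h.rp.mul _ ht _ hs,
    ← h.rp.mul _ (mul_mem (mul_mem ht hs) (inv_mem ht)) _ ht, inv_mul_cancel_right]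

theorem Sec.irr (h : Sec p (γ a) (γ b) π ρ) (m : MX p n S γ) (h1 : S ≤ Y) (ha : 1 ≤ a) (hb : b ≤ n)
    (c : Con γ Y a b) (W : Submodule (ZMod p) M) (e : ∀ g ∈ Y, ∀ v ∈ W, ρ g v ∈ W) :
    W = ⊥ ∨ W = ⊤ := by
  have nm : Y ≤ Nm (h.cm W) := fun g hg => h.nm_cm ⟨c.n1 hg, c.n2 hg⟩ (e g hg)
  obtain ⟨i, -, -, r⟩ := m.eq_of_normal (h1.trans nm) (h.cm_le.trans (m.anti ha))
  rw [← h.sb_cm (W := W)]
  rcases le_or_gt i a with q | q
  · exact Or.inr (h.sb_top (r ▸ m.anti q))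
  · exact Or.inl (h.sb_bot (inf_le_right.trans (m.le_of_con h1 ha hb c nm (r ▸ m.anti q))))

theorem Pw.len (w : Pw p n F γ κ) (h1 : S ≤ Y) (h2 : Y ≤ Nm (γ 1)) (ha : 1 ≤ a) (hb : a + d ≤ n)
    (c : Con γ Y a (a + d)) : d ≤ p - 1 := by
  have h := w.mx
  by_contra r
  obtain ⟨y, y1, y2⟩ := h.ex (i := a) (by have := c.lt; omega)
  have k := h.anti (by omega : a + p ≤ a + d) (h.pow_of_con h1 ha hb c y y1)
  rcases Nat.lt_or_ge 1 a with q | q
  · exact (h.pow2 q y1).2 y2 (by omega) k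
  rcases le_or_gt (p + 2) n with q' | q'
  · exact (h.pow1 q' ha y1).2 y2 (by omega) k
  obtain rfl : a = 1 := by omega
  have := h.tv_of_con h1 h2 (h.le 1) ha hb c
  rw [h.bot (i := 1 + d) (by omega), Tv_bot] at this
  exact w.na this

theorem jobLB : JobLB.{u} := by
  intro Ω _ _ S p n hp F γ c κ w Y e a d hY hS he hα ha hb d2 con
  have h := c.mx
  have p5 := w.p5
  have h2 : Y ≤ Nm (γ 1) := hY.trans (Aut_le_Nm F _)
  have dp := w.len hS h2 ha hb con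
  have tv := h.tv_of_con hS h2 (h.le 1) ha hb con
  obtain ⟨D, π, ρ, sec, -⟩ := exists_sec (p := p) (h.anti con.lt.le)
    (le_of_tv ((h.anti ha).trans tv)) (h.pow_of_con hS ha hb con)
  obtain ⟨s, s1, s2, s3⟩ := h.exists_unif
  have s0 : Sp p S (γ 1) := h.zero ▸ h.sp (by omega)
  have nm : Y ≤ Nm (γ a) ⊓ Nm (γ (a + d)) := le_inf con.n1 con.n2
  refine ⟨dp, lb (c := a + (d - 1) + κ) (by omega)
    ((seA1 c.sat (h.fn F 1) ⟨s1, h.nmS 1 s1⟩ s2 (s0.pow s1)).mono1 hY (hS s1)) (sec.rp.mono nm)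
    (sec.uni h hb s1 fun j a b w x y => h.unif' s1 s2 s3 (by omega) (by omega) x y) d2 dp
    (Nat.pos_of_dvd_of_pos he (by omega)) (sec.irr h hS ha hb con) fun g hg hg' => ?_⟩
  obtain ⟨t, t1, t2⟩ := h.ext_P c.sat hg'
  have tS := Aut_le_Nm F S t1
  have t3 := Ct_anti (h.anti ha) t2
  have e1 : ρ t = ρ g := sec.congr (nm hg) (mem_Tv_of_Ct t3 (mul_mem (inv_mem (con.n2 hg)) (h.nm _ tS)))
  refine ⟨om p γ 0 t, hα g hg t t1 t2, ?_, fun v hv => ?_⟩
  · obtain ⟨k, k1, k2⟩ := wt_ex (h.sp (i := 0) (by omega)) (h.nm _ tS) (h.nm _ tS)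
    rw [← e1, om, ← k1]
    exact sec.conj_pow tv ⟨h.nm _ tS, h.nm _ tS⟩ (nm (hS s1)) (s0.pow s1) (k2 s (h.zero ▸ s1))
  · have := sec.wt (h.sp (i := a + (d - 1)) (by omega)) (nm hg) t3 (h.nm _ tS) (h.nm _ tS) hv
    rw [sec.sb_bot (inf_le_right.trans (h.anti (by omega))), Submodule.mem_bot, sub_eq_zero] at this
    rw [this, ← w.pw t tS _ (by omega)]
    by_contra r
    exact con.no (n - 1) (by omega) (by omega) (h2.trans (h.nm_Z fun q => r (Or.inr ⟨by omega, q⟩)))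

theorem jobK : JobK.{u} := by
  intro Ω _ _ S p n hp F γ c κ w Y χ e hY hS χ0 χm χe
  have h := c.mx
  have p5 := w.p5
  have n5 := w.n5
  have h2 : Y ≤ Nm (γ 1) := hY.trans (Aut_le_Nm F _)
  have χS : ∀ s ∈ S, χ s = 1 := fun s hs => by
    rw [χe s (hS hs) s (Nm_le_Aut F S ⟨hs, le_Nm S hs⟩) (by simp [one_mem]), h.om_S hs (by omega), one_pow]
  have χ1 := χS 1 (one_mem _)
  have χi : ∀ y ∈ Y, χ y⁻¹ * χ y = 1 := fun y hy => by rw [← χm _ (inv_mem hy) _ hy, inv_mul_cancel, χ1]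
  refine ⟨fun y hy => ?_, fun a d ha hb d2 con => ?_⟩
  · obtain ⟨s, s1, s2, -⟩ := h.exists_unif
    have s0 : Sp p S (γ 1) := h.zero ▸ h.sp (by omega)
    have := ((seA1 c.sat (h.fn F 1) ⟨s1, h.nmS 1 s1⟩ s2 (s0.pow s1)).mono1 hY (hS s1)).const
      (Γ := g1 p) (r := 0) (f := fun y => χ y ^ ((p - 1) / e.gcd (p - 1))) (fun u hu g hg => by
        convert Gr.const ((χ u * χ g) ^ ((p - 1) / e.gcd (p - 1))) using 3 with q
        have m : t1 p s q ∈ S := pow_mem s1 _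
        rw [χm _ (mul_mem hu (hS m)) _ hg, χm _ hu _ (hS m), χS _ m, mul_one])
      (by show _ < p - 1; omega) (fun g hg y hy hy' => by
        obtain ⟨t, t1, t2⟩ := h.ext_P c.sat hy'
        rw [χm _ hg _ hy, mul_pow, χe y hy t t1 t2, ← pow_mul, pow_eq_one_of_dvd
          (h.om_ne (Aut_le_Nm F S t1) (by omega)), mul_one]
        rw [← Nat.mul_div_assoc _ (Nat.gcd_dvd_right _ _), mul_comm,
          Nat.mul_div_assoc _ (Nat.gcd_dvd_left _ _)]
        exact dvd_mul_right _ _) hy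
    simpa [χ1] using this
  let Y0 : Subgroup Ω :=
    { carrier := {y | y ∈ Y ∧ χ y = 1}
      one_mem' := ⟨one_mem _, χ1⟩
      mul_mem' := fun {x y} a b => ⟨mul_mem a.1 b.1, by rw [χm _ a.1 _ b.1, a.2, b.2, one_mul]⟩
      inv_mem' := fun {x} a => ⟨inv_mem a.1, by simpa [a.2] using χi x a.1⟩ }
  have l : Y0 ≤ Y := fun _ a => a.1
  have l0 : S ≤ Y0 := fun s hs => ⟨hS hs, χS s hs⟩
  have nm : Y ≤ Nm Y0 := fun g hg => mem_Nm_of_conj fun x a =>
    ⟨mul_mem (mul_mem hg a.1) (inv_mem hg), by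
      rw [χm _ (mul_mem hg a.1) _ (inv_mem hg), χm _ hg _ a.1, a.2, mul_one, mul_comm, χi g hg]⟩
  refine jobLB p n F γ c κ w Y0 _ a d (l.trans hY) l0 (Nat.gcd_dvd_right _ _) (fun y hy t t1 t2 => ?_)
    ha hb d2 ⟨con.lt, l.trans con.n1, l.trans con.n2, fun k a b r =>
      con.no k a b (h.nm_of_normal l0 nm h2 (by omega) r)⟩
  exact pow_gcd_eq_one.2 ⟨(χe y hy.1 t t1 t2).symm.trans hy.2,
    pow_eq_one_of_dvd (h.om_ne (Aut_le_Nm F S t1) (by omega)) dvd_rfl⟩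

end H74.FM
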