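import Cfsg.Agent.H92.P5D
import Cfsg.Agent.H92.EsX
import Cfsg.Agent.H11.Pearl

/-! `p`-groups of maximal class inside an ambient group: the chain `γ 0 = S > γ 1 > ⋯`. -/

set_option autoImplicit false
set_option linter.unusedSectionVars false

namespace H74.FM
open Cfsg H92 H93 H92.P5 Subgroup
open scoped commutatorElement

universe u
variable {Ω : Type u} [Group Ω] {S A B C K : Subgroup Ω} {γ : ℕ → Subgroup Ω} {p n i j a b : ℕ}
  {g s t w x y : Ω}

/-- The chain of a `p`-group `S` of maximal class and order `p ^ n`, `n ≥ 4`. -/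
structure MX (p n : ℕ) (S : Subgroup Ω) (γ : ℕ → Subgroup Ω) : Prop where
  four : 4 ≤ n
  zero : γ 0 = S
  anti : Antitone γ
  card : ∀ i, Nat.card (γ i) = p ^ (n - i)
  comm : ∀ i, 1 ≤ i → ⁅γ i, S⁆ = γ (i + 1)
  two : ⁅γ 2, γ 1⁆ ≤ γ 4

/-- `C_S(Z₂(S))` -/
def Mz (n : ℕ) (S : Subgroup Ω) (γ : ℕ → Subgroup Ω) : Subgroup Ω := S ⊓ Ct (γ (n - 2))

theorem com_sub (hA : A ≤ S) (hB : B ≤ S) :
    ⁅A.subgroupOf S, B.subgroupOf S⁆ ≤ C.subgroupOf S ↔ ⁅A, B⁆ ≤ C := by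
  rw [commutator_le, commutator_le]
  exact ⟨fun h x hx y hy => h ⟨x, hA hx⟩ hx ⟨y, hB hy⟩ hy, fun h x hx y hy => h x hx y hy⟩

theorem ct_iff : g ∈ Ct A ↔ ∀ x ∈ A, ⁅x, g⁆ = 1 := by
  rw [mem_Ct']
  exact forall₂_congr fun x _ => commutatorElement_eq_one_iff_mul_comm.symm

namespace MX
variable [hp : Fact p.Prime] [Finite S] (h : MX p n S γ)
include h

theorem le (i : ℕ) : γ i ≤ S := h.zero ▸ h.anti (Nat.zero_le i)

theorem cardS : Nat.card S = p ^ n := by rw [← h.zero, h.card]; rfl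

theorem pg : IsPGroup p S := IsPGroup.of_card h.cardS

theorem mc : H11.MaxCl p n fun i => (γ i).subgroupOf S where
  card i := by rw [← h.card i]; exact Nat.card_congr (subgroupOfEquivOfLe (h.le i)).toEquiv
  zero := by rw [h.zero, subgroupOf_self]
  anti i j e := comap_mono (h.anti e)
  comm i hi := by
    apply map_injective S.subtype_injective
    rw [map_commutator, ← MonoidHom.range_eq_map, range_subtype, subgroupOf_map_subtype,
      subgroupOf_map_subtype, inf_eq_left.2 (h.le _), inf_eq_left.2 (h.le _), h.comm i hi]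
  two := (com_sub (h.le 2) (h.le 1)).2 h.two

theorem succ (i : ℕ) : γ (i + 1) ≤ γ i := h.anti (Nat.le_succ i)

theorem sub_inj (hA : A ≤ S) (hB : B ≤ S) (e : A.subgroupOf S = B.subgroupOf S) : A = B := by
  have := congrArg (map S.subtype) e
  rwa [subgroupOf_map_subtype, subgroupOf_map_subtype, inf_eq_left.2 hA, inf_eq_left.2 hB] at this

theorem nmS : ∀ i, S ≤ Nm (γ i)
  | 0 => h.zero.symm ▸ le_Nm S
  | i + 1 => by
    have : Finite (γ (i + 1)) := finite_of_le (h.le _)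
    refine fun s hs => mem_Nm_of_conj fun x hx => ?_
    have := h.succ (i + 1) ((h.comm (i + 1) (by omega)).le
      (commutator_mem_commutator ((γ _).inv_mem hx) hs))
    have e : s * x * s⁻¹ = x * (⁅x⁻¹, s⁆) := by rw [commutatorElement_def]; group
    exact e ▸ mul_mem hx this

theorem normal (i : ℕ) : ((γ i).subgroupOf S).Normal :=
  (normal_subgroupOf_iff_le_normalizer (h.le i)).2 (h.nmS i)

theorem bot (hi : n ≤ i) : γ i = ⊥ := by
  have : Finite (γ i) := finite_of_le (h.le _)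
  exact card_eq_one.1 (by rw [h.card, Nat.sub_eq_zero_of_le hi, pow_zero])

theorem top : ⁅S, S⁆ = γ 2 := by
  have := h.normal
  have e := congrArg (map S.subtype) h.mc.comm_top_top
  rwa [map_commutator, ← MonoidHom.range_eq_map, range_subtype, subgroupOf_map_subtype,
    inf_eq_left.2 (h.le _)] at e

theorem comS (i : ℕ) : ⁅γ i, S⁆ ≤ γ (i + 1) := by
  rcases Nat.eq_zero_or_pos i with rfl | hi
  · rw [h.zero, h.top]; exact h.succ 1
  · exact (h.comm i hi).le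

theorem cS (hx : x ∈ γ i) (hs : s ∈ S) : ⁅x, s⁆ ∈ γ (i + 1) :=
  h.comS i (commutator_mem_commutator hx hs)

theorem com (ha : 1 ≤ a) (hb : 1 ≤ b) : ⁅γ a, γ b⁆ ≤ γ (a + b) :=
  have := h.normal
  (com_sub (h.le a) (h.le b)).1 (h.mc.comm_le ha hb)

theorem ne (ha : 1 ≤ a) (hb : 1 ≤ b) (e : a + b + 2 ≤ n) : ⁅γ a, γ b⁆ ≤ γ (a + b + 1) :=
  have := h.normal
  (com_sub (h.le a) (h.le b)).1 (h.mc.ne_sub.comm_le h.mc ha hb (by omega))

theorem ne_of (hn : γ 1 ≤ Ct (γ (n - 2))) (ha : 1 ≤ a) (hb : 1 ≤ b) :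
    ⁅γ a, γ b⁆ ≤ γ (a + b + 1) := by
  have := h.normal
  refine (com_sub (h.le a) (h.le b)).1 ((h.mc.ne_all_of ?_ (a + b)).comm_le h.mc ha hb le_rfl)
  refine (com_sub (h.le _) (h.le _)).2 (commutator_le.2 fun x hx y hy => ?_)
  rw [ct_iff.1 (hn hy) x hx]; exact one_mem _

theorem exc : γ 1 ≤ Ct (γ (n - 2)) ∨ (Even n ∧ 6 ≤ n ∧ n ≤ p + 1) := by
  have := h.normal
  have h4 := h.four
  by_cases e : p + 2 ≤ n ∨ Odd n ∨ n ≤ 4
  · refine Or.inl fun y hy => ct_iff.2 fun x hx => ?_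
    have := (com_sub (h.le _) (h.le _)).1 (h.mc.ne_all e (n - 1) (n - 2) (by omega) (by omega))
      (commutator_mem_commutator hx hy)
    rwa [h.bot (by omega), mem_bot] at this
  · push Not at e
    have := Nat.not_odd_iff_even.1 e.2.1
    refine Or.inr ⟨this, ?_, by omega⟩
    obtain ⟨k, rfl⟩ := this
    omega

theorem one_eq : γ 1 = S ⊓ Tv (γ 2) (γ 4) := by
  have := h.normal
  have e := (h.mc.ne_three).K_eq h.mc (j := 2) (by omega) (by omega) h.four
  ext x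
  refine ⟨fun hx => ⟨h.le 1 hx, tv_of_com (h.nmS 4 (h.le 1 hx)) fun y hy =>
    com_symm (h.two (commutator_mem_commutator hy hx))⟩, fun hx => ?_⟩
  have : (⟨x, hx.1⟩ : S) ∈ H11.MaxCl.K (fun i => (γ i).subgroupOf S) 2 :=
    H11.mem_secCent.2 fun y hy => com_symm (B := γ 4) (x := x) (y := y) (com_of_tv hx.2 hy)
  rwa [e] at this

theorem nm : ∀ i, Nm S ≤ Nm (γ i) := by
  have k : ∀ i, Nm S ≤ Nm (γ (i + 2)) := fun i => by
    induction i with
    | zero => exact fun g hg => h.top ▸ mem_Nm_commutator hg hg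
    | succ i ih => exact fun g hg => h.comm (i + 2) (by omega) ▸ mem_Nm_commutator (ih hg) hg
  rintro (_ | _ | i)
  · rw [h.zero]
  · exact fun g hg => h.one_eq ▸ mem_Nm_inf hg (mem_Nm_Tv (k 0 hg) (k 2 hg))
  · exact k i

theorem unif (hs : s ∈ S) (hs' : s ∉ γ 1) (hj : 1 ≤ j) (hjn : j + 3 ≤ n) (hw : w ∈ γ j)
    (hw' : w ∉ γ (j + 1)) : ⁅w, s⁆ ∉ γ (j + 2) := by
  have := h.normal
  refine h.mc.comm_notMem (w := ⟨w, h.le j hw⟩) (s := ⟨s, hs⟩) hw hw' ?_
  rwa [h.mc.ne_sub.K_eq h.mc hj (by omega) (by omega)]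

theorem K_eq : @H11.MaxCl.K S _ (fun i => (γ i).subgroupOf S) h.normal (n - 2) =
    (Mz n S γ).subgroupOf S := by
  have h4 := h.four
  have := h.normal
  have b : γ (n - 2 + 2) = ⊥ := h.bot (by omega)
  ext x
  rw [H11.MaxCl.K, H11.mem_secCent, mem_subgroupOf, Mz, mem_inf, ct_iff]
  refine ⟨fun e => ⟨x.2, fun y hy => ?_⟩, fun e y hy => ?_⟩
  · have : ⁅y, (x : Ω)⁆ ∈ γ (n - 2 + 2) := e ⟨y, h.le _ hy⟩ hy
    rwa [b, mem_bot] at this
  · show ⁅(y : Ω), (x : Ω)⁆ ∈ γ (n - 2 + 2)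
    rw [e.2 y hy]; exact one_mem _

theorem unif' (hs : s ∈ S) (hs' : s ∉ γ 1) (hM : s ∉ Mz n S γ) (hj : 1 ≤ j) (hjn : j + 2 ≤ n)
    (hw : w ∈ γ j) (hw' : w ∉ γ (j + 1)) : ⁅w, s⁆ ∉ γ (j + 2) := by
  rcases Nat.lt_or_ge (j + 2) n with e | e
  · exact h.unif hs hs' hj e hw hw'
  have := h.normal
  obtain rfl : j = n - 2 := by omega
  refine h.mc.comm_notMem (w := ⟨w, h.le _ hw⟩) (s := ⟨s, hs⟩) hw hw' ?_
  rwa [h.K_eq]

theorem cardM : Nat.card (Mz n S γ) = p ^ (n - 1) := by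
  have := h.normal
  have h4 := h.four
  have e := h.mc.index_K (j := n - 2) (by omega) (by omega)
  have e2 := ((Mz n S γ).subgroupOf S).index_mul_card
  rw [h.K_eq] at e
  rw [e, h.cardS, Nat.card_congr (subgroupOfEquivOfLe (H := Mz n S γ) (K := S) inf_le_left).toEquiv,
    show n = n - 1 + 1 by omega, pow_succ'] at e2
  exact Nat.eq_of_mul_eq_mul_left hp.out.pos e2

theorem two_le_M : γ 2 ≤ Mz n S γ := fun x hx => ⟨h.le 2 hx, ct_iff.2 fun y hy => by
  have := h.com (by have := h.four; omega) (by omega) (commutator_mem_commutator hy hx)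
  rwa [h.bot (by have := h.four; omega), mem_bot] at this⟩

theorem nmM : Nm S ≤ Nm (Mz n S γ) := fun _ hg => mem_Nm_inf hg (mem_Nm_Ct (h.nm _ hg))

theorem exists_unif : ∃ s ∈ S, s ∉ γ 1 ∧ s ∉ Mz n S γ := by
  have := h.normal
  have h4 := h.four
  obtain ⟨s, h1, h2⟩ := h.mc.exists_unif_top (by omega)
  exact ⟨s, s.2, h1, by have := h2 (n - 2) (by omega) le_rfl; rwa [h.K_eq] at this⟩

theorem pow2 (hi : 2 ≤ i) (hg : g ∈ γ i) :
    g ^ p ∈ γ (i + p - 1) ∧ (g ∉ γ (i + 1) → i + p ≤ n → g ^ p ∉ γ (i + p)) := by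
  have := h.normal
  have h4 := h.four
  obtain ⟨s, -, h2⟩ := h.mc.exists_unif_top (by omega)
  obtain ⟨a, b⟩ := h2.pow_two h.mc hi (g := ⟨g, h.le i hg⟩) hg
  refine ⟨?_, fun c d => b c (by omega)⟩
  rcases le_total (i + p - 1) (n - 2 + 2) with e | e
  · rwa [min_eq_left e] at a
  · rw [min_eq_right e] at a
    have a' : g ^ p ∈ γ (n - 2 + 2) := a
    rw [h.bot (by omega)] at a'
    exact (bot_le : ⊥ ≤ γ _) a'

theorem pow1 (hn : p + 2 ≤ n) (hi : 1 ≤ i) (hg : g ∈ γ i) :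
    g ^ p ∈ γ (i + p - 1) ∧ (g ∉ γ (i + 1) → i + p ≤ n → g ^ p ∉ γ (i + p)) :=
  have := h.normal
  h.mc.pow_one hn hi (g := ⟨g, h.le i hg⟩) hg

theorem cen : S ⊓ Ct S = γ (n - 1) := by
  have := h.normal
  have e := h.mc.center_eq (by have := h.four; omega)
  ext x
  refine ⟨fun hx => ?_, fun hx => ⟨h.le _ hx, ct_iff.2 fun y hy => ?_⟩⟩
  · have : (⟨x, hx.1⟩ : S) ∈ center S :=
      mem_center_iff.2 fun y => Subtype.ext (mem_Ct'.1 hx.2 y y.2)
    rwa [e] at this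
  · have := com_symm (h.cS hx hy)
    rwa [h.bot (by omega), mem_bot] at this

theorem tvS (i : ℕ) : S ≤ Tv (γ i) (γ (i + 1)) :=
  fun _ hs => tv_of_com (h.nmS _ hs) fun _ hx => com_symm (h.cS hx hs)

theorem level (hx : x ∈ S) (h1 : x ≠ 1) : ∃ i < n, x ∈ γ i ∧ x ∉ γ (i + 1) := by
  classical
  have e : ∃ i, x ∉ γ (i + 1) := ⟨n, by rw [h.bot (by omega)]; exact h1⟩
  refine ⟨Nat.find e, ?_, ?_, Nat.find_spec e⟩
  · have := h.four
    exact (Nat.find_le (n := n - 1) (by rw [h.bot (by omega)]; exact h1)).trans_lt (by omega)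
  · rcases e' : Nat.find e with _ | k
    · exact h.zero.symm ▸ hx
    · exact not_not.1 (Nat.find_min e (by omega))

theorem levelK (hK : K ≤ γ j) (h1 : ¬ K ≤ γ a) : ∃ i, j ≤ i ∧ i < a ∧ K ≤ γ i ∧ ¬ K ≤ γ (i + 1) := by
  induction a with
  | zero => exact (h1 (hK.trans (h.anti (Nat.zero_le _)))).elim
  | succ a ih =>
    by_cases e : K ≤ γ a
    · exact ⟨a, by by_contra r; exact h1 (hK.trans (h.anti (by omega))), by omega, e, h1⟩
    · obtain ⟨i, b, c, d⟩ := ih e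
      exact ⟨i, b, by omega, d⟩

end MX

section
variable [hp : Fact p.Prime] [Finite Ω]

namespace MX
variable (h : MX p n S γ)
include h

theorem sp (hi : i < n) : Sp p (γ i) (γ (i + 1)) :=
  sp_of h.pg (h.le i) (h.succ i) (i := n - (i + 1)) (by rw [h.card]; congr 1; omega) (h.card _)

theorem spM : Sp p S (Mz n S γ) :=
  sp_of h.pg le_rfl inf_le_left (i := n - 1)
    (by rw [h.cardS]; congr 1; have := h.four; omega) h.cardM

theorem spM2 : Sp p (Mz n S γ) (γ 2) :=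
  sp_of h.pg inf_le_left h.two_le_M (i := n - 2)
    (by rw [h.cardM]; congr 1; have := h.four; omega) (h.card 2)

theorem ex (hi : i < n) : ∃ y ∈ γ i, y ∉ γ (i + 1) := (h.sp hi).ex

theorem nle (hi : i < n) (hj : i < j) : ¬ γ i ≤ γ j :=
  fun e => (h.sp hi).not_le (e.trans (h.anti hj))

/-- a subgroup normalized by an element acting uniformly above `γ a` -/
theorem le_of_nm (hi : 1 ≤ i) (ha : a ≤ n) (hs : s ∈ S)
    (hu : ∀ j, i ≤ j → j + 2 ≤ a → ∀ w ∈ γ j, w ∉ γ (j + 1) → ⁅w, s⁆ ∉ γ (j + 2))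
    (hK : s ∈ Nm K) (hZ : γ a ≤ K) (hw : w ∈ γ i) (hw' : w ∉ γ (i + 1)) (hwK : w ∈ K) :
    γ i ≤ K := by
  have k1 : ∀ k, i + k < a → ∃ w ∈ K, w ∈ γ (i + k) ∧ w ∉ γ (i + k + 1) := fun k => by
    induction k with
    | zero => exact fun _ => ⟨w, hwK, hw, hw'⟩
    | succ k ih =>
      intro e
      obtain ⟨v, a, b, c⟩ := ih (by omega)
      exact ⟨⁅v, s⁆, comm_mem_of_Nm' hK a, h.cS b hs, hu (i + k) (by omega) (by omega) v b c⟩
  have k2 : ∀ k, i ≤ a - k → γ (a - k) ≤ K := fun k => by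
    induction k with
    | zero => exact fun _ => hZ
    | succ k ih =>
      intro e
      obtain ⟨v, a', b, c⟩ := k1 (a - (k + 1) - i) (by omega)
      rw [show i + (a - (k + 1) - i) = a - (k + 1) by omega] at b c
      refine (h.sp (by omega)).le_of ?_ b c a'
      rw [show a - (k + 1) + 1 = a - k by omega]
      exact ih (by omega)
  rcases le_total i a with e | e
  · have := k2 (a - i) (by omega)
    rwa [show a - (a - i) = i by omega] at this
  · exact (h.anti e).trans hZ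

/-- subgroups of `γ 1` containing the centre and normalized by an element outside `γ 1` -/
theorem eq_of_nm (hs : s ∈ S) (hs' : s ∉ γ 1) (hK : s ∈ Nm K) (hZ : γ (n - 1) ≤ K) (hi : 1 ≤ i)
    (h1 : K ≤ γ i) (h2 : ¬ K ≤ γ (i + 1)) : K = γ i := by
  obtain ⟨w, a, b⟩ := SetLike.not_le_iff_exists.1 h2
  exact le_antisymm h1 (h.le_of_nm hi (by omega) hs
    (fun j c d w e f => h.unif hs hs' (by omega) (by omega) e f) hK hZ (h1 a) b a)

theorem eq_of_nm' (hs : s ∈ S) (hs' : s ∉ γ 1) (hM : s ∉ Mz n S γ) (hK : s ∈ Nm K) (hi : 1 ≤ i)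
    (h1 : K ≤ γ i) (h2 : ¬ K ≤ γ (i + 1)) : K = γ i := by
  obtain ⟨w, a, b⟩ := SetLike.not_le_iff_exists.1 h2
  exact le_antisymm h1 (h.le_of_nm hi le_rfl hs
    (fun j c d w e f => h.unif' hs hs' hM (by omega) (by omega) e f) hK
    (by rw [h.bot le_rfl]; exact bot_le) (h1 a) b a)

/-- normal subgroups inside `γ 1` are terms of the chain -/
theorem eq_of_normal (hK : S ≤ Nm K) (h1 : K ≤ γ 1) : ∃ i, 1 ≤ i ∧ i ≤ n ∧ K = γ i := by
  by_cases e : K ≤ γ n
  · exact ⟨n, by have := h.four; omega, le_rfl, le_antisymm e (by rw [h.bot le_rfl]; exact bot_le)⟩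
  obtain ⟨i, a, b, c, d⟩ := h.levelK h1 e
  obtain ⟨s, x, y, z⟩ := h.exists_unif
  exact ⟨i, a, b.le, h.eq_of_nm' x y z (hK x) a c d⟩

theorem M_eq (hn : γ 1 ≤ Ct (γ (n - 2))) : Mz n S γ = γ 1 := by
  have e : γ 1 ≤ Mz n S γ := le_inf (h.le 1) hn
  exact (eq_of_le_of_card_ge e (by rw [h.cardM, h.card])).symm

theorem inf_M (hn : ¬ γ 1 ≤ Ct (γ (n - 2))) : γ 1 ⊓ Mz n S γ = γ 2 :=
  (h.sp (i := 1) (by have := h.four; omega)).eq_of' (le_inf (h.succ 1) h.two_le_M) inf_le_left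
    fun e => hn (e.trans (inf_le_right.trans inf_le_right))

end MX
end

section
variable [hp : Fact p.Prime] [Finite S]

theorem exists_mx (hn : Nat.card S = p ^ n) (h4 : 4 ≤ n) (hmax : S.lowerCentralSeries (n - 2) ≠ ⊥) :
    ∃ γ, MX p n S γ := by
  have m := H11.maxCl_mcs hn (H11.class_of_lcs_ne_bot hn (by omega) hmax) h4
  refine ⟨fun i => (H11.mcs S i).map S.subtype, h4, ?_, fun i j e => map_mono (m.anti e), fun i => ?_,
    fun i hi => ?_, ?_⟩
  · simp only [m.zero]; rw [← MonoidHom.range_eq_map, range_subtype]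
  · rw [card_map_of_injective S.subtype_injective, m.card]
  · rw [← m.comm i hi, map_commutator, ← MonoidHom.range_eq_map, range_subtype]
  · rw [← map_commutator]; exact map_mono m.two

theorem MX.lcs (h : MX p n S γ) (i : ℕ) : S.lowerCentralSeries (i + 1) = γ (i + 2) := by
  induction i with
  | zero => exact h.top
  | succ i ih => rw [Subgroup.lowerCentralSeries_succ, ih, h.comm _ (by omega)]

theorem MX.gam_eq (h : MX p n S γ) {Γ : Subgroup Ω} (hΓ : ∀ x : Ω, x ∈ Γ ↔ x ∈ S ∧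
    ∀ y ∈ S.lowerCentralSeries 1, x * y * x⁻¹ * y⁻¹ ∈ S.lowerCentralSeries 3) : Γ = γ 1 := by
  ext x
  rw [hΓ, h.lcs 0, h.lcs 2, h.one_eq]
  exact ⟨fun e => ⟨e.1, tv_of_com (h.nmS 4 e.1) e.2⟩, fun e => ⟨e.1, fun y hy => com_of_tv e.2 hy⟩⟩

theorem MX.ucs_eq (h : MX p n S γ) : (Subgroup.upperCentralSeries S 2).map S.subtype = γ (n - 2) := by
  have h4 := h.four
  ext x
  constructor
  · rintro ⟨x, hx, rfl⟩
    have k : ∀ s ∈ S, ⁅(x : Ω), s⁆ ∈ γ (n - 1) := fun s hs => by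
      have := Subgroup.mem_upperCentralSeries_succ_iff.1 hx ⟨s, hs⟩
      rw [Subgroup.upperCentralSeries_one, mem_center_iff] at this
      rw [← h.cen]
      exact ⟨(⁅x, (⟨s, hs⟩ : S)⁆ : S).2, mem_Ct'.2 fun y hy => congrArg Subtype.val (this ⟨y, hy⟩)⟩
    by_cases e : (x : Ω) = 1
    · show (x : Ω) ∈ _
      rw [e]; exact one_mem _
    obtain ⟨i, a, b, c⟩ := h.level x.2 e
    by_contra r
    have a' : i + 3 ≤ n := by by_contra q; exact r (h.anti (by omega) b)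
    rcases Nat.eq_zero_or_pos i with rfl | hi
    · have : ¬ γ 1 ≤ γ 2 := fun e => by
        have := h.normal
        exact h.mc.not_le (i := 1) (by omega) (comap_mono e)
      obtain ⟨w, a, b⟩ := SetLike.not_le_iff_exists.1 this
      exact h.unif x.2 c le_rfl (by omega) a b (h.anti (by omega) (com_symm (k w (h.le 1 a))))
    · obtain ⟨s, d, e, -⟩ := h.exists_unif
      exact h.unif d e hi a' b c (h.anti (by omega) (k s d))
  · intro hx
    refine ⟨⟨x, h.le _ hx⟩, Subgroup.mem_upperCentralSeries_succ_iff.2 fun y => ?_, rfl⟩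
    rw [Subgroup.upperCentralSeries_one, mem_center_iff]
    have : ⁅x, (y : Ω)⁆ ∈ S ⊓ Ct S := by
      rw [h.cen]; have := h.cS hx y.2; rwa [show n - 2 + 1 = n - 1 by omega] at this
    exact fun z => Subtype.ext (mem_Ct'.1 this.2 z z.2)

theorem MX.img {Ω' : Type u} [Group Ω'] {S' : Subgroup Ω'} {f : Ω → Ω'} {f' : Ω' → Ω}
    (h : MX p n S γ) (k : H94.PIso f f' S S') : MX p n S' fun i => img (γ i) f where
  four := h.four
  zero := by rw [h.zero, k.img_top]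
  anti i j e := (k.img_le_img_iff (h.le _) (h.le _)).2 (h.anti e)
  card i := by rw [k.card_img (h.le _), h.card]
  comm i hi := by rw [← h.comm i hi, k.img_commutator (h.le _) le_rfl, k.img_top]
  two := by
    rw [← k.img_commutator (h.le _) (h.le _)]
    exact (k.img_le_img_iff (h.two.trans (h.le _)) (h.le _)).2 h.two

theorem MX.img_M {Ω' : Type u} [Group Ω'] {S' : Subgroup Ω'} {f : Ω → Ω'} {f' : Ω' → Ω}
    (h : MX p n S γ) (k : H94.PIso f f' S S') :
    H92.img (Mz n S γ) f = Mz n S' fun i => H92.img (γ i) f := k.img_centralizerIn' (h.le _)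

end
end H74.FM
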