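import Cfsg.Agent.H74.FA
import Cfsg.Agent.H70.FM1
import Cfsg.Agent.H21.FMC
import Cfsg.Agent.H66.FMN6
import Cfsg.Agent.H66.FMFin
import Cfsg.Agent.H17.FMB
import Cfsg.Agent.H17.FMJB
import Cfsg.Agent.H33.FJA
import Cfsg.Agent.H8.FMCov
import Cfsg.Agent.H8.FME2
import Cfsg.Agent.H90.FusTP

/-! Assembly, given the construction of the quadratic element. -/

namespace H74.FM

universe u

theorem main_of (s : JobSet.{u}) : Main.{u} :=
  H66.FM.main H70.FM.jobPearl H70.FM.jobSmall H21.FMC.jobM6 H21.FMC.jobE1 H21.FMC.jobMore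
    (H66.FM.jobN6 H90.FT.jobTP)
    (jobP s jobA (H17.FMB.jobB jobK) H33.FJ.jobJ0 (H33.FJ.jobJA jobAvg jobRed) (H17.FMJB.jobJB jobK)
      (H8.FM.jobE2 jobRed H90.FT.jobTP (H17.FMB.jobB jobK) (H8.FM.jobCov jobAvg jobRed)))

end H74.FM
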