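import Cfsg.Agent.H74.FSp2

/-! Averaging and reductions to `Aut F S`. -/

set_option autoImplicit false
set_option linter.unusedSectionVars false

namespace H74.FM
open Cfsg H92 H92.Es H93 H92.P5 Subgroup H74.FT Module
open scoped commutatorElement

universe u

theorem jobAvg : JobAvg.{u} := by
  intro G _ p hp M _ _ Y a f e a0 am hf
  classical
  let I : Finset (ZMod p) := Finset.univ.filter fun c => ∃ g ∈ Y, a g = c
  have ex : ∀ c : ZMod p, ∃ g, c ∈ I → g ∈ Y ∧ a g = c := fun c => by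
    by_cases h : c ∈ I
    · obtain ⟨g, a, b⟩ := (Finset.mem_filter.1 h).2
      exact ⟨g, fun _ => ⟨a, b⟩⟩
    · exact ⟨1, fun r => (h r).elim⟩
  choose r hr using ex
  have inj : Set.InjOn r I := fun c hc d hd e => by rw [← (hr c hc).2, e, (hr d hd).2]
  have mI : ∀ g ∈ Y, a g ∈ I := fun g hg => Finset.mem_filter.2 ⟨Finset.mem_univ _, g, hg, rfl⟩
  refine ⟨I.image r, fun t ht => ?_, ?_, fun h hh => ?_⟩
  · obtain ⟨c, hc, rfl⟩ := Finset.mem_image.1 ht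
    exact (hr c hc).1
  · rw [Finset.card_image_of_injOn inj, Ne, ZMod.natCast_eq_zero_iff]
    refine Nat.not_dvd_of_pos_of_lt (Finset.card_pos.2 ⟨_, mI 1 (one_mem _)⟩) ?_
    conv_rhs => rw [← ZMod.card p]
    refine Finset.card_lt_univ_of_notMem (x := 0) fun q => a0 _ (hr 0 q).1 (hr 0 q).2
  · rw [Finset.sum_image inj, Finset.sum_image inj, Finset.smul_sum]
    have m : ∀ c ∈ I, a h * c ∈ I := fun c hc => by
      rw [← (hr c hc).2, ← am h hh _ (hr c hc).1]; exact mI _ (mul_mem hh (hr c hc).1)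
    refine Finset.sum_bij (fun c _ => a h * c) m (fun c _ d _ e => mul_left_cancel₀ (a0 h hh) e)
      (fun d hd => ?_) fun c hc => ?_
    · exact Finset.surj_on_of_inj_on_of_card_le (fun c _ => a h * c) m
        (fun c d _ _ e => mul_left_cancel₀ (a0 h hh) e) le_rfl d hd |>.imp fun c ⟨a, b⟩ => ⟨a, b.symm⟩
    · rw [hf _ (mul_mem hh (hr c hc).1) _ (hr _ (m c hc)).1 (by
        rw [am h hh _ (hr c hc).1, (hr c hc).2, (hr _ (m c hc)).2]), (hr c hc).2, (hr _ (m c hc)).2,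
        smul_smul, mul_pow, mul_inv, mul_inv_cancel_left₀ (pow_ne_zero _ (a0 h hh))]

variable {Ω : Type u} [Group Ω] [Finite Ω] {S Y Y₀ R : Subgroup Ω} {γ : ℕ → Subgroup Ω}
  {p n a b c k : ℕ} [hp : Fact p.Prime] {F : FusionSystem S}

theorem MX.fn (h : MX p n S γ) (F : FusionSystem S) (k : ℕ) : F.IsFullyNormalized (γ k) :=
  fn_of_le_Nm F (h.le k) (h.nmS k)

theorem MX.ext_P (h : MX p n S γ) (hF : SatA p F) {g : Ω} (hg : g ∈ XE F (γ 1)) :
    ∃ t ∈ Aut F S, g⁻¹ * t ∈ Ct (γ 1) := by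
  have e : S ⊓ Nm (γ 1) = S := inf_eq_left.2 (h.nmS 1)
  have := ext_XE hF (by rw [e, ← h.zero]; exact h.sp (by have := h.four; omega)) hg
  rwa [e] at this

/-- invariance under a normal subgroup containing `S` -/
theorem MX.nm_of_normal (h : MX p n S γ) (h1 : S ≤ Y₀) (h2 : Y ≤ Nm Y₀) (h3 : Y ≤ Nm (γ 1))
    (hc : 1 ≤ c) (e : Y₀ ≤ Nm (γ c)) : Y ≤ Nm (γ c) := fun g hg => by
  obtain ⟨i, -, b, d⟩ := h.eq_of_normal (K := cj g (γ c)) (fun s hs => by
    rw [← cj_Nm, mem_cj]; exact e (conj_mem_of_Nm' (h2 hg) (h1 hs)))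
    ((cj_mono g (h.anti hc)).trans (cj_eq_of_Nm (h3 hg)).le)
  have k := card_cj g (γ c)
  rw [d, h.card, h.card] at k
  have k := Nat.pow_right_injective hp.out.two_le k
  rcases le_total c n with r | r
  · rw [mem_Nm, d, show i = c by omega]
  · rw [h.bot r]; exact nm_bot g

/-- an invariant subgroup between consecutive invariant terms -/
theorem MX.le_of_con (h : MX p n S γ) (h1 : S ≤ Y) (ha : 1 ≤ a) (hb : b ≤ n) (c : Con γ Y a b)
    (hR : Y ≤ Nm R) (l : R ≤ γ (a + 1)) : R ≤ γ b := by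
  have m : Y ≤ Nm (R ⊔ γ b) := fun g hg => mem_Nm_sup (hR hg) (c.n2 hg)
  have l' : R ⊔ γ b ≤ γ (a + 1) := sup_le l (h.anti c.lt)
  obtain ⟨i, -, d, e⟩ := h.eq_of_normal (h1.trans m) (l'.trans (h.anti (by omega)))
  have := c.lt
  have i1 : a < i := by by_contra r; exact h.nle (i := i) (by omega) (by omega) (e ▸ l')
  have i2 : b ≤ i := by by_contra r; exact c.no i i1 (by omega) (e ▸ m)
  exact le_sup_left.trans (e.le.trans (h.anti i2))

theorem MX.pow_of_con (h : MX p n S γ) (h1 : S ≤ Y) (ha : 1 ≤ a) (hb : b ≤ n) (c : Con γ Y a b) :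
    ∀ y ∈ γ a, y ^ p ∈ γ b := fun y hy =>
  h.le_of_con h1 ha hb c (R := closure {z | ∃ y ∈ γ a, y ^ p = z}) (fun g hg => mem_Nm_of_le (by
    rw [cj_closure]
    refine closure_mono ?_
    rintro _ ⟨_, ⟨y, a, rfl⟩, rfl⟩
    exact ⟨_, conj_mem_of_Nm (c.n1 hg) a, conj_pow' g y p⟩)) ((closure_le _).2 (by
    rintro _ ⟨y, a, rfl⟩
    exact (h.sp (by have := c.lt; omega)).pow a)) (subset_closure ⟨y, hy, rfl⟩)

theorem MX.tv_of_con (h : MX p n S γ) (h1 : S ≤ Y) (hR : Y ≤ Nm R) (l : R ≤ S) (ha : 1 ≤ a)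
    (hb : b ≤ n) (c : Con γ Y a b) : R ≤ Tv (γ a) (γ b) :=
  tv_of_le (l.trans (h.nmS b)) (h.le_of_con h1 ha hb c
    (fun g hg => mem_Nm_commutator (hR hg) (c.n1 hg))
    (by rw [commutator_comm]; exact (commutator_mono le_rfl l).trans (h.comS a)))

/-- existence of a noncentral factor -/
theorem exists_con (h1 : Y ≤ Nm (γ a)) (h2 : Y ≤ Nm (γ b)) (l1 : a ≤ c) (l2 : c ≤ b)
    (e : ¬ Y ≤ Nm (γ c)) : ∃ a' d, a ≤ a' ∧ a' + d ≤ b ∧ 2 ≤ d ∧ Con γ Y a' (a' + d) := by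
  classical
  let a' := Nat.findGreatest (fun k => Y ≤ Nm (γ k)) c
  have x1 : Y ≤ Nm (γ a') := Nat.findGreatest_spec (P := fun k => Y ≤ Nm (γ k)) l1 h1
  have x2 : a ≤ a' := Nat.le_findGreatest l1 h1
  have x3 : a' < c := lt_of_le_of_ne (Nat.findGreatest_le c) fun r => e (r ▸ x1)
  have ex : ∃ k, c ≤ k ∧ Y ≤ Nm (γ k) := ⟨b, l2, h2⟩
  have y1 := Nat.find_spec ex
  have y2 : Nat.find ex ≤ b := Nat.find_le ⟨l2, h2⟩
  have y3 : c < Nat.find ex := lt_of_le_of_ne y1.1 fun r => e (r ▸ y1.2)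
  refine ⟨a', Nat.find ex - a', x2, by omega, by omega, by omega, x1,
    by rw [Nat.add_sub_cancel' (by omega)]; exact y1.2, fun k u v r => ?_⟩
  rcases le_total k c with w | w
  · exact absurd (Nat.le_findGreatest (P := fun k => Y ≤ Nm (γ k)) w r) (by omega)
  · exact Nat.find_min ex (by omega) ⟨w, r⟩

theorem MX.exists_con (h : MX p n S γ) (h1 : Y ≤ Nm (γ 1)) (e : ¬ ∀ k, 1 ≤ k → Y ≤ Nm (γ k)) :
    ∃ a d, 1 ≤ a ∧ a + d ≤ n ∧ 2 ≤ d ∧ Con γ Y a (a + d) := by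
  push Not at e
  obtain ⟨k, a, b⟩ := e
  have z : ∀ k, n ≤ k → Y ≤ Nm (γ k) := fun k r g _ => by rw [h.bot r]; exact nm_bot g
  exact FM.exists_con h1 (z n le_rfl) a (by by_contra r; exact b (z k (by omega))) b

theorem MX.nm_Z (h : MX p n S γ) (e : ¬ γ 1 ≤ Ct (γ (n - 2))) : Nm (γ 1) ≤ Nm (γ (n - 1)) := by
  have : γ 1 ⊓ Ct (γ 1) = γ (n - 1) := le_antisymm
    (fun x hx => h.ct_exc e le_rfl (by have := h.four; omega) hx.1 hx.2)
    (le_inf (h.anti (by have := h.four; omega)) fun x hx => Ct_anti (h.le 1) (h.cen.ge hx).2)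
  exact fun g hg => this ▸ mem_Nm_inf hg (mem_Nm_Ct hg)

theorem jobRed : JobRed.{u} := by
  intro Ω _ _ S p n _ F γ c
  have h := c.mx
  have h4 := h.four
  have nm : ∀ i {g}, (∀ k, i ≤ k → g ∈ Nm (γ k)) →
      g ∈ Nm (St (γ i) ((List.range' (i + 1) n).map γ)) := fun i g hg =>
    mem_Nm_St (hg i le_rfl) fun B hB => by
      obtain ⟨k, a, rfl⟩ := List.mem_map.1 hB
      exact hg k (by rw [List.mem_range'_1] at a; omega)
  refine ⟨fun y hy e => ?_, fun κ w t ht e => ?_, fun Y a b h1 h2 h3 h4 h5 =>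
    ⟨h.tv_of_con h1 h2 (h.le 1) h3 h4 h5, h.pow_of_con h1 h3 h4 h5⟩⟩
  · by_cases hP : F.IsEssential p (γ 1)
    · obtain ⟨s, a, b, -⟩ := h.exists_unif
      have m := H70.FM.st_chain γ (fun i => h.tvS i a) n 1 (h.bot (by omega))
      exact h.ext_P c.sat (mem_XE_of_St c.sat hP (fun B hB => by
        obtain ⟨k, a, rfl⟩ := List.mem_map.1 hB
        exact h.anti (by rw [List.mem_range'_1] at a; omega)) hy ⟨a, h.nmS 1 a⟩ b m ⟨a, h.nmS 1 a⟩ b
        (conj_mem_of_Nm (nm 1 e) m))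
    · exact ext_top c.sat (h.zero ▸ h.sp (by omega)) hP hy
  · have hS := Aut_le_Nm F S ht
    have o : ∀ k < n, om p γ k t = 1 := fun k hk => by
      rcases Nat.eq_zero_or_pos k with rfl | k1
      · exact e
      by_cases r : k + 2 ≤ n ∨ (k < n ∧ γ 1 ≤ Ct (γ (n - 2)))
      · rw [w.pw t hS k k1 r, e, one_pow]
      · rw [show k = n - 1 by omega, h.om_last hS (fun q => r (Or.inr ⟨hk, q⟩)),
          w.pw t hS 1 le_rfl (Or.inl (by omega)), w.pw t hS (n - 2) (by omega) (Or.inl (by omega)), e]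
        simp
    have m : t ∈ St (γ 0) ((List.range' (0 + 1) n).map γ) := H70.FM.st_chain γ (fun i => by
      rcases lt_or_ge i n with r | r
      · exact tv_of_wt (h.sp r) (h.nm _ hS) (h.nm _ hS) (o i r)
      · rw [h.bot r, h.bot (by omega)]; exact mem_Tv_self (nm_bot t)) n 0 (h.bot (by omega))
    have := H92.SatA.le_of_pMod c.sat (K := Aut F S ⊓ St (γ 0) ((List.range' (0 + 1) n).map γ))
      (fn_of_le_Nm F le_rfl (le_Nm S)) inf_le_left
      (fun g hg => mem_Nm_inf (le_Nm _ hg) (nm 0 fun k _ => h.nm k (Aut_le_Nm F S hg)))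
      ((pMod_St fun B hB => by
        obtain ⟨k, -, rfl⟩ := List.mem_map.1 hB
        exact c.sat.pgl (h.le k)).mono inf_le_right (by rw [h.zero])) ⟨ht, m⟩
    exact (sup_le_sup_right (inf_le_left : S ⊓ Nm S ≤ S) (Ct S) : _ ≤ _) this

end H74.FM
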