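import Cfsg.Agent.H74.FBr

/-! Specification, part 2: the main case `E < γ 1` (blueprints/FUSMC.md). -/

set_option autoImplicit false

namespace H74.FM
open Cfsg H92 H92.Es H93 H92.P5 Subgroup H74.FT Module
open scoped commutatorElement

universe u

section
variable {Ω : Type u} [Group Ω] {S : Subgroup Ω}

/-- all weights are powers of the top weight -/
structure Pw (p n : ℕ) (F : FusionSystem S) (γ : ℕ → Subgroup Ω) (κ : ℕ) : Prop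
    extends Cx p n F γ where
  p5 : 5 ≤ p
  n5 : 5 ≤ n
  na : ¬ γ 1 ≤ Ct (γ 1)
  pw : ∀ t ∈ Nm S, ∀ k, 1 ≤ k → (k + 2 ≤ n ∨ (k < n ∧ γ 1 ≤ Ct (γ (n - 2)))) →
    om p γ k t = om p γ 0 t ^ (k + κ)

/-- an essential subgroup `E < γ 1` whose strongly embedded subgroup comes from `Aut F (γ 1)` -/
structure Pre (p n : ℕ) (F : FusionSystem S) (γ : ℕ → Subgroup Ω) (κ : ℕ) (E : Subgroup Ω) : Prop
    extends Pw p n F γ κ where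
  ess : F.IsEssential p E
  lt : E < γ 1
  ext : ∀ g ∈ XE F E, ∃ t ∈ Aut F (γ 1), g⁻¹ * t ∈ Ct E

/-- `γ a > γ b` are consecutive `Y`-invariant terms -/
structure Con (γ : ℕ → Subgroup Ω) (Y : Subgroup Ω) (a b : ℕ) : Prop where
  lt : a < b
  n1 : Y ≤ Nm (γ a)
  n2 : Y ≤ Nm (γ b)
  no : ∀ c, a < c → c < b → ¬ Y ≤ Nm (γ c)

/-- a quadratic element on an invariant section containing the first non-invariant factor -/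
structure Qd (p n : ℕ) [Fact p.Prime] (F : FusionSystem S) (γ : ℕ → Subgroup Ω) (E : Subgroup Ω)
    (m' m : ℕ) (U : Subgroup Ω) (x : Ω) (D : ℕ) (π : Ω → Fin D → ZMod p)
    (ρ : Ω → End (ZMod p) (Fin D → ZMod p)) : Prop where
  one : 1 ≤ m'
  le : m ≤ n
  con : Con γ (Aut F (γ 1)) m' m
  g1 : Aut F E ≤ Nm (γ m)
  g2 : ¬ Aut F E ≤ Nm (γ m')
  u1 : γ m' ≤ U
  u2 : U ≤ E
  u3 : Aut F E ≤ Nm U
  u4 : E ≤ Tv U (γ m)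
  sec : Sec p U (γ m) π ρ
  hD : D ≤ p - 1
  x1 : x ∈ γ 1 ⊓ Nm E
  x2 : x ∉ E
  x3 : x ^ p ∈ E
  sq : (ρ x - 1) ^ 2 = 0
  rk : 2 * finrank (ZMod p) (LinearMap.range (ρ x - 1)) < p - 1

/-- the additional data for the case that `E` does not contain `γ 2` -/
structure Qe (p n : ℕ) (γ : ℕ → Subgroup Ω) (E : Subgroup Ω) (m' m : ℕ) (U : Subgroup Ω) (x : Ω)
    (j lo : ℕ) : Prop where
  j3 : 3 ≤ j
  jm : j ≤ m'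
  jE : γ j ≤ E
  x1 : x ∈ γ (j - 1)
  x2 : x ∉ γ j
  ne : m + 1 ≤ n ∨ γ 1 ≤ Ct (γ (n - 2))
  u2 : γ (m - 2) ≤ U
  lo1 : 1 ≤ lo
  lo2 : U ≤ γ lo
  lo3 : m ≤ lo + p

/-- a chief factor of `E = γ 2` not centralized by `γ 1` -/
structure J0 (p n : ℕ) (F : FusionSystem S) (γ : ℕ → Subgroup Ω) (a L : ℕ) : Prop where
  a2 : 2 ≤ a
  le : a + L ≤ n
  hL : L ≤ p - 1
  ne : a + L + 1 ≤ n ∨ γ 1 ≤ Ct (γ (n - 2))
  con : Con γ (Aut F (γ 2)) a (a + L)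
  tv : γ 2 ≤ Tv (γ a) (γ (a + L))
  pow : ∀ y ∈ γ a, y ^ p ∈ γ (a + L)
  nt : ¬ γ 1 ≤ Tv (γ a) (γ (a + L))

end

/-- averaging over the image of a character -/
def JobAvg : Prop := ∀ {G : Type u} [Group G] {p : ℕ} [Fact p.Prime] {M : Type} [AddCommGroup M]
  [Module (ZMod p) M] (Y : Subgroup G) (a : G → ZMod p) (f : G → M) (e : ℕ),
  (∀ g ∈ Y, a g ≠ 0) → (∀ g ∈ Y, ∀ h ∈ Y, a (g * h) = a g * a h) →
  (∀ g ∈ Y, ∀ h ∈ Y, a g = a h → f g = f h) →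
  ∃ T : Finset G, (∀ t ∈ T, t ∈ Y) ∧ (T.card : ZMod p) ≠ 0 ∧ ∀ h ∈ Y,
    ∑ t ∈ T, (a t ^ e)⁻¹ • f (h * t) = a h ^ e • ∑ t ∈ T, (a t ^ e)⁻¹ • f t

/-- reductions to `Aut F S` -/
def JobRed : Prop := All.{u} fun {_ _ _ S} p n _ F γ =>
  (∀ y ∈ Aut F (γ 1), (∀ k, 1 ≤ k → y ∈ Nm (γ k)) → ∃ t ∈ Aut F S, y⁻¹ * t ∈ Ct (γ 1)) ∧
  (∀ κ, Pw p n F γ κ → ∀ t ∈ Aut F S, om p γ 0 t = 1 → t ∈ S ⊔ Ct S) ∧
  ∀ Y a b, S ≤ Y → Y ≤ Nm (γ 1) → 1 ≤ a → b ≤ n → Con γ Y a b →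
    γ 1 ≤ Tv (γ a) (γ b) ∧ ∀ y ∈ γ a, y ^ p ∈ γ b

/-- lower bounds for noncentral chief factors of `γ 1` -/
def JobLB : Prop := All.{u} fun {_ _ _ S} p n _ F γ => ∀ κ, Pw p n F γ κ → ∀ Y e a d,
  Y ≤ Aut F (γ 1) → S ≤ Y → e ∣ p - 1 →
  (∀ y ∈ Y, ∀ t ∈ Aut F S, y⁻¹ * t ∈ Ct (γ 1) → om p γ 0 t ^ e = 1) → 1 ≤ a → a + d ≤ n → 2 ≤ d →
  Con γ Y a (a + d) →
  d ≤ p - 1 ∧ p - 1 ≤ e * (d - 1) ∧ (d ≤ e ∨ p ≤ d + e) ∧ (e ≤ d → p - 1 ≤ 3 * (d - 1))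

/-- the bounds for the kernel of a character which is a power of the top weight -/
def JobK : Prop := All.{u} fun {Ω _ _ S} p n _ F γ => ∀ κ, Pw p n F γ κ →
  ∀ (Y : Subgroup Ω) (χ : Ω → ZMod p) (c : ℕ), Y ≤ Aut F (γ 1) → S ≤ Y → (∀ y ∈ Y, χ y ≠ 0) →
  (∀ y ∈ Y, ∀ z ∈ Y, χ (y * z) = χ y * χ z) →
  (∀ y ∈ Y, ∀ t ∈ Aut F S, y⁻¹ * t ∈ Ct (γ 1) → χ y = om p γ 0 t ^ c) →
  (∀ y ∈ Y, χ y ^ ((p - 1) / c.gcd (p - 1)) = 1) ∧ ∀ a d, 1 ≤ a → a + d ≤ n → 2 ≤ d →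
    Con γ Y a (a + d) → d ≤ p - 1 ∧ p - 1 ≤ c.gcd (p - 1) * (d - 1) ∧
      (d ≤ c.gcd (p - 1) ∨ p ≤ d + c.gcd (p - 1)) ∧ (c.gcd (p - 1) ≤ d → p - 1 ≤ 3 * (d - 1))

/-- construction of the quadratic element -/
def JobSet : Prop := All.{u} fun p n _ F γ => ∀ κ E, Pre p n F γ κ E → ¬ γ 2 ≤ E →
  (γ 1 ≤ Ct (γ (n - 2)) ∨ Aut F E ≤ Nm (γ (n - 1))) →
  ∃ m' m U x D π ρ j lo, Qd p n F γ E m' m U x D π ρ ∧ Qe p n γ E m' m U x j lo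

/-- all terms invariant -/
def JobA : Prop := All.{u} fun p n _ F γ => ∀ κ E, Pre p n F γ κ E →
  (∀ k, 1 ≤ k → Aut F (γ 1) ≤ Nm (γ k)) → ∀ m' m U x D π ρ j lo,
  Qd p n F γ E m' m U x D π ρ → Qe p n γ E m' m U x j lo → False

/-- some term not invariant -/
def JobB : Prop := All.{u} fun p n _ F γ => ∀ κ E, Pre p n F γ κ E →
  ¬ (∀ k, 1 ≤ k → Aut F (γ 1) ≤ Nm (γ k)) → ∀ m' m U x D π ρ, Qd p n F γ E m' m U x D π ρ → False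

/-- `E = γ 2`: the chief factor -/
def JobJ0 : Prop := All.{u} fun p n _ F γ => ∀ κ, Pre p n F γ κ (γ 2) →
  (γ 1 ≤ Ct (γ (n - 2)) ∨ Aut F (γ 2) ≤ Nm (γ (n - 1))) → ∃ a L, J0 p n F γ a L

/-- `E = γ 2`, all terms invariant under the strongly embedded subgroup -/
def JobJA : Prop := All.{u} fun p n _ F γ => ∀ κ, Pre p n F γ κ (γ 2) → ∀ a L, J0 p n F γ a L →
  (∀ k, 2 ≤ k → XE F (γ 2) ≤ Nm (γ k)) → False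

/-- `E = γ 2`, some term not invariant -/
def JobJB : Prop := All.{u} fun p n _ F γ => ∀ κ, Pre p n F γ κ (γ 2) → ∀ a L, J0 p n F γ a L →
  ¬ (∀ k, 2 ≤ k → XE F (γ 2) ≤ Nm (γ k)) → False

/-- exceptional groups: the weight of a top covector -/
def JobCov : Prop := All.{u} fun {_ _ _ S} p n _ F γ => ∀ κ E, Pre p n F γ κ E →
  ¬ γ 1 ≤ Ct (γ (n - 2)) → (∀ g ∈ XE F E, ∃ t ∈ Aut F S, g⁻¹ * t ∈ Ct E) → ∀ U x,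
  γ (n - 1) ≤ U → U ≤ E ⊓ Ct E → (∀ y ∈ U, y ^ p = 1) → Aut F E ≤ Nm U →
  ¬ Aut F E ≤ Nm (γ (n - 1)) → x ∈ S ⊓ Nm E → x ∉ E → x ^ p ∈ E → x ∈ Tv U (γ (n - 1)) →
  S ⊓ Nm E ≤ E ⊔ zpowers x → (n - 1 + 2 * κ).Coprime (p - 1) ∧ ∀ A B k ν, B ≤ A → A ≤ E →
    Aut F E ≤ Nm A → Aut F E ≤ Nm B → E ≤ Tv A B → (∀ y ∈ A, y ^ p ∈ B) → 1 ≤ k → k + 2 ≤ n →
    ¬ A ⊓ γ k ≤ B ⊔ (A ⊓ γ (k + 1)) → (∀ y ∈ A, ⁅x, y⁆ ∈ γ (k + 1)) →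
    (∀ y ∈ A, (fun y => ⁅x, y⁆)^[ν + 1] y ∈ B) →
    ∃ ε ≤ ν, k + κ + ε * (n - 1 + 2 * κ) ≡ 0 [MOD p - 1]

/-- exceptional groups, centre not invariant -/
def JobE2 : Prop := All.{u} fun p n _ F γ => ∀ κ E, Pre p n F γ κ E →
  ¬ γ 1 ≤ Ct (γ (n - 2)) → ¬ Aut F E ≤ Nm (γ (n - 1)) → False

theorem jobP (s : JobSet.{u}) (a : JobA.{u}) (b : JobB.{u}) (j0 : JobJ0.{u}) (ja : JobJA.{u})
    (jb : JobJB.{u}) (e2 : JobE2.{u}) : JobP.{u} := by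
  intro Ω _ _ S p n _ F γ c p5 n5 h E hE lt ext
  have na : ¬ γ 1 ≤ Ct (γ 1) := fun r => lt.not_ge fun x hx =>
    cen c.sat hE (c.mx.le 1 hx) (Ct_anti lt.le (r hx))
  obtain ⟨κ, pw⟩ : ∃ κ, Pw p n F γ κ := by
    by_cases e : γ 1 ≤ Ct (γ (n - 2))
    · obtain ⟨κ, k⟩ := c.mx.om_pow le_rfl (Or.inr e) fun r => na fun x hx => ct_iff.2 fun y hy => by
        have := r (commutator_mem_commutator hy hx)
        rwa [c.mx.bot le_rfl, mem_bot] at this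
      exact ⟨κ, c, p5, n5, na, fun t ht k' a b => k t ht k' a (by omega)⟩
    · obtain ⟨κ, k⟩ := c.mx.om_pow (m := n - 1) (by omega) (Or.inl (by omega)) (h.resolve_left e)
      exact ⟨κ, c, p5, n5, na, fun t ht k' a b => k t ht k' a (by
        rcases b with b | b
        exacts [by omega, (e b.2).elim])⟩
  have P : Pre p n F γ κ E := ⟨pw, hE, lt, ext⟩
  have z : γ 1 ≤ Ct (γ (n - 2)) ∨ Aut F E ≤ Nm (γ (n - 1)) := by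
    by_contra r
    exact e2 p n F γ c κ E P (fun q => r (Or.inl q)) fun q => r (Or.inr q)
  by_cases e : γ 2 ≤ E
  · obtain rfl : E = γ 2 := (c.mx.sp (i := 1) (by omega)).eq_of' e lt.le lt.not_ge
    obtain ⟨a, L, j⟩ := j0 p n F γ c κ P z
    exact jb p n F γ c κ P a L j (ja p n F γ c κ P a L j)
  · obtain ⟨m', m, U, x, D, π, ρ, j, lo, q, q'⟩ := s p n F γ c κ E P e z
    exact b p n F γ c κ E P (fun r => a p n F γ c κ E P r m' m U x D π ρ j lo q q') m' m U x D π ρ q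

end H74.FM
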