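import Cfsg.Agent.H93.Cj

/-! A transfer lemma for strongly embedded subgroups and polynomial degrees. -/

set_option autoImplicit false
set_option linter.unusedSectionVars false

namespace H74.FT
open H93 Module

/-- a system of monomial functions on `Q` whose sums vanish in degrees below `b` -/
structure Gr (k Q : Type*) [Field k] [Fintype Q] where
  F : ℕ → Set (Q → k)
  b : ℕ
  one : ∀ r, 1 ∈ F r
  mono : ∀ {r r'}, r ≤ r' → F r ⊆ F r'
  mul : ∀ {r r' f g}, f ∈ F r → g ∈ F r' → f * g ∈ F (r + r')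
  sum : ∀ {r f}, r < b → f ∈ F r → ∑ q, f q = 0

variable {k Q : Type*} [Field k] [Fintype Q] {M N P : Type*} [AddCommGroup M] [Module k M]
  [AddCommGroup N] [Module k N] [AddCommGroup P] [Module k P] {r r' : ℕ}

/-- operators raising a filtration by `r` -/
def Sh (V : ℕ → Submodule k M) (r : ℕ) (T : End k M) : Prop := ∀ i, ∀ v ∈ V i, T v ∈ V (i + r)

theorem Sh.mul {V : ℕ → Submodule k M} {T T' : End k M} (h : Sh V r T) (h' : Sh V r' T') :
    Sh V (r + r') (T * T') := fun i v hv => by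
  have := h _ _ (h' i v hv)
  rwa [add_assoc, add_comm r'] at this

theorem Sh.one (V : ℕ → Submodule k M) : Sh V 0 1 := fun _ _ hv => hv

theorem Sh.pow {V : ℕ → Submodule k M} {T : End k M} (h : Sh V r T) (a : ℕ) :
    Sh V (r * a) (T ^ a) := by
  induction a with
  | zero => exact Sh.one V
  | succ a ih => rw [pow_succ, mul_add_one]; exact ih.mul h

theorem Sh.mono {V : ℕ → Submodule k M} (hV : Antitone V) {T : End k M} (h : Sh V r T)
    (e : r' ≤ r) : Sh V r' T := fun i v hv => hV (by omega) (h i v hv)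

theorem Sh.eq_zero {V : ℕ → Submodule k M} (hV : Antitone V) {D : ℕ} (h0 : V 0 = ⊤) (hD : V D = ⊥)
    {T : End k M} (h : Sh V r T) (e : D ≤ r) : T = 0 := LinearMap.ext fun v => by
  have := hV (by omega : D ≤ 0 + r) (h 0 v (h0 ▸ Submodule.mem_top))
  rwa [hD] at this

namespace Gr
variable (Γ : Gr k Q)

/-- `M`-valued functions of degree at most `r` -/
def Fil (M : Type*) [AddCommGroup M] [Module k M] (r : ℕ) : Submodule k (Q → M) :=
  Submodule.span k {φ | ∃ f ∈ Γ.F r, ∃ m, φ = fun q => f q • m}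

/-- operator valued functions whose degree is bounded by the shift -/
def Gs (V : ℕ → Submodule k M) : Submodule k (Q → End k M) :=
  Submodule.span k {φ | ∃ r, ∃ f ∈ Γ.F r, ∃ T, Sh V r T ∧ φ = fun q => f q • T}

variable {Γ}

theorem gen {f : Q → k} (h : f ∈ Γ.F r) (m : M) : (fun q => f q • m) ∈ Γ.Fil M r :=
  Submodule.subset_span ⟨f, h, m, rfl⟩

theorem gen' {f : Q → k} (h : f ∈ Γ.F r) : f ∈ Γ.Fil k r := by simpa using gen h (1 : k)

theorem const (m : M) : (fun _ => m) ∈ Γ.Fil M r := by simpa using gen (Γ.one r) m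

theorem fil_mono (e : r ≤ r') : Γ.Fil M r ≤ Γ.Fil M r' :=
  Submodule.span_mono fun _ ⟨f, a, b⟩ => ⟨f, Γ.mono e a, b⟩

theorem bil (B : M →ₗ[k] N →ₗ[k] P) {φ : Q → M} {ψ : Q → N} (h1 : φ ∈ Γ.Fil M r)
    (h2 : ψ ∈ Γ.Fil N r') : (fun q => B (φ q) (ψ q)) ∈ Γ.Fil P (r + r') := by
  induction h1 using Submodule.span_induction with
  | mem φ h =>
    obtain ⟨f, a, m, rfl⟩ := h
    induction h2 using Submodule.span_induction with
    | mem ψ h =>
      obtain ⟨g, b, n, rfl⟩ := h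
      convert gen (Γ.mul a b) (B m n) using 2
      simp [mul_smul, smul_comm (f _)]
    | zero => convert (Γ.Fil P _).zero_mem using 2; simp
    | add ψ ψ' _ _ c d => convert add_mem c d using 2; simp
    | smul c ψ _ d => convert Submodule.smul_mem _ c d using 2; simp
  | zero => convert (Γ.Fil P _).zero_mem using 2; simp
  | add φ φ' _ _ c d => convert add_mem c d using 2; simp
  | smul c φ _ d => convert Submodule.smul_mem _ c d using 2; simp

theorem map (L : M →ₗ[k] N) {φ : Q → M} (h : φ ∈ Γ.Fil M r) : (fun q => L (φ q)) ∈ Γ.Fil N r := by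
  simpa using bil ((LinearMap.lsmul k N).flip ∘ₗ L) h (const (r := 0) (1 : k))

theorem fmul {f g : Q → k} (h1 : f ∈ Γ.Fil k r) (h2 : g ∈ Γ.Fil k r') :
    (fun q => f q * g q) ∈ Γ.Fil k (r + r') := bil (LinearMap.mul k k) h1 h2

theorem fpow {f : Q → k} (h : f ∈ Γ.Fil k r) (a : ℕ) : (fun q => f q ^ a) ∈ Γ.Fil k (a * r) := by
  induction a with
  | zero => simpa using const (1 : k)
  | succ a ih => simpa [pow_succ, add_one_mul] using fmul ih h

theorem sum_eq (e : r < Γ.b) {φ : Q → M} (h : φ ∈ Γ.Fil M r) : ∑ q, φ q = 0 := by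
  induction h using Submodule.span_induction with
  | mem φ h => obtain ⟨f, a, m, rfl⟩ := h; rw [← Finset.sum_smul, Γ.sum e a, zero_smul]
  | zero => simp
  | add φ φ' _ _ c d => simp [Finset.sum_add_distrib, c, d]
  | smul c φ _ d => simp [← Finset.smul_sum, d]

variable {V : ℕ → Submodule k M}

theorem gs_gen {f : Q → k} (h : f ∈ Γ.Fil k r) {T : End k M} (hT : Sh V r T) :
    (fun q => f q • T) ∈ Γ.Gs V := by
  induction h using Submodule.span_induction with
  | mem φ h =>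
    obtain ⟨f, a, m, rfl⟩ := h
    have : (fun q => f q • T) ∈ Γ.Gs V := Submodule.subset_span ⟨r, f, a, T, hT, rfl⟩
    convert Submodule.smul_mem _ m this using 2
    simp [smul_smul, mul_comm]
  | zero => convert (Γ.Gs V).zero_mem using 2; simp
  | add φ φ' _ _ c d => convert add_mem c d using 2; simp [add_smul]
  | smul c φ _ d => convert Submodule.smul_mem _ c d using 2; simp [mul_smul]

theorem gs_mul {φ ψ : Q → End k M} (h1 : φ ∈ Γ.Gs V) (h2 : ψ ∈ Γ.Gs V) :
    (fun q => φ q * ψ q) ∈ Γ.Gs V := by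
  induction h1 using Submodule.span_induction with
  | mem φ h =>
    obtain ⟨r, f, a, T, a', rfl⟩ := h
    induction h2 using Submodule.span_induction with
    | mem ψ h =>
      obtain ⟨r', g, b, T', b', rfl⟩ := h
      convert gs_gen (gen' (Γ.mul a b)) (a'.mul b') using 2
      simp [mul_smul, smul_comm (f _)]
    | zero => convert (Γ.Gs V).zero_mem using 2; simp
    | add ψ ψ' _ _ c d => convert add_mem c d using 2; simp [mul_add]
    | smul c ψ _ d => convert Submodule.smul_mem _ c d using 2; simp [smul_comm c]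
  | zero => convert (Γ.Gs V).zero_mem using 2; simp
  | add φ φ' _ _ c d => convert add_mem c d using 2; simp [add_mul]
  | smul c φ _ d => convert Submodule.smul_mem _ c d using 2; simp

theorem gs_fil {D : ℕ} (L : End k M →ₗ[k] N) (hL : ∀ r T, D < r → Sh V r T → L T = 0)
    {φ : Q → End k M} (h : φ ∈ Γ.Gs V) : (fun q => L (φ q)) ∈ Γ.Fil N D := by
  induction h using Submodule.span_induction with
  | mem φ h =>
    obtain ⟨r, f, a, T, a', rfl⟩ := h
    rcases Nat.lt_or_ge D r with e | e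
    · convert (Γ.Fil N D).zero_mem using 2; simp [hL r T e a']
    · simpa using fil_mono e (gen a (L T))
  | zero => convert (Γ.Fil N D).zero_mem using 2; simp
  | add φ φ' _ _ c d => convert add_mem c d using 2; simp
  | smul c φ _ d => convert Submodule.smul_mem _ c d using 2; simp

theorem gs_fil' (hV : Antitone V) {D : ℕ} (h0 : V 0 = ⊤) (hD : V (D + 1) = ⊥)
    {φ : Q → End k M} (h : φ ∈ Γ.Gs V) : φ ∈ Γ.Fil (End k M) D :=
  gs_fil LinearMap.id (fun _ _ e hT => hT.eq_zero hV h0 hD e) h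

end Gr

section
variable {p : ℕ} [hp : Fact p.Prime] {M : Type*} [AddCommGroup M] [Module (ZMod p) M]

theorem Gr.gs_pow {Γ : Gr (ZMod p) Q} {V : ℕ → Submodule (ZMod p) M} {c : Q → ZMod p} {w : ℕ}
    (hc : c ∈ Γ.F w) {σ : End (ZMod p) M} (hσ : Sh V w (σ - 1)) :
    (fun q => σ ^ (c q).val) ∈ Γ.Gs V := by
  have k1 : ∀ a, (fun q => (((c q).val.descFactorial a : ℕ) : ZMod p)) ∈ Γ.Fil (ZMod p) (w * a) := by
    intro a
    induction a with
    | zero => simpa using Gr.const (1 : ZMod p)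
    | succ a ih =>
      have := Gr.fmul ih (sub_mem (Gr.gen' hc) (Gr.const (a : ZMod p)))
      rw [mul_add_one]
      convert this using 2 with q
      rw [Nat.descFactorial_succ, Nat.cast_mul, mul_comm]
      rcases le_or_gt a (c q).val with e | e
      · rw [Nat.cast_sub e]; simp
      · simp [Nat.descFactorial_eq_zero_iff_lt.2 e]
  have k2 : (fun q => σ ^ (c q).val) = ∑ a ∈ Finset.range p, fun q =>
      (((a.factorial : ZMod p)⁻¹) * (((c q).val.descFactorial a : ℕ) : ZMod p)) • (σ - 1) ^ a := by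
    funext q
    have lt := ZMod.val_lt (c q)
    conv_lhs => rw [← sub_add_cancel σ 1, (Commute.one_right _).add_pow]
    rw [Finset.sum_apply]
    refine Finset.sum_subset_zero_on_sdiff (Finset.range_subset_range.2 lt) (fun a ha => ?_)
      fun a ha => ?_
    · rw [Finset.mem_sdiff, Finset.mem_range, Finset.mem_range] at ha
      simp [Nat.descFactorial_eq_zero_iff_lt.2 (by omega : (c q).val < a)]
    · have : (a.factorial : ZMod p) ≠ 0 := by
        rw [Ne, ZMod.natCast_eq_zero_iff, hp.out.dvd_factorial]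
        rw [Finset.mem_range] at ha; omega
      rw [Nat.descFactorial_eq_factorial_mul_choose, Nat.cast_mul, inv_mul_cancel_left₀ this,
        one_pow, mul_one, ← nsmul_eq_mul', Nat.cast_smul_eq_nsmul]
  rw [k2]
  exact Submodule.sum_mem _ fun a _ => Gr.gs_gen (Submodule.smul_mem _ _ (k1 a)) (hσ.pow a)

theorem sum_pow {a : ℕ} (h : a < p - 1) : ∑ q : ZMod p, q ^ a = 0 :=
  FiniteField.sum_pow_lt_card_sub_one (ZMod p) a (by rwa [ZMod.card])

/-- one parameter -/
def g1 (p : ℕ) [Fact p.Prime] : Gr (ZMod p) (ZMod p) where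
  F r := {f | ∃ a ≤ r, f = fun q => q ^ a}
  b := p - 1
  one r := ⟨0, Nat.zero_le r, by funext q; simp⟩
  mono e _ := fun ⟨a, b, c⟩ => ⟨a, b.trans e, c⟩
  mul := by rintro _ _ _ _ ⟨a, b, rfl⟩ ⟨c, d, rfl⟩; exact ⟨a + c, by omega, by funext q; simp [pow_add]⟩
  sum := by rintro _ _ e ⟨a, b, rfl⟩; exact sum_pow (by omega)

/-- two parameters with weights -/
def g2 (p : ℕ) [Fact p.Prime] (w₁ w₂ : ℕ) : Gr (ZMod p) (ZMod p × ZMod p) where
  F r := {f | ∃ a b, w₁ * a + w₂ * b ≤ r ∧ f = fun q => q.1 ^ a * q.2 ^ b}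
  b := (p - 1) * (w₁ + w₂)
  one r := ⟨0, 0, Nat.zero_le r, by funext q; simp⟩
  mono e _ := fun ⟨a, b, c, d⟩ => ⟨a, b, c.trans e, d⟩
  mul := by
    rintro _ _ _ _ ⟨a, b, c, rfl⟩ ⟨a', b', c', rfl⟩
    exact ⟨a + a', b + b', by rw [mul_add, mul_add]; omega, by funext q; simp [pow_add]; ring⟩
  sum := by
    rintro r _ e ⟨a, b, c, rfl⟩
    rw [Fintype.sum_prod_type]
    dsimp only
    rw [← Finset.sum_mul_sum]
    by_cases h1 : a < p - 1
    · rw [sum_pow h1, zero_mul]
    · rw [sum_pow (a := b), mul_zero]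
      by_contra h2
      have := Nat.mul_le_mul_left w₁ (not_lt.1 h1)
      have := Nat.mul_le_mul_left w₂ (not_lt.1 h2)
      rw [mul_comm, add_mul] at e
      omega

end

variable {G : Type*} [Group G] {Y Y' H K : Subgroup G} [AddCommGroup Q] {τ : Q → G} {g h u : G}

/-- `τ` parametrizes a subgroup acting freely on the cosets of `H` other than `H` -/
structure SE (Y H K : Subgroup G) (τ : Q → G) : Prop where
  mem : ∀ q, τ q ∈ Y
  memH : ∀ q, τ q ∈ H
  le : K ≤ H
  nm : Y ≤ Nm K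
  add : ∀ q q', (τ q * τ q')⁻¹ * τ (q + q') ∈ K
  se : ∀ g ∈ Y, ∀ q, g⁻¹ * τ q * g ∈ H → g ∈ H ∨ q = 0

theorem SE.mono (s : SE Y H K τ) (e : Y' ≤ Y) (m : ∀ q, τ q ∈ Y') : SE Y' H K τ :=
  ⟨m, s.memH, s.le, e.trans s.nm, s.add, fun g hg => s.se g (e hg)⟩

theorem SE.transfer [Finite G] (s : SE Y H K τ) (f : G → M)
    (hf : ∀ g ∈ Y, ∀ h ∈ Y, h ∈ H → f (g * h) = f g) :
    ∃ c, ∀ u ∈ Y, ∀ R : Submodule k M, (∀ g ∈ Y, ∑ q, f (u * τ q * g) ∈ R) → f u - c ∈ R := by
  classical
  let X := Y ⧸ H.subgroupOf Y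
  have : Fintype X := Fintype.ofFinite X
  let F : X → M := Quotient.lift (fun g : Y => f g) fun a b e => by
    have e' : (a : G)⁻¹ * b ∈ H := QuotientGroup.leftRel_apply (s := H.subgroupOf Y) |>.1 e
    simpa using (hf a a.2 _ (a⁻¹ * b).2 e').symm
  let t : Q → Y := fun q => ⟨τ q, s.mem q⟩
  have e1 : ∀ q q' (x : X), t q • t q' • x = t (q + q') • x := fun q q' x => by
    obtain ⟨g, rfl⟩ := QuotientGroup.mk_surjective x
    refine QuotientGroup.eq.2 ?_
    have := s.le (conj_mem_of_Nm' (s.nm g.2) (s.add q q'))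
    rw [Subgroup.mem_subgroupOf]
    convert this using 1
    simp [t, mul_assoc]
  have e2 : ∀ q, t q • ((1 : Y) : X) = ((1 : Y) : X) := fun q =>
    QuotientGroup.eq.2 (by simpa [Subgroup.mem_subgroupOf, t] using s.memH q)
  have e0 : ∀ x : X, t 0 • x = x := fun x => smul_left_cancel (t 0) (by rw [e1, add_zero])
  refine ⟨∑ x, F x, fun u hu R hR => ?_⟩
  let u' : Y := ⟨u, hu⟩
  have key : ∀ (n : ℕ) (T : Finset X), T.card = n → ((1 : Y) : X) ∉ T →
      (∀ q, ∀ x ∈ T, t q • x ∈ T) → ∑ x ∈ T, F (u' • x) ∈ R := by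
    intro n
    induction n using Nat.strong_induction_on with
    | _ n ih =>
    intro T c h1 h2
    rcases T.eq_empty_or_nonempty with rfl | ⟨x, hx⟩
    · simp
    obtain ⟨g, rfl⟩ := QuotientGroup.mk_surjective x
    have hg : (g : G) ∉ H := fun r => h1 (by
      rwa [(QuotientGroup.eq.2 (by simpa [Subgroup.mem_subgroupOf] using r) : ((1 : Y) : X) = g)])
    have inj : Function.Injective fun q => t q • (g : X) := fun q q' e => by
      have e' : t q • (g : X) = t q' • (g : X) := e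
      have e : t (-q + q') • (g : X) = g := by rw [← e1, ← e', e1]; simp [e0]
      have := QuotientGroup.eq.1 e.symm
      rw [Subgroup.mem_subgroupOf] at this
      have := (s.se g g.2 (-q + q') (by simpa [t, mul_assoc] using this)).resolve_left hg
      exact neg_add_eq_zero.1 this
    let O := Finset.univ.image fun q => t q • (g : X)
    have hO : O ⊆ T := Finset.image_subset_iff.2 fun q _ => h2 q _ hx
    rw [← Finset.sum_sdiff hO]
    refine add_mem (ih _ ?_ _ rfl (fun r => h1 (Finset.mem_sdiff.1 r).1) fun q x r => ?_) ?_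
    · rw [← c]
      exact Finset.card_lt_card (Finset.sdiff_ssubset hO ⟨_, Finset.mem_image_of_mem _ (Finset.mem_univ 0)⟩)
    · rw [Finset.mem_sdiff] at r ⊢
      refine ⟨h2 q x r.1, fun r' => r.2 ?_⟩
      obtain ⟨q', -, e⟩ := Finset.mem_image.1 r'
      exact Finset.mem_image.2 ⟨-q + q', Finset.mem_univ _, by rw [← e1, e, e1]; simp [e0]⟩
    · rw [Finset.sum_image fun a _ b _ e => inj e]
      convert hR g g.2 using 2 with q
      exact congrArg f (mul_assoc _ _ _).symm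
  have k := key _ (Finset.univ.erase ((1 : Y) : X)) rfl (Finset.notMem_erase _ _) fun q x hx => by
    rw [Finset.mem_erase] at hx ⊢
    exact ⟨fun r => hx.1 (smul_left_cancel (t q) (r.trans (e2 q).symm)), Finset.mem_univ _⟩
  rw [← Equiv.sum_comp (MulAction.toPerm u') F, ← Finset.add_sum_erase _ _ (Finset.mem_univ ((1 : Y) : X))]
  have : F (MulAction.toPerm u' ((1 : Y) : X)) = f u := congrArg f (mul_one u)
  rw [this, sub_add_cancel_left]
  exact neg_mem k

/-- the degree of a function along `τ` -/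
def Dg (Γ : Gr k Q) (Y : Subgroup G) (τ : Q → G) (r : ℕ) (f : G → M) : Prop :=
  ∀ u ∈ Y, ∀ g ∈ Y, (fun q => f (u * τ q * g)) ∈ Γ.Fil M r

/-- `f` is multiplied by `c` under right translation by `h` -/
def Sem (Y : Subgroup G) (f : G → M) (h : G) (c : k) : Prop := ∀ g ∈ Y, f (g * h) = c • f g

variable {Γ : Gr k Q}

theorem Dg.mono {f : G → M} (d : Dg Γ Y τ r f) (e : r ≤ r') : Dg Γ Y τ r' f :=
  fun u hu g hg => Gr.fil_mono e (d u hu g hg)

theorem SE.const [Finite G] (s : SE Y H K τ) {f : G → M} (d : Dg Γ Y τ r f) (e : r < Γ.b)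
    (hf : ∀ g ∈ Y, ∀ h ∈ Y, h ∈ H → f (g * h) = f g) (hg : g ∈ Y) : f g = f 1 := by
  obtain ⟨c, hc⟩ := s.transfer (k := k) f hf
  have k : ∀ u ∈ Y, f u = c := fun u hu =>
    sub_eq_zero.1 (hc u hu ⊥ fun g hg => Gr.sum_eq e (d u hu g hg))
  rw [k g hg, k 1 (one_mem _)]

/-- a product of two semi-invariants of small degree -/
theorem SE.line2 [Finite G] (s : SE Y H K τ) {f₁ : G → M} {f₂ : G → N} (d₁ : Dg Γ Y τ r f₁)
    (d₂ : Dg Γ Y τ r' f₂) (n₂ : ∀ g ∈ Y, f₂ g ≠ 0) {A B : ℕ} (hA : 1 ≤ A) (e : A * r + B * r' < Γ.b)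
    (hs : ∀ h ∈ Y, h ∈ H → ∃ c₁ c₂ : k, c₁ ^ A * c₂ ^ B = 1 ∧ Sem Y f₁ h c₁ ∧ Sem Y f₂ h c₂)
    (hg : g ∈ Y) : f₁ g ∈ Submodule.span k {f₁ 1} := by
  by_contra c
  obtain ⟨φ, a, b⟩ := Submodule.exists_le_ker_of_notMem c
  obtain ⟨ψ, a'⟩ := not_forall.1 ((Module.forall_dual_apply_eq_zero_iff k _).not.2 (n₂ g hg))
  have := s.const (Γ := Γ) (f := fun g => φ (f₁ g) ^ A * ψ (f₂ g) ^ B) (fun u hu g hg =>
    Gr.fmul (Gr.fpow (Gr.map φ (d₁ u hu g hg)) A) (Gr.fpow (Gr.map ψ (d₂ u hu g hg)) B)) e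
    (fun g hg h hh hh' => by
      obtain ⟨c₁, c₂, x, y, z⟩ := hs h hh hh'
      simp only [y g hg, z g hg, map_smul, smul_eq_mul, mul_pow]
      linear_combination (φ (f₁ g) ^ A * ψ (f₂ g) ^ B) * x) hg
  have z : φ (f₁ 1) = 0 := b (Submodule.mem_span_singleton_self _)
  simp only [z, zero_pow (by omega : A ≠ 0), zero_mul] at this
  exact mul_ne_zero (pow_ne_zero _ a) (pow_ne_zero _ a') this

theorem SE.line1 [Finite G] (s : SE Y H K τ) {f : G → M} (d : Dg Γ Y τ r f) {A : ℕ} (hA : 1 ≤ A)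
    (e : A * r < Γ.b) (hs : ∀ h ∈ Y, h ∈ H → ∃ c : k, c ^ A = 1 ∧ Sem Y f h c) (hg : g ∈ Y) :
    f g ∈ Submodule.span k {f 1} :=
  s.line2 (f₂ := fun _ => (1 : k)) (r' := 0) (B := 0) d (fun _ _ _ _ => Gr.const _)
    (fun _ _ => one_ne_zero) hA (by simpa using e) (fun h a b => by
      obtain ⟨c, x, y⟩ := hs h a b
      exact ⟨c, 1, by simpa using x, y, fun _ _ => by simp⟩) hg

/-- an overgroup of `H` containing all conjugates of the parametrized group -/
theorem SE.le_of [Finite G] (s : SE Y H K τ) (Γ : Gr k Q) (hb : 0 < Γ.b) {B : Subgroup G}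
    (h1 : ∀ h ∈ Y, h ∈ H → h ∈ B) (h2 : ∀ g ∈ Y, ∀ q, g⁻¹ * τ q * g ∈ B) : Y ≤ B := by
  classical
  intro g hg
  have := s.const (Γ := Γ) (r := 0) (f := fun g => if g ∈ B then (1 : k) else 0) (fun u _ g hg => by
    convert Gr.const (if u * g ∈ B then (1 : k) else 0) using 3 with q
    rw [show u * τ q * g = u * g * (g⁻¹ * τ q * g) by group, mul_mem_cancel_right (h2 g hg q)]) hb
    (fun g _ h a b => by simp only [mul_mem_cancel_right (h1 h a b)]) hg
  by_contra r
  simp [r, one_mem] at this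

end H74.FT
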