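import Cfsg.Agent.H74.FT1

/-! Semi-invariants of representations along a strongly embedded subgroup. -/

set_option autoImplicit false
set_option linter.unusedSectionVars false

namespace H74.FT
open H93 Module
open scoped commutatorElement

variable {k Q : Type*} [Field k] [Fintype Q] {M N : Type*} [AddCommGroup M] [Module k M]
  [AddCommGroup N] [Module k N] {r r' ν : ℕ} {G : Type*} [Group G] {Y Y' H K : Subgroup G}
  {τ : Q → G} {g h u w x : G} {Γ : Gr k Q}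

/-- a representation of the subgroup `Y` -/
structure Rp (Y : Subgroup G) (ρ : G → End k M) : Prop where
  one : ρ 1 = 1
  mul : ∀ g ∈ Y, ∀ h ∈ Y, ρ (g * h) = ρ g * ρ h

/-- the degree of a representation along `τ` -/
def RD (Γ : Gr k Q) (τ : Q → G) (ρ : G → End k M) (ν : ℕ) : Prop :=
  (fun q => ρ (τ q)) ∈ Γ.Fil (End k M) ν ∧ (fun q => ρ (τ q)⁻¹) ∈ Γ.Fil (End k M) ν

theorem RD.mono {ρ : G → End k M} (d : RD Γ τ ρ r) (e : r ≤ r') : RD Γ τ ρ r' :=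
  ⟨Gr.fil_mono e d.1, Gr.fil_mono e d.2⟩

namespace Rp
variable {ρ : G → End k M} (R : Rp Y ρ)
include R

theorem mono (e : Y' ≤ Y) : Rp Y' ρ := ⟨R.one, fun g a h b => R.mul g (e a) h (e b)⟩

theorem mul_inv (hg : g ∈ Y) : ρ g * ρ g⁻¹ = 1 := by rw [← R.mul g hg _ (Y.inv_mem hg)]; simp [R.one]

theorem inv_mul (hg : g ∈ Y) : ρ g⁻¹ * ρ g = 1 := by rw [← R.mul _ (Y.inv_mem hg) g hg]; simp [R.one]

theorem app (hg : g ∈ Y) (hh : h ∈ Y) (v : M) : ρ (g * h) v = ρ g (ρ h v) := by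
  rw [R.mul g hg h hh]; rfl

theorem inv_app (hg : g ∈ Y) (v : M) : ρ g⁻¹ (ρ g v) = v := by
  rw [← End.mul_apply, R.inv_mul hg]; rfl

theorem app_inv (hg : g ∈ Y) (v : M) : ρ g (ρ g⁻¹ v) = v := by
  rw [← End.mul_apply, R.mul_inv hg]; rfl

theorem inj (hg : g ∈ Y) : Function.Injective (ρ g) := Function.LeftInverse.injective (R.inv_app hg)

theorem ne (hg : g ∈ Y) {v : M} (hv : v ≠ 0) : ρ g v ≠ 0 := fun e => hv (R.inj hg (by simpa using e))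

theorem pow (hg : g ∈ Y) (n : ℕ) : ρ (g ^ n) = ρ g ^ n := by
  induction n with
  | zero => simp [R.one]
  | succ n ih => rw [pow_succ, R.mul _ (pow_mem hg n) g hg, ih, pow_succ]

theorem isUnit (hg : g ∈ Y) : IsUnit (ρ g) := ⟨⟨ρ g, ρ g⁻¹, R.mul_inv hg, R.inv_mul hg⟩, rfl⟩

theorem conj_ne (hg : g ∈ Y) {A : End k M} (hA : A ≠ 0) : ρ g * A * ρ g⁻¹ ≠ 0 := by
  rwa [Ne, (R.isUnit (Y.inv_mem hg)).mul_left_eq_zero, (R.isUnit hg).mul_right_eq_zero]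

theorem cov_ne (hg : g ∈ Y) {φ : M →ₗ[k] N} (hφ : φ ≠ 0) : φ ∘ₗ ρ g⁻¹ ≠ 0 := fun e =>
  hφ (LinearMap.ext fun v => by simpa [R.inv_app hg] using LinearMap.congr_fun e (ρ g v))

theorem sh_inv [Finite G] {V : ℕ → Submodule k M} (hV : Antitone V) (hx : x ∈ Y)
    (h : Sh V r (ρ x - 1)) : Sh V r (ρ x⁻¹ - 1) := by
  have k0 : Sh V 0 (ρ x) := fun i v hv => by
    have := add_mem (hV (Nat.le_add_right i r) (h i v hv)) hv
    simpa using this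
  have k1 : x⁻¹ = x ^ (orderOf x - 1) := by
    rw [inv_eq_iff_mul_eq_one, ← pow_succ', Nat.sub_add_cancel (orderOf_pos x), pow_orderOf_eq_one]
  have k2 : Sh V 0 (ρ x⁻¹) := by rw [k1, R.pow hx]; simpa using k0.pow (orderOf x - 1)
  have e : ρ x⁻¹ - 1 = -(ρ x⁻¹ * (ρ x - 1)) := by rw [mul_sub, R.inv_mul hx]; simp
  intro i v hv
  have := neg_mem ((k2.mul h) i v hv)
  rwa [e, ← zero_add r]

variable (m : ∀ q, τ q ∈ Y) (d : RD Γ τ ρ ν)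
include m d

theorem dg_vec (z : M) : Dg Γ Y τ ν fun g => ρ g z := fun u hu g hg => by
  convert Gr.map (ρ u ∘ₗ LinearMap.applyₗ (ρ g z)) d.1 using 2 with q
  simp [R.app (mul_mem hu (m q)) hg, R.app hu (m q)]

theorem dg_cov (φ : M →ₗ[k] N) : Dg Γ Y τ ν fun g => φ ∘ₗ ρ g⁻¹ := fun u hu g hg => by
  convert Gr.map (LinearMap.lcomp k N (ρ u⁻¹) ∘ₗ LinearMap.llcomp k M M N (φ ∘ₗ ρ g⁻¹)) d.2 using 2 with q
  ext v
  simp [R.app (Y.inv_mem hg) (mul_mem (Y.inv_mem (m q)) (Y.inv_mem hu)),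
    R.app (Y.inv_mem (m q)) (Y.inv_mem hu)]

theorem dg_end (A : End k M) : Dg Γ Y τ (ν + ν) fun g => ρ g * A * ρ g⁻¹ := fun u hu g hg => by
  convert Gr.bil (LinearMap.mul k (End k M))
    (Gr.map (LinearMap.mulLeft k (ρ u)) d.1)
    (Gr.map (LinearMap.mulLeft k (ρ g * A * ρ g⁻¹) ∘ₗ LinearMap.mulRight k (ρ u⁻¹)) d.2) using 2 with q
  dsimp only
  rw [mul_inv_rev, mul_inv_rev, R.mul _ (mul_mem hu (m q)) g hg, R.mul _ hu _ (m q),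
    R.mul _ (Y.inv_mem hg) _ (mul_mem (Y.inv_mem (m q)) (Y.inv_mem hu)),
    R.mul _ (Y.inv_mem (m q)) _ (Y.inv_mem hu)]
  simp [mul_assoc]

omit m d

theorem sem_vec (hh : h ∈ Y) {z : M} {c : k} (e : ρ h z = c • z) : Sem Y (fun g => ρ g z) h c :=
  fun g hg => by simp [R.app hg hh, e]

theorem sem_cov (hh : h ∈ Y) {φ : M →ₗ[k] N} {c : k} (e : φ ∘ₗ ρ h⁻¹ = c • φ) :
    Sem Y (fun g => φ ∘ₗ ρ g⁻¹) h c := fun g hg => by
  ext v
  simpa [R.app (Y.inv_mem hh) (Y.inv_mem hg)] using LinearMap.congr_fun e (ρ g⁻¹ v)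

theorem sem_end (hh : h ∈ Y) {A : End k M} {c : k} (e : ρ h * A = c • (A * ρ h)) :
    Sem Y (fun g => ρ g * A * ρ g⁻¹) h c := fun g hg => by
  simp only [mul_inv_rev, R.mul g hg h hh, R.mul _ (Y.inv_mem hh) _ (Y.inv_mem hg)]
  rw [mul_assoc (ρ g), e, mul_smul_comm, smul_mul_assoc, mul_assoc, mul_assoc, ← mul_assoc (ρ h),
    R.mul_inv hh, one_mul, mul_assoc]

theorem pow_conj {A : End k M} {c : k} (e : ρ h * A = c • (A * ρ h)) (i : ℕ) :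
    ρ h * A ^ i = c ^ i • (A ^ i * ρ h) := by
  induction i with
  | zero => simp
  | succ i ih =>
    rw [pow_succ, ← mul_assoc, ih, smul_mul_assoc, mul_assoc, e, mul_smul_comm, smul_smul, ← pow_succ,
      mul_assoc]

/-- an invariant line of operators has invariant range and kernel -/
theorem end_inv (hg : g ∈ Y) {A : End k M}
    (e : ρ g * A * ρ g⁻¹ ∈ Submodule.span k {ρ 1 * A * ρ 1⁻¹}) :
    (∀ v ∈ LinearMap.range A, ρ g v ∈ LinearMap.range A) ∧ ∀ v, A v = 0 → A (ρ g v) = 0 := by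
  obtain ⟨c, e⟩ := Submodule.mem_span_singleton.1 e
  simp only [inv_one, R.one, one_mul, mul_one] at e
  have k : ∀ v, c • A (ρ g v) = ρ g (A v) := fun v => by
    simpa [R.inv_app hg] using LinearMap.congr_fun e (ρ g v)
  refine ⟨?_, fun v hv => ?_⟩
  · rintro _ ⟨v, rfl⟩
    exact ⟨c • ρ g v, by rw [map_smul, k]⟩
  · by_cases z : A = 0
    · simp [z]
    have : c ≠ 0 := by rintro rfl; exact R.conj_ne hg z (by simpa using e.symm)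
    simpa [hv, this] using k v

/-- the stabilizer of a subspace -/
def stab [Finite G] (W : Submodule k M) : Subgroup G where
  carrier := {g | g ∈ Y ∧ ∀ v ∈ W, ρ g v ∈ W}
  one_mem' := ⟨one_mem _, fun v hv => by simpa [R.one] using hv⟩
  mul_mem' := fun {a b} ha hb => ⟨mul_mem ha.1 hb.1, fun v hv => by
    rw [R.app ha.1 hb.1]; exact ha.2 _ (hb.2 v hv)⟩
  inv_mem' := fun {x} hx => ⟨Y.inv_mem hx.1, fun v hv => by
    have k1 : x⁻¹ = x ^ (orderOf x - 1) := by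
      rw [inv_eq_iff_mul_eq_one, ← pow_succ', Nat.sub_add_cancel (orderOf_pos x), pow_orderOf_eq_one]
    rw [k1, R.pow hx.1]
    exact End.pow_apply_mem_of_forall_mem _ hx.2 v hv⟩

end Rp

variable {p : ℕ} [hp : Fact p.Prime]

/-- powers of one element -/
def t1 (p : ℕ) (x : G) : ZMod p → G := fun q => x ^ q.val

/-- products of powers of two elements -/
def t2 (p : ℕ) (w x : G) : ZMod p × ZMod p → G := fun q => w ^ q.1.val * x ^ q.2.val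

theorem se2 (hw : w ∈ Y) (hx : x ∈ Y) (hw' : w ∈ H) (hx' : x ∈ H) (le : K ≤ H) (nm : Y ≤ Nm K)
    (pw : w ^ p ∈ K) (px : x ^ p ∈ K) (c : ⁅w, x⁆ ∈ K)
    (se : ∀ g ∈ Y, ∀ q, g⁻¹ * t2 p w x q * g ∈ H → g ∈ H ∨ q = 0) : SE Y H K (t2 p w x) := by
  refine ⟨fun q => mul_mem (pow_mem hw _) (pow_mem hx _), fun q => mul_mem (pow_mem hw' _)
    (pow_mem hx' _), le, nm, fun q q' => ?_, se⟩
  have : (K.subgroupOf Y).Normal := ⟨fun a ha g => conj_mem_of_Nm (P := K) (x := a) (nm g.2) ha⟩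
  let a : Y ⧸ K.subgroupOf Y := (⟨w, hw⟩ : Y)
  let b : Y ⧸ K.subgroupOf Y := (⟨x, hx⟩ : Y)
  have ab : Commute a b := commutatorElement_eq_one_iff_commute.1
    ((QuotientGroup.eq_one_iff (⁅(⟨w, hw⟩ : Y), (⟨x, hx⟩ : Y)⁆ : Y)).2 c)
  have pa : a ^ p = 1 := (QuotientGroup.eq_one_iff ((⟨w, hw⟩ : Y) ^ p)).2 pw
  have pb : b ^ p = 1 := (QuotientGroup.eq_one_iff ((⟨x, hx⟩ : Y) ^ p)).2 px
  have e : a ^ q.1.val * b ^ q.2.val * (a ^ q'.1.val * b ^ q'.2.val) =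
      a ^ (q + q').1.val * b ^ (q + q').2.val := by
    rw [Prod.fst_add, Prod.snd_add, ZMod.val_add, ZMod.val_add, ← pow_eq_pow_mod _ pa,
      ← pow_eq_pow_mod _ pb, pow_add, pow_add, mul_assoc, mul_assoc,
      ← mul_assoc (b ^ _), ← (ab.pow_pow _ _).eq, mul_assoc]
  simp only [a, b, ← QuotientGroup.mk_pow, ← QuotientGroup.mk_mul] at e
  exact (QuotientGroup.eq (s := K.subgroupOf Y)).1 e

theorem se1 (hx : x ∈ Y) (hx' : x ∈ H) (le : K ≤ H) (nm : Y ≤ Nm K) (px : x ^ p ∈ K)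
    (se : ∀ g ∈ Y, ∀ q, g⁻¹ * t1 p x q * g ∈ H → g ∈ H ∨ q = 0) : SE Y H K (t1 p x) := by
  refine ⟨fun q => pow_mem hx _, fun q => pow_mem hx' _, le, nm, fun q q' => ?_, se⟩
  simp only [t1]
  rw [← pow_add, ZMod.val_add]
  generalize q.val + q'.val = n
  have : (x ^ n)⁻¹ * x ^ (n % p) = ((x ^ p) ^ (n / p))⁻¹ := by
    conv_lhs => enter [1]; rw [← Nat.mod_add_div n p, pow_add, pow_mul]
    rw [mul_inv_rev, inv_mul_cancel_right]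
  exact this ▸ K.inv_mem (pow_mem px _)

theorem SE.mem1 (s : SE Y H K (t1 p x)) : x ∈ Y := by
  have := s.mem 1; rwa [t1, ZMod.val_one, pow_one] at this

theorem SE.mono1 (s : SE Y H K (t1 p x)) (e : Y' ≤ Y) (hx : x ∈ Y') : SE Y' H K (t1 p x) :=
  s.mono e fun _ => pow_mem hx _

variable {M N : Type*} [AddCommGroup M] [Module (ZMod p) M] [AddCommGroup N] [Module (ZMod p) N]
  {ρ : G → End (ZMod p) M} {V : ℕ → Submodule (ZMod p) M} [Finite G]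

theorem id_mem : (fun q => q) ∈ (g1 p).F 1 := ⟨1, le_rfl, by simp⟩

theorem Rp.gs1 (R : Rp Y ρ) (hx : x ∈ Y) (h : Sh V 1 (ρ x - 1)) :
    (fun q => ρ (t1 p x q)) ∈ (g1 p).Gs V := by
  simpa only [t1, R.pow hx] using Gr.gs_pow id_mem h

theorem Rp.rd1 (R : Rp Y ρ) (hV : Antitone V) (h0 : V 0 = ⊤) (hD : V (ν + 1) = ⊥) (hx : x ∈ Y)
    (h : Sh V 1 (ρ x - 1)) : RD (g1 p) (t1 p x) ρ ν :=
  ⟨Gr.gs_fil' hV h0 hD (R.gs1 hx h), Gr.gs_fil' hV h0 hD (by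
    simpa only [t1, inv_pow] using R.gs1 (Y.inv_mem hx) (R.sh_inv hV hx h))⟩

theorem sh_pow (J : End (ZMod p) M) : Sh (fun i => LinearMap.range (J ^ i)) 1 J := by
  rintro i _ ⟨v, rfl⟩
  exact ⟨v, by rw [pow_succ']; rfl⟩

theorem anti_pow (J : End (ZMod p) M) : Antitone fun i => LinearMap.range (J ^ i) :=
  antitone_nat_of_succ_le fun i => by
    rintro _ ⟨v, rfl⟩
    exact ⟨J v, by rw [pow_succ]; rfl⟩

theorem Rp.rd_nil (R : Rp Y ρ) (hx : x ∈ Y) (h : (ρ x - 1) ^ (ν + 1) = 0) :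
    RD (g1 p) (t1 p x) ρ ν :=
  R.rd1 (anti_pow _) (by simp [End.one_eq_id]) (by simp [h]) hx
    (sh_pow _)

theorem Rp.rd2 (R : Rp Y ρ) (hV : Antitone V) (h0 : V 0 = ⊤) (hD : V (ν + 1) = ⊥) (hw : w ∈ Y)
    (hx : x ∈ Y) {w₁ w₂ : ℕ} (h1 : Sh V w₁ (ρ w - 1)) (h2 : Sh V w₂ (ρ x - 1)) :
    RD (g2 p w₁ w₂) (t2 p w x) ρ ν := by
  have c1 : Prod.fst ∈ (g2 p w₁ w₂).F w₁ := ⟨1, 0, by simp, by funext q; simp⟩
  have c2 : Prod.snd ∈ (g2 p w₁ w₂).F w₂ := ⟨0, 1, by simp, by funext q; simp⟩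
  refine ⟨Gr.gs_fil' hV h0 hD ?_, Gr.gs_fil' hV h0 hD ?_⟩
  · convert Gr.gs_mul (Gr.gs_pow c1 h1) (Gr.gs_pow c2 h2) using 2 with q
    rw [t2, R.mul _ (pow_mem hw _) _ (pow_mem hx _), R.pow hw, R.pow hx]
  · convert Gr.gs_mul (Gr.gs_pow c2 (R.sh_inv hV hx h2)) (Gr.gs_pow c1 (R.sh_inv hV hw h1))
      using 2 with q
    rw [t2, mul_inv_rev, ← inv_pow, ← inv_pow, R.mul _ (pow_mem (Y.inv_mem hx) _) _
      (pow_mem (Y.inv_mem hw) _), R.pow (Y.inv_mem hw), R.pow (Y.inv_mem hx)]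

theorem pow_eq_one_of_dvd {α : ZMod p} (h : α ≠ 0) {e : ℕ} (d : p - 1 ∣ e) : α ^ e = 1 := by
  obtain ⟨c, rfl⟩ := d
  rw [pow_mul, ZMod.pow_card_sub_one_eq_one h, one_pow]

theorem pow_congr {α : ZMod p} (h : α ≠ 0) {e e' : ℕ} (d : e ≡ e' [MOD p - 1]) : α ^ e = α ^ e' :=
  pow_eq_pow_of_modEq d (ZMod.pow_card_sub_one_eq_one h)

section
variable {Q : Type*} [Fintype Q] [AddCommGroup Q] {τ : Q → G} {Γ : Gr (ZMod p) Q}
  (s : SE Y H K τ) (hb : p - 1 ≤ Γ.b) {f₁ : G → M} (d₁ : Dg Γ Y τ 1 f₁) (hg : g ∈ Y)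
  (n₁ : f₁ g ∉ Submodule.span (ZMod p) {f₁ 1}) {α : G → ZMod p} {ζ e : ℕ}
  (a0 : ∀ h ∈ Y, h ∈ H → α h ≠ 0) (s₁ : ∀ h ∈ Y, h ∈ H → Sem Y f₁ h (α h ^ ζ))
include s hb d₁ hg n₁ a0 s₁

/-- the exponent of a semi-invariant of degree one is a unit -/
theorem SE.unit (h3 : 3 ≤ p) : ζ.Coprime (p - 1) := by
  by_contra c
  obtain ⟨A, e⟩ := Nat.gcd_dvd_right ζ (p - 1)
  have g0 : ζ.gcd (p - 1) ≠ 0 := fun r => by rw [r] at e; omega
  have A0 : A ≠ 0 := fun r => by rw [r] at e; omega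
  have : 2 * A ≤ p - 1 := e ▸ Nat.mul_le_mul_right A (by unfold Nat.Coprime at c; omega)
  refine n₁ (s.line1 d₁ (A := A) (by omega) (by omega) (fun h a b => ⟨_, ?_, s₁ h a b⟩) hg)
  rw [← pow_mul]
  refine pow_eq_one_of_dvd (a0 h a b) ?_
  obtain ⟨B, e'⟩ := Nat.gcd_dvd_left ζ (p - 1)
  refine ⟨B, ?_⟩
  conv_lhs => rw [e']
  conv_rhs => rw [e]
  ring

/-- relation between the exponents of two semi-invariants -/
theorem SE.rel (h3 : 3 ≤ p) {f₂ : G → N} (d₂ : Dg Γ Y τ ν f₂) (n₂ : ∀ g ∈ Y, f₂ g ≠ 0)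
    (s₂ : ∀ h ∈ Y, h ∈ H → Sem Y f₂ h (α h ^ e)) : ∃ ε ≤ ν, e ≡ ε * ζ [MOD p - 1] := by
  have c := s.unit hb d₁ hg n₁ a0 s₁ h3
  obtain ⟨ε, e1, e2⟩ : ∃ ε < p - 1, e ≡ ε * ζ [MOD p - 1] := by
    obtain ⟨m, hm⟩ := Nat.exists_mul_mod_eq_one_of_coprime c (by omega)
    refine ⟨e * m % (p - 1), Nat.mod_lt _ (by omega), ?_⟩
    have : ζ * m ≡ 1 [MOD p - 1] := by rw [Nat.ModEq, hm.2, Nat.mod_eq_of_lt (by omega)]
    calc e ≡ e * (ζ * m) [MOD p - 1] := by simpa using (this.mul_left e).symm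
      _ = e * m * ζ := by ring
      _ ≡ _ [MOD p - 1] := ((Nat.mod_modEq _ _).mul_right ζ).symm
  refine ⟨ε, ?_, e2⟩
  by_contra r
  refine n₁ (s.line2 d₁ d₂ n₂ (A := p - 1 - ε) (B := 1) (by omega) (by omega)
    (fun h a b => ⟨_, _, ?_, s₁ h a b, s₂ h a b⟩) hg)
  rw [pow_one, pow_congr (a0 h a b) e2, ← pow_mul, ← pow_add, mul_comm ε, ← mul_add,
    Nat.sub_add_cancel e1.le]
  exact pow_eq_one_of_dvd (a0 h a b) (Dvd.intro_left _ rfl)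

end

end H74.FT
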