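import Cfsg.Agent.H74.FT2

/-! Flags, uniserial operators, the truncated logarithm. -/

set_option autoImplicit false
set_option linter.unusedSectionVars false

namespace H74.FT
open H93 Module Polynomial

variable {k : Type*} [Field k] {M : Type*} [AddCommGroup M] [Module k M]
  {V : ℕ → Submodule k M} {L i j : ℕ} {J T : End k M} {v : M}

/-- a filtration with factors of dimension at most one -/
structure Flag (V : ℕ → Submodule k M) (L : ℕ) : Prop where
  anti : Antitone V
  top : V 0 = ⊤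
  bot : V L = ⊥
  step : ∀ i, ∀ v ∈ V i, v ∉ V (i + 1) → ∀ w ∈ V i, ∃ c : k, w - c • v ∈ V (i + 1)

/-- `J` is a single nilpotent Jordan block with invariant flag `V` -/
structure Uni (J : End k M) (V : ℕ → Submodule k M) (L : ℕ) : Prop extends Flag V L where
  sh : Sh V 1 J
  ne : ∀ i < L, ¬ V i ≤ V (i + 1)
  uni : ∀ i, i + 1 < L → ∀ v ∈ V i, v ∉ V (i + 1) → J v ∉ V (i + 2)

theorem Flag.mem0 (h : Flag V L) (v : M) : v ∈ V 0 := h.top ▸ Submodule.mem_top

theorem Flag.eq_zero (h : Flag V L) (e : L ≤ i) (hv : v ∈ V i) : v = 0 := by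
  have := h.anti e hv; rwa [h.bot] at this

theorem Flag.level (h : Flag V L) (hv : v ≠ 0) : ∃ i < L, v ∈ V i ∧ v ∉ V (i + 1) := by
  have : ∀ n, v ∉ V n → ∃ i < n, v ∈ V i ∧ v ∉ V (i + 1) := fun n => by
    induction n with
    | zero => exact fun r => (r (h.mem0 v)).elim
    | succ n ih =>
      intro r
      by_cases e : v ∈ V n
      · exact ⟨n, by omega, e, r⟩
      · obtain ⟨i, a, b⟩ := ih e; exact ⟨i, by omega, b⟩
  exact this L fun r => hv (h.eq_zero le_rfl r)

/-- downward induction along a flag -/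
theorem Flag.le_of (h : Flag V L) {W : Submodule k M}
    (e : ∀ j, i ≤ j → j < L → V j ≤ V (j + 1) ∨ ∃ v ∈ W, v ∈ V j ∧ v ∉ V (j + 1)) : V i ≤ W := by
  have : ∀ n, i ≤ L - n → V (L - n) ≤ W := fun n => by
    induction n with
    | zero => exact fun _ => by simp [h.bot]
    | succ n ih =>
      intro r
      rcases Nat.lt_or_ge n L with c | c
      · have ih := ih (by omega)
        rw [show L - n = L - (n + 1) + 1 by omega] at ih
        rcases e _ r (by omega) with d | ⟨v, a, b, d⟩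
        · exact d.trans ih
        · intro w hw
          obtain ⟨c, f⟩ := h.step _ v b d w hw
          simpa using add_mem (ih f) (W.smul_mem c a)
      · rw [show L - (n + 1) = L - n by omega] at r ⊢; exact ih r
  rcases le_total i L with c | c
  · have := this (L - i) (by omega); rwa [show L - (L - i) = i by omega] at this
  · exact fun v hv => h.eq_zero c hv ▸ W.zero_mem

theorem isUnit_of_nil {a : k} (ha : a ≠ 0) (hT : IsNilpotent T) : IsUnit (a • (1 : End k M) + T) := by
  have : a • (1 : End k M) + T = a • (1 + a⁻¹ • T) := by rw [smul_add, smul_inv_smul₀ ha]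
  rw [this, Algebra.smul_def]
  exact ((IsUnit.mk0 a ha).map _).mul (hT.smul _).isUnit_one_add

theorem aeval_conj {A B : End k M} (e : T * A = B * T) (P : k[X]) : T * aeval A P = aeval B P * T := by
  induction P using Polynomial.induction_on' with
  | add P Q a b => simp [mul_add, add_mul, a, b]
  | monomial n c =>
    have : T * A ^ n = B ^ n * T := SemiconjBy.pow_right e n
    simp [aeval_monomial, ← Algebra.smul_def, this]

theorem commute_aeval (J : End k M) (P : k[X]) : Commute J (aeval J P) := aeval_conj rfl P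

theorem isUnit_aeval (hJ : IsNilpotent J) {P : k[X]} (h : P.coeff 0 ≠ 0) : IsUnit (aeval J P) := by
  rw [← X_mul_divX_add P, map_add, map_mul, aeval_X, aeval_C, add_comm, Algebra.algebraMap_eq_smul_one]
  exact isUnit_of_nil h ((commute_aeval J _).isNilpotent_mul_right hJ)

theorem range_mul_unit {u : End k M} (hu : IsUnit u) (T : End k M) :
    LinearMap.range (T * u) = LinearMap.range T :=
  LinearMap.range_comp_of_range_eq_top _ (LinearMap.range_eq_top.2 ((End.isUnit_iff _).1 hu).2)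

namespace Uni
variable (h : Uni J V L)
include h

theorem pow_mem (hv : v ∈ V i) (hv' : v ∉ V (i + 1)) (j : ℕ) :
    (J ^ j) v ∈ V (i + j) ∧ (i + j < L → (J ^ j) v ∉ V (i + j + 1)) := by
  induction j with
  | zero => exact ⟨hv, fun _ => hv'⟩
  | succ j ih =>
    rw [pow_succ', End.mul_apply]
    exact ⟨h.sh _ _ ih.1, fun r => h.uni _ r _ ih.1 (ih.2 (by omega))⟩

theorem pow_L : J ^ L = 0 := (h.sh.pow L).eq_zero h.anti h.top h.bot (by omega)

theorem nil : IsNilpotent J := ⟨L, h.pow_L⟩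

theorem le_of_inv {W : Submodule k M} (hW : ∀ w ∈ W, J w ∈ W) (hv : v ∈ V i) (hv' : v ∉ V (i + 1))
    (m : v ∈ W) : V i ≤ W := h.toFlag.le_of fun j a b => Or.inr ⟨(J ^ (j - i)) v,
  End.pow_apply_mem_of_forall_mem _ hW v m, by
    have := h.pow_mem hv hv' (j - i)
    rw [show i + (j - i) = j by omega] at this
    exact ⟨this.1, this.2 b⟩⟩

theorem range_pow (i : ℕ) : LinearMap.range (J ^ i) = V i := by
  refine le_antisymm ?_ (h.toFlag.le_of fun j a b => Or.inr ?_)
  · rintro _ ⟨v, rfl⟩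
    simpa using h.sh.pow i 0 v (h.toFlag.mem0 v)
  · obtain ⟨v, c, d⟩ := SetLike.not_le_iff_exists.1 (h.ne 0 (by omega))
    have := h.pow_mem c d j
    rw [zero_add] at this
    exact ⟨_, ⟨(J ^ (j - i)) v, by rw [← End.mul_apply, ← pow_add, Nat.add_sub_cancel' a]⟩,
      this.1, this.2 b⟩

theorem pow_ne (hi : i < L) : J ^ i ≠ 0 := fun r => h.ne i hi (by rw [← h.range_pow, r]; simp)

theorem pow_eq_zero_iff : J ^ i = 0 ↔ L ≤ i :=
  ⟨fun r => not_lt.1 fun c => h.pow_ne c r, fun r => pow_eq_zero_of_le r h.pow_L⟩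

/-- operators commuting with `J` are polynomials in `J` -/
theorem comm_poly (c : Commute J T) : ∃ P : k[X], T = aeval J P := by
  rcases Nat.eq_zero_or_pos L with rfl | hL
  · exact ⟨0, LinearMap.ext fun v => h.toFlag.eq_zero le_rfl (h.toFlag.mem0 _) |>.trans (by simp)⟩
  obtain ⟨v, a, b⟩ := SetLike.not_le_iff_exists.1 (h.ne 0 hL)
  let W := LinearMap.range (LinearMap.applyₗ v ∘ₗ (aeval J : k[X] →ₐ[k] End k M).toLinearMap)
  have : V 0 ≤ W := h.le_of_inv (by rintro _ ⟨P, rfl⟩; exact ⟨X * P, by simp⟩) a b ⟨1, by simp⟩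
  obtain ⟨P, e⟩ := this (h.toFlag.mem0 (T v))
  refine ⟨P, LinearMap.ext fun w => ?_⟩
  obtain ⟨Q, rfl⟩ := this (h.toFlag.mem0 w)
  have e : aeval J P v = T v := e
  show T (aeval J Q v) = aeval J P (aeval J Q v)
  rw [← End.mul_apply, aeval_conj c.symm.eq, End.mul_apply, ← e, ← End.mul_apply, ← End.mul_apply,
    ← map_mul, ← map_mul, mul_comm]

theorem comm_unit (c : Commute J T) (hT : T ≠ 0) :
    ∃ μ < L, ∃ Q : k[X], Q.coeff 0 ≠ 0 ∧ T = J ^ μ * aeval J Q := by
  obtain ⟨P, rfl⟩ := h.comm_poly c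
  have P0 : P ≠ 0 := by rintro rfl; exact hT (map_zero _)
  obtain ⟨Q, e, n⟩ := exists_eq_pow_rootMultiplicity_mul_and_not_dvd P P0 0
  simp only [map_zero, sub_zero, X_dvd_iff] at e n
  have e' : aeval J P = J ^ rootMultiplicity 0 P * aeval J Q := by conv_lhs => rw [e]; simp
  refine ⟨_, ?_, Q, n, e'⟩
  by_contra r
  exact hT (by rw [e', h.pow_eq_zero_iff.2 (not_lt.1 r), zero_mul])

/-- a Heisenberg triple: the commutator acts quadratically with small rank -/
theorem heis {p : ℕ} [CharP k p] (hp : p.Prime) (hL : L ≤ p) {N η : End k M} (hη : IsUnit η)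
    (c : Commute J N) (hN : Sh V 1 N) (e1 : η * (J + 1) = (J + 1) * (N + 1) * η) (e2 : Commute η N) :
    ∃ μ, L + 1 ≤ 2 * μ ∧ Sh V μ N := by
  by_cases z : N = 0
  · exact ⟨L + 1, by omega, fun i v _ => by simp [z]⟩
  obtain ⟨μ, a, Q, b, e⟩ := h.comm_unit c z
  have s : Sh V μ N := fun i v hv => by
    rw [← h.range_pow] at hv ⊢
    obtain ⟨v, rfl⟩ := hv
    refine ⟨aeval J Q v, ?_⟩
    rw [e, ← End.mul_apply, ← End.mul_apply, add_comm, pow_add, mul_assoc, mul_assoc,
      ((commute_aeval J Q).pow_left i).eq]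
  refine ⟨μ, ?_, s⟩
  obtain _ | μ := μ
  · have u : IsUnit N := e ▸ (by simpa using isUnit_aeval h.nil b)
    have hn : N ^ L = 0 := (hN.pow L).eq_zero h.anti h.top h.bot (by omega)
    exact (z ((u.pow L).mul_left_eq_zero.1 (by rw [hn, mul_zero]))).elim
  let f : k[X] := X ^ (μ + 1) * Q
  have ef : aeval J f = N := by simp [f, e]
  have e3 : η * J = aeval J (X + f * (X + 1)) * η := by
    have : aeval J (X + f * (X + 1)) = (J + 1) * (N + 1) - 1 := by
      simp only [map_add, map_mul, ef, aeval_X, map_one, mul_add, add_mul, mul_one, one_mul, c.eq]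
      abel
    rw [this, sub_mul, ← e1, mul_add]; simp
  have e4 : aeval J (f.comp (X + f * (X + 1))) = aeval J f := by
    rw [aeval_comp]
    refine hη.mul_right_cancel ?_
    rw [← aeval_conj e3, ef, e2.eq]
  obtain ⟨c, e5⟩ := (f.map C).binomExpansion X (f * (X + 1))
  have k1 : ∀ g y : k[X], (g.map C).eval y = g.comp y := fun g y => by rw [comp, eval₂_eq_eval_map]
  rw [derivative_map, k1, k1, k1, comp_X, comp_X] at e5
  let w : k[X] := (C ((μ + 1 : ℕ) : k) * Q + X * derivative Q) * Q * (X + 1) + c * X * (Q * (X + 1)) ^ 2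
  have e6 : f.comp (X + f * (X + 1)) = f + X ^ (2 * μ + 1) * w := by
    rw [e5]
    simp only [f, w, derivative_mul, derivative_X_pow, Nat.add_sub_cancel]
    ring
  rw [e6, map_add, add_eq_left, map_mul, (isUnit_aeval h.nil (P := w) ?_).mul_left_eq_zero,
    map_pow, aeval_X, h.pow_eq_zero_iff] at e4
  · omega
  · have : ((μ + 1 : ℕ) : k) ≠ 0 := fun r =>
      absurd (Nat.le_of_dvd (by omega) ((CharP.cast_eq_zero_iff k p _).1 r)) (by omega)
    simpa [w, mul_coeff_zero, b] using this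

end Uni

theorem one_add_pow (J : End k M) (n : ℕ) :
    ∃ R : k[X], (J + 1) ^ n = 1 + (n : k) • J + J ^ 2 * aeval J R := by
  induction n with
  | zero => exact ⟨0, by simp⟩
  | succ n ih =>
    obtain ⟨R, e⟩ := ih
    refine ⟨C (n : k) + R * (X + 1), ?_⟩
    rw [pow_succ, e]
    simp only [map_add, map_mul, aeval_C, aeval_X, map_one, Algebra.algebraMap_eq_smul_one, mul_add,
      add_mul, mul_one, one_mul, Nat.cast_succ, add_smul, one_smul, smul_mul_assoc, mul_smul_comm,
      mul_assoc, pow_two]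
    abel

theorem pow_sub_one (hJ : IsNilpotent J) {n : ℕ} (hn : (n : k) ≠ 0) :
    ∃ u, IsUnit u ∧ Commute J u ∧ (J + 1) ^ n - 1 = J * u := by
  obtain ⟨R, e⟩ := one_add_pow J n
  refine ⟨aeval J (C (n : k) + X * R), isUnit_aeval hJ (by simpa using hn), commute_aeval _ _, ?_⟩
  rw [e]
  simp only [map_add, map_mul, aeval_C, aeval_X, Algebra.algebraMap_eq_smul_one, mul_add,
    mul_smul_comm, mul_one, pow_two, mul_assoc]
  abel

variable {p : ℕ} [hp : Fact p.Prime] {M : Type*} [AddCommGroup M] [Module (ZMod p) M]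
  {J T σ : End (ZMod p) M}

theorem add_one_pow_p (h : J ^ p = 0) : (J + 1) ^ p = 1 := by
  rcases subsingleton_or_nontrivial (End (ZMod p) M) with _ | _
  · exact Subsingleton.elim _ _
  have : CharP (End (ZMod p) M) p := charP_of_injective_algebraMap (algebraMap (ZMod p) _).injective p
  rw [add_pow_char_of_commute _ (Commute.one_right J), h, one_pow, zero_add]

/-- a semi-invariant logarithm -/
noncomputable def lg (σ : End (ZMod p) M) : End (ZMod p) M :=
  ∑ α : (ZMod p)ˣ, ((α⁻¹ : (ZMod p)ˣ) : ZMod p) • σ ^ (α : ZMod p).val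

theorem lg_conj (h : σ ^ p = 1) {β : ZMod p} (hβ : β ≠ 0) (e : T * σ = σ ^ β.val * T) :
    T * lg σ = β • (lg σ * T) := by
  rw [lg, Finset.mul_sum, Finset.sum_mul, Finset.smul_sum,
    ← Equiv.sum_comp (Equiv.mulLeft (Units.mk0 β hβ)) (fun α => β • (_ * T))]
  refine Finset.sum_congr rfl fun α _ => ?_
  have : T * σ ^ (α : ZMod p).val = (σ ^ β.val) ^ (α : ZMod p).val * T := SemiconjBy.pow_right e _
  rw [mul_smul_comm, this, ← pow_mul, pow_eq_pow_mod _ h, ← ZMod.val_mul, smul_mul_assoc, smul_smul]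
  rw [Equiv.coe_mulLeft, mul_inv_rev, Units.val_mul, Units.val_mul, Units.val_mk0, mul_left_comm β]
  congr 1
  rw [Units.val_inv_eq_inv_val (Units.mk0 β hβ), Units.val_mk0, mul_inv_cancel₀ hβ, mul_one]

theorem lg_unit (h3 : 3 ≤ p) (hJ : IsNilpotent J) :
    ∃ u, IsUnit u ∧ Commute J u ∧ lg (J + 1) = J * u := by
  choose R e using one_add_pow J
  refine ⟨aeval J (C (-1) + X * ∑ α : (ZMod p)ˣ, C ((α⁻¹ : (ZMod p)ˣ) : ZMod p) * R (α : ZMod p).val),
    isUnit_aeval hJ (by rw [coeff_add, coeff_C_zero, coeff_X_mul_zero, add_zero]; norm_num),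
    commute_aeval _ _, ?_⟩
  have s1 : ∑ α : (ZMod p)ˣ, ((α⁻¹ : (ZMod p)ˣ) : ZMod p) = 0 := by
    refine (Equiv.sum_comp (Equiv.inv (ZMod p)ˣ) (fun α => (α : ZMod p))).trans ?_
    have := FiniteField.sum_pow_units (ZMod p) 1
    rw [if_neg (by rw [ZMod.card, Nat.dvd_one]; omega)] at this
    simpa only [pow_one] using this
  have s2 : ∑ α : (ZMod p)ˣ, ((α⁻¹ : (ZMod p)ˣ) : ZMod p) * α = -1 := by
    have := FiniteField.sum_pow_units (ZMod p) 0
    rw [if_pos (dvd_zero _)] at this
    simpa only [pow_zero, Units.inv_mul] using this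
  simp only [lg, e, smul_add, Finset.sum_add_distrib, ← Finset.sum_smul, smul_smul, s1,
    ZMod.natCast_val, ZMod.cast_id', id, s2, map_add, map_mul, map_sum, aeval_C, aeval_X,
    Algebra.algebraMap_eq_smul_one, mul_add, Finset.mul_sum, smul_mul_assoc, mul_smul_comm, one_mul,
    mul_one, pow_two, mul_assoc, zero_smul, zero_add]

theorem lg_pow (h3 : 3 ≤ p) (hJ : IsNilpotent J) (i : ℕ) :
    LinearMap.range (lg (J + 1) ^ i) = LinearMap.range (J ^ i) := by
  obtain ⟨u, a, b, e⟩ := lg_unit h3 hJ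
  rw [e, b.mul_pow, range_mul_unit (a.pow i)]

end H74.FT
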