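import Cfsg.Agent.H74.FMX

/-! Weights of automorphisms on the factors of a group of maximal class; Alperin extension. -/

set_option autoImplicit false
set_option linter.unusedSectionVars false

namespace H74.FM
open Cfsg H92 H92.Es H93 H92.P5 Subgroup
open scoped commutatorElement

universe u
variable {Ω : Type u} [Group Ω] {S A B C E K R R₁ R₂ : Subgroup Ω} {γ : ℕ → Subgroup Ω}
  {p n i j k a b : ℕ} {g s t w x y : Ω} {c : ℤ}

open Classical in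
/-- the scalar by which `g` acts on the factor `A / B` of order `p` -/
noncomputable def wt (p : ℕ) (A B : Subgroup Ω) (g : Ω) : ZMod p :=
  if h : ∃ c : ℤ, ∀ y ∈ A, W g y B c then (h.choose : ZMod p) else 0

/-- the weight on `γ k / γ (k + 1)` -/
noncomputable abbrev om (p : ℕ) (γ : ℕ → Subgroup Ω) (k : ℕ) (g : Ω) : ZMod p :=
  wt p (γ k) (γ (k + 1)) g

variable [hp : Fact p.Prime] [Finite Ω]

section
variable (h : Sp p A B)
include h

theorem wt_ex (h1 : g ∈ Nm A) (h2 : g ∈ Nm B) :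
    ∃ c : ℤ, (c : ZMod p) = wt p A B g ∧ ∀ y ∈ A, W g y B c := by
  obtain ⟨y, a, b⟩ := h.ex
  obtain ⟨c, e⟩ := h.wt h1 a b
  have k : ∃ c : ℤ, ∀ y ∈ A, W g y B c := ⟨c, fun y' hy' => W.same h h2 a b hy' e⟩
  exact ⟨k.choose, by rw [wt, dif_pos k], k.choose_spec⟩

theorem wt_eq (h1 : g ∈ Nm A) (h2 : g ∈ Nm B) (hy : y ∈ A) (hy' : y ∉ B) (e : W g y B c) :
    wt p A B g = c := by
  obtain ⟨c', a, b⟩ := wt_ex h h1 h2
  rw [← a]; exact (b y hy).uniq e hy' (h.pow hy)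

theorem wt_W (h1 : g ∈ Nm A) (h2 : g ∈ Nm B) (e : wt p A B g = c) (hy : y ∈ A) : W g y B c := by
  obtain ⟨c', a, b⟩ := wt_ex h h1 h2
  exact (b y hy).of_eq (h.pow hy) (a.trans e)

theorem wt_ne (h1 : g ∈ Nm A) (h2 : g ∈ Nm B) : wt p A B g ≠ 0 := by
  obtain ⟨c', a, b⟩ := wt_ex h h1 h2
  obtain ⟨y, c, d⟩ := h.ex
  rw [← a]; exact (b y c).ne h2 d (h.pow c)

theorem wt_tv (h1 : g ∈ Tv A B) : wt p A B g = 1 := by
  obtain ⟨y, c, d⟩ := h.ex
  simpa using wt_eq h (Nm_of_Tv h1 h.le le_rfl) h1.1 c d (W.of_tv h1 c)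

theorem tv_of_wt (h1 : g ∈ Nm A) (h2 : g ∈ Nm B) (e : wt p A B g = 1) : g ∈ Tv A B :=
  ⟨h2, fun y hy => by simpa [W] using wt_W h h1 h2 (c := 1) (by simpa using e) hy⟩

theorem wt_congr (h1 : g ∈ Nm A) (h2 : g ∈ Nm B) (e : g⁻¹ * t ∈ Ct A) : wt p A B t = wt p A B g := by
  obtain ⟨c', a, b⟩ := wt_ex h h1 h2
  obtain ⟨y, c, d⟩ := h.ex
  rw [← a]
  exact wt_eq h (Nm_of_div_Ct h1 e) (Nm_of_div_Ct h2 (Ct_anti h.le e)) c d ((b y c).congr c e)

theorem wt_mul (h1 : g ∈ Nm A) (h2 : g ∈ Nm B) (h3 : t ∈ Nm A) (h4 : t ∈ Nm B) :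
    wt p A B (g * t) = wt p A B g * wt p A B t := by
  obtain ⟨c, a, b⟩ := wt_ex h h1 h2
  obtain ⟨c', a', b'⟩ := wt_ex h h3 h4
  obtain ⟨y, d, e⟩ := h.ex
  rw [← a, ← a', ← Int.cast_mul]
  refine wt_eq h (mul_mem h1 h3) (mul_mem h2 h4) d e ?_
  have k1 := conj_mem_of_Nm h2 (b' y d)
  have k2 : ((y ^ c') ^ c)⁻¹ * (g * y ^ c' * g⁻¹) ∈ B := b _ (zpow_mem d c')
  have := mul_mem k2 k1
  rw [W, mul_comm c, zpow_mul]
  convert this using 1; group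

theorem wt_pow (h1 : g ∈ Nm A) (h2 : g ∈ Nm B) (m : ℕ) : wt p A B (g ^ m) = wt p A B g ^ m := by
  induction m with
  | zero => rw [pow_zero, pow_zero]; exact wt_tv h ⟨one_mem _, fun x _ => by simp⟩
  | succ m ih => rw [pow_succ, wt_mul h (pow_mem h1 _) (pow_mem h2 _) h1 h2, ih, pow_succ]

end

namespace MX
variable (h : MX p n S γ)
include h

theorem om_ne (ht : t ∈ Nm S) (hk : k < n) : om p γ k t ≠ 0 := wt_ne (h.sp hk) (h.nm _ ht) (h.nm _ ht)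

theorem om_S (hs : s ∈ S) (hk : k < n) : om p γ k s = 1 := wt_tv (h.sp hk) (h.tvS k hs)

/-- weight of a commutator -/
theorem om_com {r : ℕ} {u v : Ω} (hr : r < n) (hA : Sp p A B) (hA' : A ≤ S) (n1 : t ∈ Nm A)
    (n2 : t ∈ Nm B) (hk : k < n) (n3 : t ∈ Nm (γ k)) (n4 : t ∈ Nm (γ (k + 1)))
    (n5 : t ∈ Nm (γ r)) (n6 : t ∈ Nm (γ (r + 1))) (hC : γ (r + 1) ≤ C) (hC' : S ≤ Nm C)
    (hC2 : γ r ⊓ C ≤ γ (r + 1)) (hu : u ∈ γ k) (hv : v ∈ A)
    (e1 : ⁅γ (k + 1), A⁆ ≤ C) (e2 : ⁅B, γ k⁆ ≤ C) (e3 : ⁅u, v⁆ ∈ γ r) (e4 : ⁅u, v⁆ ∉ γ (r + 1)) :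
    om p γ r t = wt p A B t * om p γ k t := by
  obtain ⟨c, a, b⟩ := wt_ex hA n1 n2
  obtain ⟨c', a', b'⟩ := wt_ex (h.sp hk) n3 n4
  have := W.comm (b' u hu) (b v hv) hu hv hA.le (hC' (h.le _ hu)) (hC' (hA' hv))
    (tv_of_le ((h.le _).trans hC') e1) (tv_of_le ((hA.le.trans hA').trans hC') e2)
    (hC (com_symm (h.cS e3 (h.le _ hu)))) (hC (com_symm (h.cS e3 (hA' hv))))
  rw [om, om, ← a, ← a', mul_comm, ← Int.cast_mul]
  exact wt_eq (h.sp hr) n5 n6 e3 e4 (hC2 ⟨mul_mem ((γ r).inv_mem (zpow_mem e3 _))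
    (conj_mem_of_Nm n5 e3), this⟩)

theorem om_succ (ht : t ∈ Nm S) (hk : 1 ≤ k) (hkn : k + 2 ≤ n)
    (e : k + 3 ≤ n ∨ γ 1 ≤ Ct (γ (n - 2))) : om p γ (k + 1) t = om p γ 0 t * om p γ k t := by
  obtain ⟨s, a, b, c⟩ := h.exists_unif
  obtain ⟨w, d, f⟩ := h.ex (i := k) (by omega)
  refine h.om_com (by omega) (h.sp (by omega)) (h.le _) (h.nm _ ht) (h.nm _ ht) (by omega)
    (h.nm _ ht) (h.nm _ ht) (h.nm _ ht) (h.nm _ ht) le_rfl (h.nmS _) inf_le_right d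
    (h.zero.symm ▸ a) (h.zero.symm ▸ h.comS _) ?_ (h.cS d a) (h.unif' a b c hk hkn d f)
  rw [show k + 1 + 1 = 1 + k + 1 by omega]
  exact e.elim (fun e => h.ne le_rfl hk (by omega)) fun e => h.ne_of e le_rfl hk

theorem om_eq (ht : t ∈ Nm S) (hkn : k + 2 ≤ n) (e : k + 3 ≤ n ∨ γ 1 ≤ Ct (γ (n - 2))) :
    om p γ (k + 1) t = om p γ 0 t ^ k * om p γ 1 t := by
  induction k with
  | zero => simp
  | succ k ih =>
    rw [h.om_succ ht (by omega) hkn (e.imp_left fun _ => by omega),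
      ih (by omega) (e.imp_left fun _ => by omega), pow_succ', mul_assoc]

/-- exceptional groups: the last weight -/
theorem om_last (ht : t ∈ Nm S) (e : ¬ γ 1 ≤ Ct (γ (n - 2))) :
    om p γ (n - 1) t = om p γ 1 t * om p γ (n - 2) t := by
  have h4 := h.four
  obtain ⟨v, a, b⟩ := SetLike.not_le_iff_exists.1 e
  rw [ct_iff] at b
  push Not at b
  obtain ⟨u, c, d⟩ := b
  have z : γ (n - 1 + 1) = ⊥ := h.bot (by omega)
  refine h.om_com (by omega) (h.sp (by omega)) (h.le _) (h.nm _ ht) (h.nm _ ht) (by omega)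
    (h.nm _ ht) (h.nm _ ht) (h.nm _ ht) (h.nm _ ht) le_rfl (h.nmS _) inf_le_right c a
    (((commutator_mono le_rfl (h.le _)).trans (h.comS _)).trans (h.anti (by omega)))
    ((h.com (by omega) (by omega)).trans (h.anti (by omega))) ?_ (by rwa [z, mem_bot])
  have := h.cS c (h.le _ a)
  rwa [show n - 2 + 1 = n - 1 by omega] at this

/-- exceptional groups: the weight on `M / γ 2` -/
theorem wt_M (ht : t ∈ Nm S) (e : ¬ γ 1 ≤ Ct (γ (n - 2))) :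
    wt p (Mz n S γ) (γ 2) t = om p γ 0 t := by
  obtain ⟨c, a, b⟩ := wt_ex h.spM2 (h.nmM ht) (h.nm _ ht)
  obtain ⟨y, d, f⟩ := h.spM2.ex
  rw [← a]
  exact (wt_eq (h.sp (by have := h.four; omega)) (h.nm _ ht) (h.nm _ ht) (h.zero.symm ▸ d.1)
    (fun r => f (h.inf_M e ▸ (⟨r, d⟩ : y ∈ γ 1 ⊓ Mz n S γ))) ((b y d).mono (h.succ 1))).symm

/-- exceptional groups: `γ i` and `γ (n - 1 - i)` do not commute -/
theorem pair (e : ¬ γ 1 ≤ Ct (γ (n - 2))) (hi : 1 ≤ i) (hk : 1 ≤ k) (hn : i + k + 1 = n)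
    (hx : x ∈ γ i) (hx' : x ∉ γ (i + 1)) (hy : y ∈ γ k) (hy' : y ∉ γ (k + 1)) : ⁅x, y⁆ ≠ 1 := by
  have z : ∀ {a b}, 1 ≤ a → 1 ≤ b → n ≤ a + b → γ a ≤ Ct (γ b) := fun ha hb r u hu =>
    ct_iff.2 fun v hv => by
      have := h.com hb ha (commutator_mem_commutator hv hu)
      rwa [h.bot (by omega), mem_bot] at this
  have k0 : ∀ {i k x y}, 1 ≤ i → 1 ≤ k → i + k + 1 = n → x ∈ γ i → x ∉ γ (i + 1) → y ∈ γ k →
      y ∉ γ (k + 1) → ⁅x, y⁆ = 1 → γ i ≤ Ct (γ k) := fun {i k x y} hi hk hn hx hx' hy hy' r =>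
    (h.sp (by omega)).le_of (z (by omega) hk (by omega)) hx hx' ((h.sp (by omega)).ct_of
      (le_Ct_comm.1 (z (by omega) hi (by omega)) hx) hy hy' r)
  obtain ⟨s, hs, hs'⟩ := h.spM2.ex
  have s1 : s ∉ γ 1 := fun r => hs' (h.inf_M e ▸ (⟨r, hs⟩ : s ∈ γ 1 ⊓ Mz n S γ))
  have key : ∀ i k, 1 ≤ i → 1 ≤ k → i + k + 1 = n → ¬ γ i ≤ Ct (γ k) := by
    intro i
    induction i with
    | zero => omega
    | succ i ih =>
      intro k _ hk hn r
      rcases Nat.eq_zero_or_pos i with rfl | hi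
      · exact e (by rwa [show n - 2 = k by omega])
      obtain ⟨u, a, b⟩ := h.ex (i := i) (by omega)
      obtain ⟨v, c, d⟩ := h.ex (i := k) (by omega)
      refine ih (k + 1) hi (by omega) (by omega) (k0 hi (by omega) (by omega) a b (h.cS c hs.1)
        (h.unif hs.1 s1 hk (by omega) c d) ?_)
      have c1 : ⁅u, v⁆ ∈ S ⊓ Ct S := by
        rw [h.cen, show n - 1 = i + k + 1 by omega]
        exact h.ne hi hk (by omega) (commutator_mem_commutator a c)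
      have c2 := mem_Ct'.1 (r (h.cS ((γ i).inv_mem a) hs.1)) _ (conj_mem_of_Nm (h.nmS k hs.1) c)
      have c3 := mem_Ct'.1 c1.2 s hs.1
      have c4 := mem_Ct'.1 c1.2 _ (h.le _ (h.cS c hs.1))
      generalize hz : ⁅u, v⁆ = z at c3 c4
      rw [commutatorElement_def] at c2 c4 hz
      rw [commutatorElement_eq_one_iff_mul_comm, commutatorElement_def]
      have e0 : u * v * u⁻¹ = z * v := by rw [← hz]; group
      have e1 : u * (s * v * s⁻¹) * u⁻¹ = z * (s * v * s⁻¹) := by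
        calc _ = u * (s * v * s⁻¹ * (u⁻¹ * s * u⁻¹⁻¹ * s⁻¹)) * (s * u⁻¹ * s⁻¹) := by group
          _ = s * (u * v * u⁻¹) * s⁻¹ := by rw [c2]; group
          _ = _ := by rw [e0, ← mul_assoc, c3]; group
      calc _ = (u * v * u⁻¹) * (u * (s * v * s⁻¹) * u⁻¹)⁻¹ * u := by group
        _ = z * (v * s * v⁻¹ * s⁻¹) * z⁻¹ * u := by rw [e0, e1]; group
        _ = _ := by rw [← c4]; group
  exact fun r => key i k hi hk hn (k0 hi hk hn hx hx' hy hy' r)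

/-- all weights are powers of the top weight -/
theorem om_pow {m : ℕ} (hm : m ≤ n) (e : m + 1 ≤ n ∨ γ 1 ≤ Ct (γ (n - 2)))
    (hP : ¬ ⁅γ 1, γ 1⁆ ≤ γ m) :
    ∃ κ : ℕ, ∀ t ∈ Nm S, ∀ k, 1 ≤ k → k < m → om p γ k t = om p γ 0 t ^ (k + κ) := by
  classical
  let Q : ℕ → Prop := fun c => ∃ i k, 1 ≤ i ∧ 1 ≤ k ∧ i + k = c ∧ ¬ ⁅γ i, γ k⁆ ≤ γ m
  have bd : ∀ c, Q c → c < m := by
    rintro _ ⟨i, k, a, b, rfl, d⟩
    by_contra r
    exact d ((h.com a b).trans (h.anti (by omega)))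
  have q2 : Q 2 := ⟨1, 1, le_rfl, le_rfl, rfl, hP⟩
  obtain ⟨i, k, a, b, c, d⟩ : Q (Nat.findGreatest Q m) := Nat.findGreatest_spec (bd 2 q2).le q2
  have mx : ∀ i' k', 1 ≤ i' → 1 ≤ k' → i' + k' = i + k + 1 → ⁅γ i', γ k'⁆ ≤ γ m := by
    intro i' k' a' b' c'
    by_contra r
    have q : Q (i + k + 1) := ⟨i', k', a', b', c', r⟩
    have := Nat.le_findGreatest (bd _ q).le q
    omega
  rw [commutator_le] at d
  push Not at d
  obtain ⟨u, hu, v, hv, d⟩ := d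
  obtain ⟨r, -, r1, r2⟩ := h.level (h.le _ (h.cS hu (h.le _ hv))) fun r => d (r ▸ one_mem _)
  have rm : r < m := by by_contra q; exact d (h.anti (by omega) r1)
  have ri : i + k ≤ r := by
    by_contra q
    exact r2 (h.anti (by omega) (h.com a b (commutator_mem_commutator hu hv)))
  have E : ∀ t ∈ Nm S, ∀ k, 1 ≤ k → k < m → om p γ k t = om p γ 0 t ^ (k - 1) * om p γ 1 t :=
    fun t ht k a b => by
      have := h.om_eq ht (k := k - 1) (by omega) (e.imp_left fun _ => by omega)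
      rwa [show k - 1 + 1 = k by omega] at this
  refine ⟨r - i - k, fun t ht l c' d' => ?_⟩
  have := h.om_com (by omega) (h.sp (i := k) (by omega)) (h.le _) (h.nm _ ht) (h.nm _ ht) (by omega)
    (h.nm _ ht) (h.nm _ ht) (h.nm _ ht) (h.nm _ ht) le_rfl (h.nmS _) inf_le_right hu hv
    ((mx _ _ (by omega) b (by omega)).trans (h.anti (by omega)))
    ((mx _ _ (by omega) a (by omega)).trans (h.anti (by omega))) r1 r2
  change om p γ r t = om p γ k t * om p γ i t at this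
  rw [E t ht r (by omega) rm, E t ht k b (by omega), E t ht i a (by omega)] at this
  have n0 := h.om_ne ht (k := 0) (by omega)
  have n1 := h.om_ne ht (k := 1) (by omega)
  have e1 : om p γ 1 t = om p γ 0 t ^ (r - i - k + 1) := by
    refine mul_left_cancel₀ (mul_ne_zero (pow_ne_zero (k - 1 + (i - 1)) n0) n1) ?_
    rw [mul_right_comm _ _ (om p γ 0 t ^ _), ← pow_add,
      show k - 1 + (i - 1) + (r - i - k + 1) = r - 1 by omega, this, pow_add]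
    ring
  rw [E t ht l c' d', e1, ← pow_add]
  congr 1; omega

/-- exceptional groups: the centralizer of `γ k` in `γ 1` -/
theorem ct_exc (e : ¬ γ 1 ≤ Ct (γ (n - 2))) (hk : 1 ≤ k) (hn : k < n) (hx : x ∈ γ 1)
    (hc : x ∈ Ct (γ k)) : x ∈ γ (n - k) := by
  by_cases z : x = 1
  · exact z ▸ one_mem _
  obtain ⟨i, -, a, b⟩ := h.level (h.le _ hx) z
  by_contra r
  have i1 : 1 ≤ i := by by_contra q; exact b (h.anti (by omega) hx)
  have i2 : i < n - k := by by_contra q; exact r (h.anti (by omega) a)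
  obtain ⟨y, c, d⟩ := h.ex (i := n - 1 - i) (by omega)
  exact h.pair e (by omega) i1 (by omega) c d a b (ct_iff.1 hc y (h.anti (by omega) c))

end MX

section
variable {F : FusionSystem S} (hF : SatA p F)
include hF

theorem ext2 (n1 : Nm S ≤ Nm R₁) (n2 : Nm S ≤ Nm R₂) (hc : p ^ 3 ≤ Nat.card E)
    (hD : ∀ D, F.IsEssential p D → Nat.card E < Nat.card D → D = R₁ ∨ D = R₂ ∨ Nat.card D ≤ p ^ 3)
    (e1 : ¬ E ≤ R₁) (e2 : ¬ E ≤ R₂) (hg : g ∈ XE F E) : ∃ t ∈ Aut F S, g⁻¹ * t ∈ Ct E := by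
  have key := hF.alperin' (fun Q g => Nat.card E < Nat.card Q → ¬ Q ≤ R₁ → ¬ Q ≤ R₂ →
    ∃ t ∈ Aut F S, g⁻¹ * t ∈ Ct Q) ?_ ?_ ?_
  · let B : Subgroup Ω := (Aut F S ⊓ Nm E) ⊔ Ct E
    have : g ∈ B := XE_le_of le_sup_right (fun g Q a b c => by
      obtain ⟨t, d, e⟩ := key Q g c (card_lt_of_lt b) (fun r => e1 (b.le.trans r))
        fun r => e2 (b.le.trans r)
      have e' := Ct_anti b.le e
      exact mem_of_div (mem_sup_left ⟨d, Nm_of_div_Ct a e'⟩) (div_symm e') le_sup_right) hg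
    obtain ⟨t, a, b⟩ := (mem_sup_Ct' inf_le_right).1 this
    exact ⟨t, a.1, div_symm b⟩
  · intro P Q g k _ hC hQ e a b c
    obtain ⟨t, d, f⟩ := hC (a.trans_le (card_le_of_le hQ)) (fun r => b (hQ.trans r))
      fun r => c (hQ.trans r)
    exact ⟨t, d, div_trans (div_symm e) (Ct_anti hQ f)⟩
  · intro P Q g k _ hC _ hC' l a b c
    obtain ⟨t, d, f⟩ := hC a b c
    have e := cj_congr f
    have m : ∀ R, Nm S ≤ Nm R → Q ≤ R → P ≤ R := fun R nR r => by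
      rw [← cj_le_cj (g := t), cj_eq_of_Nm (nR (Aut_le_Nm F S d)), e]; exact l.trans r
    obtain ⟨t', d', f'⟩ := hC' (a.trans_le (card_le_of_cj_le l)) (fun r => b (m _ n1 r))
      fun r => c (m _ n2 r)
    refine ⟨t' * t, mul_mem d' d, ?_⟩
    have := mul_mem (mem_cj_inv.1 (by rw [cj_Ct, inv_inv]; exact Ct_anti l f' :
      k⁻¹ * t' ∈ cj g⁻¹⁻¹ (Ct P))) f
    convert this using 1; group
  · rintro P (rfl | hP) - a ha b c d
    · exact ⟨a, ha, by simp [one_mem]⟩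
    · rcases hD P hP b with r | r | r
      exacts [(c r.le).elim, (d r.le).elim, by omega]

theorem ext1 (hR : R ≤ S) (n1 : Nm S ≤ Nm R) (hc : p ^ 3 ≤ Nat.card E)
    (hD : ∀ D, F.IsEssential p D → Nat.card E < Nat.card D → D = R ∨ Nat.card D ≤ p ^ 3)
    (e1 : E ≤ R) (hg : g ∈ XE F E) : ∃ t ∈ Aut F R, g⁻¹ * t ∈ Ct E := by
  have key := hF.alperin' (fun Q g => Nat.card E < Nat.card Q →
    ∃ t ∈ Aut F R, g⁻¹ * t ∈ Ct (Q ⊓ R) ∧ cj g Q ⊓ R ≤ cj g (Q ⊓ R)) ?_ ?_ ?_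
  · let B : Subgroup Ω := (Aut F R ⊓ Nm E) ⊔ Ct E
    have : g ∈ B := XE_le_of le_sup_right (fun g Q a b c => by
      obtain ⟨t, d, e, -⟩ := key Q g c (card_lt_of_lt b)
      have e' := Ct_anti (le_inf b.le e1) e
      exact mem_of_div (mem_sup_left ⟨d, Nm_of_div_Ct a e'⟩) (div_symm e') le_sup_right) hg
    obtain ⟨t, a, b⟩ := (mem_sup_Ct' inf_le_right).1 this
    exact ⟨t, a.1, div_symm b⟩
  · intro P Q g k _ hC hQ e a
    obtain ⟨t, d, f, f'⟩ := hC (a.trans_le (card_le_of_le hQ))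
    refine ⟨t, d, div_trans (div_symm (Ct_anti inf_le_left e)) (Ct_anti (inf_le_inf_right _ hQ) f), ?_⟩
    rw [cj_congr e, cj_congr (Ct_anti inf_le_left e)]
    exact fun x hx => mem_cj.2 ⟨mem_cj.1 hx.1, (mem_cj.1 (f' ⟨cj_mono g hQ hx.1, hx.2⟩)).2⟩
  · intro P Q g k _ hC _ hC' l a
    obtain ⟨t, d, f, g1⟩ := hC a
    obtain ⟨t', d', f', g2⟩ := hC' (a.trans_le (card_le_of_cj_le l))
    have l' : cj g (P ⊓ R) ≤ Q ⊓ R := le_inf ((cj_mono g inf_le_left).trans l) (by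
      rw [← cj_congr f]; exact (cj_mono t inf_le_right).trans (cj_eq_of_Aut d).le)
    refine ⟨t' * t, mul_mem d' d, ?_, fun x hx => ?_⟩
    · have := mul_mem (mem_cj_inv.1 (by rw [cj_Ct, inv_inv]; exact Ct_anti l' f' :
        k⁻¹ * t' ∈ cj g⁻¹⁻¹ (Ct (P ⊓ R)))) f
      convert this using 1; group
    · rw [cj_mul] at hx ⊢
      exact mem_cj.2 (g1 ⟨mem_cj.1 hx.1, (mem_cj.1 (g2 ⟨cj_mono k l hx.1, hx.2⟩)).2⟩)
  · rintro P (rfl | hP) - a ha b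
    · have := n1 (Aut_le_Nm F P ha)
      refine ⟨a, mem_Aut_of_le ha le_rfl hR this, by simp [one_mem], ?_⟩
      rw [cj_inf, cj_eq_of_Nm this]
    · rcases hD P hP b with rfl | r
      · exact ⟨a, ha, by simp [one_mem], by rw [inf_idem]; exact inf_le_left⟩
      · omega

end
end H74.FM
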