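import Cfsg.Agent.H16.HN3Spec

/-! `blueprints/HN3L.md` §4a: `C(y)` does not normalise `J`. -/

set_option autoImplicit false
set_option maxRecDepth 100000
set_option synthInstance.maxSize 4096
open Cfsg Subgroup H98 H42.L3 H16.HN3 H21.MC H42.MC
open H56.L3 (Nz)
open H47.MC (V Mat Acts Coord)
open H90 (SL5)
open scoped commutatorElement Matrix

namespace H74.Y1

attribute [local instance 2000] List.decidableBAll List.decidableBEx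

theorem sl5 : ∀ x : SL5, x ^ 3 = 1 → x ≠ 1 → ∀ y, y * x = x * x * y → ∀ x' : SL5, x' ^ 3 = 1 →
    x' ≠ 1 → (x' * (y * x' * (y * y * y))) ^ 3 = 1 → (x' * x' * (y * x' * (y * y * y))) ^ 3 = 1 →
    x' = x ∨ x' = x * x ∨ ∀ w, w = x * x' * (x * x') → w ^ 5 = 1 ∧ w * w * w ≠ 1 := by
  decide +kernel

def l6 : List V := [ve2, -ve2, ve3, -ve3, ve4, -ve4]
def mc (a b c : V) : Mat := Matrix.of fun i j => ![ve1, a, b, c] j i
def mI : Mat := !![0, -1, 0, 0; 1, 0, 0, 0; 0, 0, 0, 1; 0, 0, -1, 0]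
def mJ : Mat := !![0, 0, -1, 0; 0, 0, 0, -1; 1, 0, 0, 0; 0, 1, 0, 0]

theorem col6 : ∀ x : V, x ⬝ᵥ x = 1 → ve1 ⬝ᵥ x = 0 → x ∈ l6 := by decide +kernel

theorem noQ8 : ∀ a ∈ l6, ∀ b ∈ l6, a ⬝ᵥ b = 0 → ∀ c ∈ l6, a ⬝ᵥ c = 0 → b ⬝ᵥ c = 0 →
    mc a b c * mc a b c ≠ 1 → ∀ a' ∈ l6, ∀ b' ∈ l6, a' ⬝ᵥ b' = 0 → ∀ c' ∈ l6, a' ⬝ᵥ c' = 0 →
    b' ⬝ᵥ c' = 0 → mc a' b' c' * mc a' b' c' = mc a b c * mc a b c →
    mc a' b' c' * mc a b c * mc a' b' c' ≠ mc a b c := by decide +kernel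

theorem detI : mI.det = 1 ∧ mJ.det = 1 := by decide +kernel

theorem rel : mIᵀ * mI = 1 ∧ mJᵀ * mJ = 1 ∧ mI * mI = -1 ∧ mJ * mJ = -1 ∧ mJ * mI * mJ = mI ∧
    mI * sieg wz wa = sieg wz wa * mI ∧ mJ * sieg wz wa = sieg wz wa * mJ := by decide +kernel

theorem perp : ∀ x : V, x ⬝ᵥ wz = 0 → x ⬝ᵥ x = 0 → (∀ a : ZMod 3, a • wz ≠ x) → ∀ b : V, b ⬝ᵥ wz = 0 →
    sieg wz b *ᵥ x = x → ∃ α β : ZMod 3, sieg wz b *ᵥ wd - wd = α • x + β • wz := by decide +kernel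

universe u

local notation "Ce" => H56.L3.Ce

variable {G : Type u} [Group G] [Finite G] {v : V → G} {S J Q L : Subgroup G} {n ι g q u l : G}
  {π : Ce (v wz) →* SL5} {M N : Mat} {x : V}

omit [Finite G] in
theorem acts_uniq (C : Coord v J) (a : Acts v g M) (b : Acts v g N) : M = N :=
  Matrix.toLin'.injective (LinearMap.ext fun y => C.inj ((a y).symm.trans (b y)))

theorem nr_cl {s : Set G} (e : ∀ y ∈ s, g * y * g⁻¹ ∈ closure s) : g ∈ nr (closure s) :=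
  mem_normalizer_of_cj_le (by
    rw [cj, MonoidHom.map_closure, closure_le]
    rintro _ ⟨y, hy, rfl⟩
    exact e y hy)

theorem mat {M : Mat} (h : InG M) (e : M *ᵥ ve1 = ve1) : ∃ a ∈ l6, ∃ b ∈ l6, ∃ c ∈ l6,
    a ⬝ᵥ b = 0 ∧ a ⬝ᵥ c = 0 ∧ b ⬝ᵥ c = 0 ∧ M = mc a b c := by
  have c0 : Mᵀ 0 = ve1 := by
    rw [← e]; funext i; simp [ve1, Matrix.mulVec, dotProduct, Fin.sum_univ_four]
  have k : ∀ i j, Mᵀ i ⬝ᵥ Mᵀ j = M.det * (if i = j then 1 else 0) := fun i j => by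
    simpa [Matrix.mul_apply, dotProduct, Matrix.one_apply] using congrFun (congrFun h.1 i) j
  have d1 : M.det = 1 := by
    have := k 0 0
    rw [c0, if_pos rfl, mul_one] at this
    rw [← this]; decide
  simp only [d1, one_mul] at k
  refine ⟨Mᵀ 1, col6 _ (k 1 1) (c0 ▸ k 0 1), Mᵀ 2, col6 _ (k 2 2) (c0 ▸ k 0 2), Mᵀ 3,
    col6 _ (k 3 3) (c0 ▸ k 0 3), k 1 2, k 1 3, k 2 3, ?_⟩
  rw [mc, ← c0]
  ext i j
  fin_cases j <;> rfl

variable (h : Lc v S J Q L n π ι)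
include h

theorem inv_J (hg : g ∈ J) : ι * g * ι⁻¹ = g⁻¹ := by
  obtain ⟨y, rfl⟩ := (h.mem g).1 hg
  rw [h.aI, Matrix.neg_mulVec, Matrix.one_mulVec, v_neg h.toCoord]

theorem iZ : ι ∈ Nz (v wz) := mem_Nz.2 (by
  rw [inv_J h (v_mem h.toCoord _)]; exact inv_mem (mem_zpowers _))

theorem mem_J (a : Acts v g 1) : g ∈ J := h.bas.cJ h.JS h.Jc h.J81 fun y hy => by
  obtain ⟨y, rfl⟩ := (h.mem y).1 hy
  have := a y
  rw [Matrix.one_mulVec, mul_inv_eq_iff_eq_mul] at this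
  exact this.symm

theorem sq_inv (hg : g ∈ J) : g⁻¹ * g⁻¹ = g := by
  rw [← mul_inv_rev, inv_eq_iff_mul_eq_one, ← pow_three', h.J3 g hg]

theorem lift (hq : q ∈ Q) : ∃ u ∈ Q, Commute u ι ∧ u⁻¹ * q ∈ J := by
  obtain ⟨b, -, a⟩ := h.qact q hq
  obtain ⟨M, m1, m2⟩ := h.act q (acts_nr h.toCoord a)
  obtain ⟨u, u1, u2⟩ := h.real M m1
  have m : u⁻¹ * q ∈ J := mem_J h fun y => by
    rw [Matrix.one_mulVec, show u⁻¹ * q * v y * (u⁻¹ * q)⁻¹ = u⁻¹ * (q * v y * q⁻¹) * u by group,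
      m2, ← u2]
    group
  refine ⟨u, ?_, u1, m⟩
  have e : q⁻¹ * (ι * q * ι⁻¹) = u⁻¹ * q := by
    rw [← sq_inv h m]
    conv_rhs => rw [← inv_J h m]
    nth_rewrite 1 [inv_J h m]
    rw [← mul_assoc ι, ← u1.inv_left.eq]
    group
  have := mul_mem hq (inv_mem (e ▸ mul_mem (inv_mem hq)
    (conj_mem_of_mem_normalizer (h.bas.nQ (iZ h)) hq)))
  simpa using this

set_option maxHeartbeats 600000 in
theorem nsing (hu : u ∈ Q) (c : Commute u ι) (au : Acts v u (sieg wz wa)) (hl : l ∈ Ce (v wz))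
    (e : l * u * l⁻¹ = v x) : x ≠ 0 ∧ x ⬝ᵥ x ≠ 0 := by
  have B := h.bas
  have C := h.toCoord
  have ab := B.ab81 h.JS h.Jc h.J81
  have LQ : ∀ g ∈ Ce (v wz), ∀ q ∈ Q, g * q * g⁻¹ ∈ Q := fun g a q b =>
    conj_mem_of_mem_normalizer (B.nQ (B.LN a)) b
  have uJ : u ∉ J := fun r => absurd (acts_uniq C au (acts_J C r)) (by decide)
  have xQ : v x ∈ Q := e ▸ LQ l hl u hu
  have xZ : v x ∉ zpowers (v wz) := fun r => uJ (by
    rw [mul_inv_eq_iff_eq_mul, ← B.comm_Z hl r, mul_right_inj] at e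
    exact e ▸ v_mem C x)
  refine ⟨fun r => xZ (by rw [r, v_zero C]; exact one_mem _), fun x0 => ?_⟩
  have uZ : u ∉ zpowers (v wz) := fun r => uJ (B.Z_le_J h.JS h.Jc h.J81 r)
  have f1 : ∀ k ∈ Nz (v wz), ∀ g q, ⁅g, q⁆ ∈ zpowers (v wz) →
      ⁅k * g * k⁻¹, k * q * k⁻¹⁆ ∈ zpowers (v wz) := fun k a g q b => by
    rw [← conjugate_commutatorElement]; exact conj_mem_of_mem_normalizer a b
  have f4 : ∀ g ∈ S, g ∉ Q → ∀ q ∈ Q, (⁅g, q⁆ ∈ zpowers (v wz) ↔ q ∈ J) := fun g a b q c => by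
    have : q ∈ J ⊓ Q ↔ _ := ab.2.2.1 g a b ▸ B.mem_Fx
    exact ⟨fun r => (this.2 ⟨c, r⟩).1, fun r => (this.1 ⟨r, c⟩).2⟩
  have f2 : ∀ g ∈ S, ∀ a ∈ J ⊓ Q, ⁅g, a⁆ ∈ zpowers (v wz) := fun g a q b => by
    by_cases r : g ∈ Q
    exacts [B.cm g r q b.2, (f4 g a r q b.2).2 b.1]
  have f3 : ∀ a ∈ J ⊓ Q, a ∉ zpowers (v wz) → ∀ g ∈ Ce (v wz), ⁅g, a⁆ ∈ zpowers (v wz) → g ∈ S :=
    fun a a1 a2 g b c => B.St_le a1.2 a2 (h.JS h.dJ) h.dQ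
      ⟨B.LN (B.SL (h.JS h.dJ)), f2 _ (h.JS h.dJ) a a1⟩ ▸ ⟨b, B.LN b, c⟩
  have dL := B.SL (h.JS h.dJ)
  have nL := (h.Lle h.nL).1
  obtain ⟨d', hd⟩ : ∃ d', d' = l⁻¹ * v wd * l := ⟨_, rfl⟩
  have ed : l * d' * l⁻¹ = v wd := by rw [hd]; group
  have d1 : d' ∈ Ce (v wz) := hd ▸ mul_mem (mul_mem (inv_mem hl) dL) hl
  have d2 : d' ∉ Q := fun r => h.dQ (ed ▸ LQ l hl _ r)
  have d3 : ⁅d', u⁆ = 1 := by
    rw [← conj_eq_one_iff (a := l), conjugate_commutatorElement, ed, e,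
      commutatorElement_eq_one_iff_mul_comm, v_comm C]
  have d4 : d' ∉ S := fun r => uJ ((f4 d' r d2 u hu).1 (d3 ▸ one_mem _))
  let A := cj l⁻¹ (J ⊓ Q)
  have mA : ∀ q, q ∈ A ↔ l * q * l⁻¹ ∈ J ⊓ Q := fun q => by rw [mem_cj, inv_inv]
  have AQ : A ≤ Q := fun q r => by simpa [mul_assoc] using LQ _ (inv_mem hl) _ ((mA q).1 r).2
  have g1 : ∀ g ∈ Ce (v wz), ⁅g, u⁆ ∈ zpowers (v wz) → ∀ q ∈ A, ⁅g, q⁆ ∈ zpowers (v wz) :=
    fun g a b q c => by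
      simpa [mul_assoc] using f1 _ (B.LN (inv_mem hl)) _ _ (f2 _ (f3 _ ⟨v_mem C x, xQ⟩ xZ _
        (mul_mem (mul_mem hl a) (inv_mem hl)) (e ▸ f1 l (B.LN hl) _ _ b)) _ ((mA q).1 c))
  have g2 : ∀ q ∈ Q, ⁅d', q⁆ ∈ zpowers (v wz) → q ∈ A := fun q a b =>
    (mA q).2 ⟨(h.fx _ (LQ l hl q a)).1 (ed ▸ f1 l (B.LN hl) _ _ b), LQ l hl q a⟩
  have g0 := g1 d' d1 (d3 ▸ one_mem _)
  have g3 : ∀ q ∈ A, ι * q * ι⁻¹ ∈ A := fun q a => by
    refine g2 _ (conj_mem_of_mem_normalizer (B.nQ (iZ h)) (AQ a)) ?_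
    have := f1 ι (iZ h) _ _ (g1 (ι⁻¹ * d' * ι) (conj_mem_of_mem_normalizer' (B.nL (iZ h)) d1) (by
      have := f1 ι⁻¹ (inv_mem (iZ h)) d' u (d3 ▸ one_mem _)
      rwa [inv_inv, mul_assoc _ u, c.eq, inv_mul_cancel_left] at this) q a)
    simpa [mul_assoc] using this
  have ZA : zpowers (v wz) ≤ A := fun y hy => g2 y (B.ZQ hy) (by
    rw [commutatorElement_eq_one_iff_mul_comm.2 (B.comm_Z d1 hy)]; exact one_mem _)
  have g5 : ∀ a ∈ A, ∃ t ∈ A ⊓ Ce ι, t⁻¹ * a ∈ zpowers (v wz) := fun a ha => by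
    obtain ⟨t, t1, t2, t3⟩ := lift h (AQ ha)
    have e : a⁻¹ * (ι * a * ι⁻¹) = t⁻¹ * a := by
      rw [← sq_inv h t3]
      conv_rhs => rw [← inv_J h t3]
      nth_rewrite 1 [inv_J h t3]
      rw [← mul_assoc ι, ← t2.inv_left.eq]
      group
    have m : t⁻¹ * a ∈ A := e ▸ mul_mem (inv_mem ha) (g3 a ha)
    refine ⟨t, ⟨by simpa using mul_mem ha (inv_mem m), mem_Ce.2 t2⟩, ?_⟩
    by_contra r
    exact d4 (f3 _ ⟨t3, AQ m⟩ r d' d1 (g0 _ m))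
  have k1 : Nat.card A ≤ Nat.card (A ⊓ Ce ι : Subgroup G) * Nat.card (zpowers (v wz)) := by
    rw [← Nat.card_prod]
    refine Nat.card_le_card_of_surjective (fun y => ⟨y.1 * y.2, mul_mem y.1.2.1 (ZA y.2.2)⟩)
      fun a => ?_
    obtain ⟨t, t1, t2⟩ := g5 a a.2
    exact ⟨(⟨t, t1⟩, ⟨_, t2⟩), Subtype.ext (mul_inv_cancel_left _ _)⟩
  have k2 := card_mul_le (A := Q ⊓ Ce ι) (B := J ⊓ Q) inf_le_left inf_le_right
  rw [B.cardQ, ab.1, show (J ⊓ Q) ⊓ (Q ⊓ Ce ι) = ⊥ from eq_bot_iff.2 fun y hy => by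
    have := sq_inv h hy.1.1
    rw [← inv_J h hy.1.1, ← mem_Ce.1 hy.2.2, mul_inv_cancel_right, mul_eq_left] at this
    exact this, card_bot] at k2
  rw [card_cj, ab.1, B.cardZ] at k1
  have k3 : A ⊓ Ce ι = Q ⊓ Ce ι := eq_of_le_of_card_ge (inf_le_inf_right _ AQ) (by omega)
  have k4 : ⁅n * d' * n⁻¹, u⁆ ∈ zpowers (v wz) := by
    have m : n⁻¹ * u * n⁻¹⁻¹ ∈ A ⊓ Ce ι := k3 ▸ ⟨LQ _ (inv_mem nL) u hu,
      mem_Ce.2 ((h.nI.inv_left.mul_left c).mul_left h.nI.inv_left.inv_left)⟩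
    simpa [mul_assoc] using f1 n (B.LN nL) _ _ (g0 _ m.1)
  have n4 : n * n * n = n⁻¹ := by rw [eq_inv_iff_mul_eq_one, ← h.ss]; simp only [mul_assoc]
  let D : Ce (v wz) := ⟨v wd, dL⟩
  let D' : Ce (v wz) := ⟨d', d1⟩
  let N : Ce (v wz) := ⟨n, nL⟩
  have s1 : (D' : G) ∈ St (zpowers (v wz)) u := ⟨B.LN d1, (d3 ▸ one_mem _ : ⁅d', u⁆ ∈ _)⟩
  have s2 : ((N * D' * (N * N * N) : Ce (v wz)) : G) ∈ St (zpowers (v wz)) u :=
    ⟨B.LN (N * D' * (N * N * N)).2, by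
      change ⁅n * d' * (n * n * n), u⁆ ∈ _
      rwa [n4]⟩
  have dS : ∀ y : Ce (v wz), (y : G) ∈ S → π D' ≠ π y := fun y a b => d4 (by
    have := mul_mem a (B.QS ((B.ker (y⁻¹ * D')).1 (by rw [map_mul, map_inv, b, inv_mul_cancel])))
    simpa [D'] using this)
  have := sl5 (π D) (B.π_cube (h.JS h.dJ)) (fun r => h.dQ ((B.ker D).1 r)) (π N) (by
      simp only [← map_mul]
      refine congrArg π (Subtype.ext ?_)
      change n * v wd = v wd * v wd * n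
      rw [← mul_inv_eq_iff_eq_mul, h.nd, inv_eq_iff_mul_eq_one, ← pow_three, h.J3 _ h.dJ])
    (π D') (B.cube hu uZ s1) (fun r => d2 ((B.ker D').1 r))
    (by simpa only [map_mul] using B.cube (l := D' * (N * D' * (N * N * N))) hu uZ (mul_mem s1 s2))
    (by simpa only [map_mul] using (B.cube (l := D' * D' * (N * D' * (N * N * N))) hu uZ
      (mul_mem (mul_mem s1 s1) s2)))
  obtain ⟨w1, w2⟩ := (this.resolve_left (dS D (h.JS h.dJ))).resolve_left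
    (map_mul π D D ▸ dS (D * D) (mul_mem (h.JS h.dJ) (h.JS h.dJ))) (π (D * D' * (D * D')))
    (by simp only [map_mul])
  let U := closure ({v wz, u, v wa} : Set G)
  have m1 : v wz ∈ U := subset_closure (by simp)
  have m2 : u ∈ U := subset_closure (by simp)
  have m3 : v wa ∈ U := subset_closure (by simp)
  have aQ : v wa ∈ Q := (h.vQ _).2 (by decide)
  have ua : u * v wa = v wa * u := by
    rw [← mul_inv_eq_iff_eq_mul, au]; exact congrArg v (by decide)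
  have nU : ∀ g ∈ Ce (v wz), g * u * g⁻¹ ∈ U → g * v wa * g⁻¹ ∈ U → g ∈ nr U := fun g a b c =>
    nr_cl (by
      rintro _ (rfl | rfl | rfl)
      exacts [(mem_Ce'.1 a).symm ▸ m1, b, c])
  have n1 : v wd ∈ nr U := nU _ dL (by
    have : u * v wd * u⁻¹ = v wa * v wd := by rw [au, ← C.add]; exact congrArg v (by decide)
    rw [show v wd * u * (v wd)⁻¹ = v wd * (u * v wd * u⁻¹)⁻¹ * u by group, this, v_comm C wa]
    rw [mul_inv_rev, ← v_neg C wa, ← mul_assoc, v_comm C wd, mul_inv_cancel_right, v_neg C]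
    exact mul_mem (inv_mem m3) m2) (by rw [v_comm C, mul_inv_cancel_right]; exact m3)
  have n2 : d' ∈ nr U := nU _ d1 (by
    rw [commutatorElement_eq_one_iff_mul_comm.1 d3, mul_inv_cancel_right]; exact m2) (by
    obtain ⟨b, b1, b2⟩ := h.qact _ (inv_mem (LQ l hl _ aQ))
    obtain ⟨α, β, r⟩ := perp x ((h.vQ x).1 xQ) x0 (fun a r => xZ ((mem_zp_v C).2 ⟨a, congrArg v r⟩))
      b b1 (C.inj (by
        rw [← b2, ← e, show (l * v wa * l⁻¹)⁻¹ * (l * u * l⁻¹) * (l * v wa * l⁻¹)⁻¹⁻¹ =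
          l * ((v wa)⁻¹ * (u * v wa)) * l⁻¹ by group, ua, inv_mul_cancel_left]))
    have r' := congrArg v r
    rw [v_sub C, C.add, v_smul C, v_smul C, ← b2, ← e, ← mem_Ce'.1 hl, conj_pow, conj_pow] at r'
    have : d' * v wa * d'⁻¹ = v wa * (u ^ α.val * v wz ^ β.val) := by
      rw [hd]
      calc _ = v wa * (l⁻¹ * ((l * v wa * l⁻¹)⁻¹ * v wd * (l * v wa * l⁻¹)⁻¹⁻¹ * (v wd)⁻¹) * l) := by
            group
        _ = _ := by rw [r']; group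
    rw [this]
    exact mul_mem m3 (mul_mem (pow_mem m2 _) (pow_mem m1 _)))
  have w5 : ((v wd * d' * (v wd * d')) ^ 3) ^ 5 = 1 := by
    rw [← pow_mul _ 3, mul_comm 3, pow_mul]
    exact B.cube_of (l := D * D' * (D * D')) w1
  have wL : (v wd * d' * (v wd * d')) ^ 3 ∈ Ce (v wz) := pow_mem (D * D' * (D * D')).2 3
  have UQ : U ≤ Q := (closure_le _).2 (by simp [Set.insert_subset_iff, B.zQ, hu, aQ])
  have ZU : zpowers (v wz) ≤ U := zpowers_le_of_mem m1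
  have k5 := B.modEq w5 (pow_mem (mul_mem (mul_mem n1 n2) (mul_mem n1 n2)) 3)
  rw [le_antisymm ((inf_le_inf_right _ UQ).trans (B.five wL w5 fun r => w2 (by
    rw [← map_mul, ← map_mul, ← map_one π]
    exact congrArg π (Subtype.ext ((pow_three' _).symm.trans r)))))
    (le_inf ZU ((B.Z_le wL).trans inf_le_right)), B.cardZ] at k5
  obtain ⟨q, q1, q2⟩ := h.qreal ve4 (by decide)
  have : U ≤ Ce (v wa) := (closure_le _).2 (by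
    simp [Set.insert_subset_iff, mem_Ce, v_comm C wz, ua])
  obtain ⟨a, r⟩ := (mem_zp_v C).1 (B.inf_Ce_eq ZU UQ k5 (fun r =>
    absurd ((acts_mem_Ce C q2).1 (this (r q1))) (by decide)) m3)
  exact absurd (C.inj r) ((by decide : ∀ a : ZMod 3, a • wz ≠ wa) a)

end H74.Y1

namespace H74.Y1
universe u

theorem jobY1 : JobY1.{u} := by
  intro G _ _ v S J Q L n π ι h hy
  have C := h.toCoord
  obtain ⟨q, q1, q2⟩ := h.qreal wa (by decide)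
  obtain ⟨u, u1, u2, u3⟩ := lift h q1
  have au : Acts v u (sieg wz wa) := by
    simpa using acts_mul q2 (acts_J C (inv_mem u3))
  obtain ⟨l, l1, l2⟩ := h.bas.qconj h.JS h.Jc h.J81 u1
  obtain ⟨x, e⟩ := (h.mem _).1 l2
  obtain ⟨g, -, g1⟩ := h.orb1 x (nsing h u1 u2 au l1 e.symm).2
  obtain ⟨r1, r2, r3, r4, r5, r6, r7⟩ := rel
  obtain ⟨i, i1, i2⟩ := h.real mI ⟨by rw [detI.1, one_smul, r1], by rw [detI.1]; decide⟩
  obtain ⟨j, j1, j2⟩ := h.real mJ ⟨by rw [detI.2, one_smul, r2], by rw [detI.2]; decide⟩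
  have ii : i * i = ι := h.uniq _ _ _ (i1.mul_left i1) (Commute.refl ι) (r3 ▸ acts_mul i2 i2) h.aI
  have jj : j * j = ι := h.uniq _ _ _ (j1.mul_left j1) (Commute.refl ι) (r4 ▸ acts_mul j2 j2) h.aI
  have ji : j * i * j = i := h.uniq _ _ _ ((j1.mul_left i1).mul_left j1) i1
    (r5 ▸ acts_mul (acts_mul j2 i2) j2) i2
  obtain ⟨k, hk⟩ : ∃ k, k * u * k⁻¹ = v ve1 := ⟨g⁻¹ * l, by
    rw [show g⁻¹ * l * u * (g⁻¹ * l)⁻¹ = g⁻¹ * (l * u * l⁻¹) * g by group, ← e, ← g1]; group⟩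
  have key : ∀ a M, Commute a ι → Acts v a M → M * sieg wz wa = sieg wz wa * M →
      ∃ M', Acts v (k * a * k⁻¹) M' ∧ ∃ a ∈ l6, ∃ b ∈ l6, ∃ c ∈ l6,
        a ⬝ᵥ b = 0 ∧ a ⬝ᵥ c = 0 ∧ b ⬝ᵥ c = 0 ∧ M' = mc a b c := fun a M a1 a2 a3 => by
    have m : k * a * k⁻¹ ∈ H56.L3.Ce (v ve1) := hk ▸ conj_mem_Ce (mem_Ce.2 (h.uniq _ _ _
      (a1.mul_left u2) (u2.mul_left a1) (acts_mul a2 au) (a3 ▸ acts_mul au a2))) k
    obtain ⟨M', m1, m2⟩ := h.act _ (hy m)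
    exact ⟨M', m2, mat m1 ((acts_mem_Ce C m2).1 m)⟩
  obtain ⟨M, m1, a, a1, b, b1, c, c1, x1, x2, x3, rfl⟩ := key i _ i1 i2 r6
  obtain ⟨M', m2, a', a2, b', b2, c', c2, y1, y2, y3, rfl⟩ := key j _ j1 j2 r7
  have e1 : k * i * k⁻¹ * (k * i * k⁻¹) = k * ι * k⁻¹ := by rw [← ii]; group
  have e2 : k * j * k⁻¹ * (k * j * k⁻¹) = k * ι * k⁻¹ := by rw [← jj]; group
  have e3 : k * j * k⁻¹ * (k * i * k⁻¹) * (k * j * k⁻¹) = k * i * k⁻¹ := by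
    conv_rhs => rw [← ji]
    group
  refine noQ8 a a1 b b1 x1 c c1 x2 x3 (fun r => ?_) a' a2 b' b2 y1 c' c2 y2 y3
    (acts_uniq C (e2 ▸ acts_mul m2 m2) (e1 ▸ acts_mul m1 m1))
    (acts_uniq C (e3 ▸ acts_mul (acts_mul m2 m1) m2) m1)
  have := sq_inv h (mem_J h (e1 ▸ r ▸ acts_mul m1 m1))
  rw [← mul_inv_rev, conj_mul, h.ii, mul_one, mul_inv_cancel, inv_one, eq_comm, conj_eq_one_iff] at this
  exact absurd (acts_uniq C h.aI (this ▸ acts_one)) (by decide)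

end H74.Y1
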