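import Cfsg.Agent.H71.Glue
set_option maxRecDepth 1000000
set_option Elab.async false
namespace H74.J1L0
open H71
noncomputable def na_0 : ℕ := 0xbfae9882
noncomputable def na_1 : ℕ := 0xc36400006776
noncomputable def na_2 : ℕ := 0x20003800d800d4
noncomputable def na_3 : ℕ := 0xc04060a020c000c
noncomputable def na_4 : ℕ := 0x20000000222
noncomputable def na_5 : ℕ := 0x5005515410000441
noncomputable def na_6 : ℕ := 0x2001022101211201
noncomputable def na_7 : ℕ := 0xb0306050e0a0901
noncomputable def na_8 : ℕ := 0xdf001800b5008d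
noncomputable def na_9 : ℕ := 0xc36400006fdc
noncomputable def na_10 : ℕ := 0xbfceb881
noncomputable def na : Net := .cons 32 na_0 <| .cons 16 na_1 <| .cons 8 na_2 <| .cons 4 na_3 <| .cons 2 na_4 <| .cons 1 na_5 <| .cons 2 na_6 <| .cons 4 na_7 <| .cons 8 na_8 <| .cons 16 na_9 <| .cons 32 na_10 <| .nil
theorem vna : Net.valid 64 na = true := by decide +kernel
noncomputable def nb_0 : ℕ := 0x76ebac20
noncomputable def nb_1 : ℕ := 0x97d600004b5a
noncomputable def nb_2 : ℕ := 0x12009800be00c8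
noncomputable def nb_3 : ℕ := 0xc040c08020200
noncomputable def nb_4 : ℕ := 0x220200220200000
noncomputable def nb_5 : ℕ := 0x4441150411400100
noncomputable def nb_6 : ℕ := 0x3200102202212201
noncomputable def nb_7 : ℕ := 0xd010609070a0c0a
noncomputable def nb_8 : ℕ := 0x6a009d00be0058
noncomputable def nb_9 : ℕ := 0x800100004b5a
noncomputable def nb_10 : ℕ := 0x7feb0ca0
noncomputable def nb : Net := .cons 32 nb_0 <| .cons 16 nb_1 <| .cons 8 nb_2 <| .cons 4 nb_3 <| .cons 2 nb_4 <| .cons 1 nb_5 <| .cons 2 nb_6 <| .cons 4 nb_7 <| .cons 8 nb_8 <| .cons 16 nb_9 <| .cons 32 nb_10 <| .nil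
theorem vnb : Net.valid 64 nb = true := by decide +kernel
noncomputable def nc_0 : ℕ := 0x532491c4
noncomputable def nc_1 : ℕ := 0xb9fc00000ae2
noncomputable def nc_2 : ℕ := 0xd000c2003600b2
noncomputable def nc_3 : ℕ := 0xc04000e0000080c
noncomputable def nc_4 : ℕ := 0x200000020002200
noncomputable def nc_5 : ℕ := 0x140010110014155
noncomputable def nc_6 : ℕ := 0x2312103021201112
noncomputable def nc_7 : ℕ := 0xb030c0a02040703
noncomputable def nc_8 : ℕ := 0x2f0096003e00b2
noncomputable def nc_9 : ℕ := 0xfdfc00000ae2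
noncomputable def nc_10 : ℕ := 0x532491c4
noncomputable def nc : Net := .cons 32 nc_0 <| .cons 16 nc_1 <| .cons 8 nc_2 <| .cons 4 nc_3 <| .cons 2 nc_4 <| .cons 1 nc_5 <| .cons 2 nc_6 <| .cons 4 nc_7 <| .cons 8 nc_8 <| .cons 16 nc_9 <| .cons 32 nc_10 <| .nil
theorem vnc : Net.valid 64 nc = true := by decide +kernel
noncomputable def gensN : List Net := []
noncomputable def invsN : List Net := [na, nb, nc, Net.nil, Net.nil]
noncomputable def A : ℕ → ℕ → ℕ := mkA gensN invsN
noncomputable def π : ℕ → Equiv.Perm ℕ := mkPi gensN invsN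
theorem vG : ∀ r ∈ ([] : List Net), Net.valid 64 r = true := by simp
theorem vI : ∀ r ∈ ([na, nb, nc, Net.nil, Net.nil] : List Net), Net.valid 64 r = true := by
  intro r hr
  simp only [List.mem_cons, List.not_mem_nil, or_false] at hr
  rcases hr with rfl | rfl | rfl | rfl | rfl
  · exact vna
  · exact vnb
  · exact vnc
  · rfl
  · rfl
theorem env : Env 64 π A := env_mk vG vI
theorem hN : 64 ≤ 2 ^ 6 := by norm_num
theorem pinv : ∀ l, π (linv 0 l) = (π l)⁻¹ := mkPi_inv' hN rfl vI (by decide +kernel)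
def R : List (List ℕ) := [[0,1,0,1,0,1],
  [0,2,0,2],
  [1,2,1,2,1,2,1,2,1,2],
  [0,1,2,0,1,2,0,1,2,0,1,2,0,1,2]]
def RH : List (List ℕ) := []
def HL : List ℕ := []
def S : List ℕ := [0,1,2]
theorem relP : ∀ r ∈ R, evw π r = 1 := env.eq_one_of_allId hN (by decide +kernel)
def seeds : List (List ℕ) := []
theorem seeds_mem {G : Type*} [Group G] {val : ℕ → G} {H : Subgroup G} (hv : ∀ l, val (linv 0 l) = (val l)⁻¹) (he : val 5 = 1)
    (hR : ∀ r ∈ R ++ RH, evw val r = 1) (hH : ∀ l ∈ HL, val l ∈ H) : ∀ w ∈ seeds, evw val w ∈ H := by simp [seeds]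
def spec : List ℕ := [8192,8194,2,16386,24576]
noncomputable def rules : List (List ℕ) := spec.map (mkRule 0 R)
noncomputable def hs : List (List ℕ) := HL.map (fun z => [z]) ++ seeds
noncomputable def D0 : ℕ := Nat.shiftLeft 1 0
noncomputable def K0 : List ℕ := List.replicate 5 0
def steps0_0 : List ℕ := [0,4,8,0,4,8,0,4,8,0,1,5,9,13,5,17,2,9]
theorem run0 : tcRun A 0 0 rules hs (steps0_0) (finSt A S (ival 0 60)) D0 K0 = true := by decide +kernel
theorem done {G : Type*} [Group G] {val : ℕ → G} {H : Subgroup G} (hv : ∀ l, val (linv 0 l) = (val l)⁻¹) (he : val 5 = 1)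
    (hR : ∀ r ∈ R ++ RH, evw val r = 1) (hH : ∀ l ∈ HL, val l ∈ H) : TCDone val H π 0 S (ival 0 60) := by
  have T : TCHyp val H 64 π A 0 rules hs := tcHyp_mk env hv pinv (fun r hr => hR r (List.mem_append_left _ hr)) relP hH (seeds_mem hv he hR hH) spec
  have h0 : Inv val H π 0 D0 K0 := inv_init val H π 0 5
  exact tcRun_fin T h0 run0
end H74.J1L0
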