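import Cfsg.Agent.H71.Glue
set_option maxRecDepth 1000000
set_option Elab.async false
namespace H74.J1H3
open H71
noncomputable def nc_0 : ℕ := 0xbbe3182000000000
noncomputable def nc_1 : ℕ := 0xb610a56000000000afa00002
noncomputable def nc_2 : ℕ := 0x43800008940000037ba0000a802
noncomputable def nc_3 : ℕ := 0xca008c00c800ca0082008600800050
noncomputable def nc_4 : ℕ := 0xc0c080004000800020000000000020a
noncomputable def nc_5 : ℕ := 0x20020000002000000002020220000002
noncomputable def nc_6 : ℕ := 0x40014011054040511451014414041011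
noncomputable def nc_7 : ℕ := 0x100201021020000002020330110130
noncomputable def nc_8 : ℕ := 0x3060b0f0f0f030f0d06060d08030605
noncomputable def nc_9 : ℕ := 0x45000a00120086007f002d007c0015
noncomputable def nc_10 : ℕ := 0x19ec00000b7100001c630000ac01
noncomputable def nc_11 : ℕ := 0xe67028700000000ab42a001
noncomputable def nc_12 : ℕ := 0xbbe3182000000000
noncomputable def nc : Net := .cons 64 nc_0 <| .cons 32 nc_1 <| .cons 16 nc_2 <| .cons 8 nc_3 <| .cons 4 nc_4 <| .cons 2 nc_5 <| .cons 1 nc_6 <| .cons 2 nc_7 <| .cons 4 nc_8 <| .cons 8 nc_9 <| .cons 16 nc_10 <| .cons 32 nc_11 <| .cons 64 nc_12 <| .nil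
theorem vnc : Net.valid 128 nc = true := by decide +kernel
noncomputable def nd_0 : ℕ := 0xa6a0000000000000
noncomputable def nd_1 : ℕ := 0xf44bce100000000076ebac20
noncomputable def nd_2 : ℕ := 0xe87a00004680000097d600007d94
noncomputable def nd_3 : ℕ := 0x4002000f200240012009800800058
noncomputable def nd_4 : ℕ := 0x40c000a040e0800000c040c0a0c040c
noncomputable def nd_5 : ℕ := 0x200200000220200200200002
noncomputable def nd_6 : ℕ := 0x10044014154405104441150401100504
noncomputable def nd_7 : ℕ := 0x10021022310301203200102202100301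
noncomputable def nd_8 : ℕ := 0xa0b060407000b0f0d01060906030c03
noncomputable def nd_9 : ℕ := 0x6a00f7001d009d006a009d005c0040
noncomputable def nd_10 : ℕ := 0x7a7c00006fb00000800100002c2b
noncomputable def nd_11 : ℕ := 0x76fb443e000000007feb0ca0
noncomputable def nd_12 : ℕ := 0xa6a0000000000000
noncomputable def nd : Net := .cons 64 nd_0 <| .cons 32 nd_1 <| .cons 16 nd_2 <| .cons 8 nd_3 <| .cons 4 nd_4 <| .cons 2 nd_5 <| .cons 1 nd_6 <| .cons 2 nd_7 <| .cons 4 nd_8 <| .cons 8 nd_9 <| .cons 16 nd_10 <| .cons 32 nd_11 <| .cons 64 nd_12 <| .nil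
theorem vnd : Net.valid 128 nd = true := by decide +kernel
noncomputable def ne_0 : ℕ := 0xf9d4000000000000
noncomputable def ne_1 : ℕ := 0xf9f7892000000000432091c4
noncomputable def ne_2 : ℕ := 0xe1380000c4200000b9fc00000ae2
noncomputable def ne_3 : ℕ := 0x800800092006800d00002007200b2
noncomputable def ne_4 : ℕ := 0xa080a04000000000c0400080004080c
noncomputable def ne_5 : ℕ := 0x20000000000000200000220002200
noncomputable def ne_6 : ℕ := 0x40010501005555000140011110014155
noncomputable def ne_7 : ℕ := 0x12202223221002222312002020301112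
noncomputable def ne_8 : ℕ := 0x306040b050f0f050b03040706040703
noncomputable def ne_9 : ℕ := 0xf8003f0097006d002f0002007a00b2
noncomputable def ne_10 : ℕ := 0x90e500001b5f0000fdfc00000ae2
noncomputable def ne_11 : ℕ := 0xf9f7892000000000432091c4
noncomputable def ne_12 : ℕ := 0xf9d4000000000000
noncomputable def ne : Net := .cons 64 ne_0 <| .cons 32 ne_1 <| .cons 16 ne_2 <| .cons 8 ne_3 <| .cons 4 ne_4 <| .cons 2 ne_5 <| .cons 1 ne_6 <| .cons 2 ne_7 <| .cons 4 ne_8 <| .cons 8 ne_9 <| .cons 16 ne_10 <| .cons 32 ne_11 <| .cons 64 ne_12 <| .nil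
theorem vne : Net.valid 128 ne = true := by decide +kernel
noncomputable def gensN : List Net := []
noncomputable def invsN : List Net := [Net.nil, Net.nil, nc, nd, ne]
noncomputable def A : ℕ → ℕ → ℕ := mkA gensN invsN
noncomputable def π : ℕ → Equiv.Perm ℕ := mkPi gensN invsN
theorem vG : ∀ r ∈ ([] : List Net), Net.valid 128 r = true := by simp
theorem vI : ∀ r ∈ ([Net.nil, Net.nil, nc, nd, ne] : List Net), Net.valid 128 r = true := by
  intro r hr
  simp only [List.mem_cons, List.not_mem_nil, or_false] at hr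
  rcases hr with rfl | rfl | rfl | rfl | rfl
  · rfl
  · rfl
  · exact vnc
  · exact vnd
  · exact vne
theorem env : Env 128 π A := env_mk vG vI
theorem hN : 128 ≤ 2 ^ 7 := by norm_num
theorem pinv : ∀ l, π (linv 0 l) = (π l)⁻¹ := mkPi_inv' hN rfl vI (by decide +kernel)
def R : List (List ℕ) := [[2,3,2,3,2,3],
  [2,4,2,4],
  [3,4,3,4,3,4,3,4,3,4]]
def RH : List (List ℕ) := []
def HL : List ℕ := []
def S : List ℕ := [2,3,4]
theorem relP : ∀ r ∈ R, evw π r = 1 := env.eq_one_of_allId hN (by decide +kernel)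
def seeds : List (List ℕ) := []
theorem seeds_mem {G : Type*} [Group G] {val : ℕ → G} {H : Subgroup G} (hv : ∀ l, val (linv 0 l) = (val l)⁻¹) (he : val 5 = 1)
    (hR : ∀ r ∈ R ++ RH, evw val r = 1) (hH : ∀ l ∈ HL, val l ∈ H) : ∀ w ∈ seeds, evw val w ∈ H := by simp [seeds]
def spec : List ℕ := [8192,8194,2,16386,16384,0]
noncomputable def rules : List (List ℕ) := spec.map (mkRule 0 R)
noncomputable def hs : List (List ℕ) := HL.map (fun z => [z]) ++ seeds
noncomputable def D0 : ℕ := Nat.shiftLeft 1 0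
noncomputable def K0 : List ℕ := List.replicate 5 0
def steps0_0 : List ℕ := [8,12,16,8,12,16,8,12,16,8,12,16,8,12,16,1,5,9,13,5,17,21,1]
theorem run0 : tcRun A 0 0 rules hs (steps0_0) (finSt A S (ival 0 120)) D0 K0 = true := by decide +kernel
theorem done {G : Type*} [Group G] {val : ℕ → G} {H : Subgroup G} (hv : ∀ l, val (linv 0 l) = (val l)⁻¹) (he : val 5 = 1)
    (hR : ∀ r ∈ R ++ RH, evw val r = 1) (hH : ∀ l ∈ HL, val l ∈ H) : TCDone val H π 0 S (ival 0 120) := by
  have T : TCHyp val H 128 π A 0 rules hs := tcHyp_mk env hv pinv (fun r hr => hR r (List.mem_append_left _ hr)) relP hH (seeds_mem hv he hR hH) spec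
  have h0 : Inv val H π 0 D0 K0 := inv_init val H π 0 5
  exact tcRun_fin T h0 run0
end H74.J1H3
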