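import Cfsg.Agent.S3744
import Cfsg.Agent.S3905
import Cfsg.Agent.H18.PLength
import Cfsg.Agent.H18.PSolv
import Cfsg.Prelude.Def_CaseTheorems

/-! Reduction of S4533 to the k(GV) theorem. -/

set_option autoImplicit false

namespace H74.Kgv

open Cfsg Subgroup
open scoped commutatorElement

universe u

/-- The statement of the k(GV) theorem (S4954). -/
def KGV : Prop := ∀ {X : Type u} [Group X] [Finite X] (p : ℕ) [Fact p.Prime] (V : Subgroup X)
  [V.Normal], (∀ v ∈ V, v ^ p = 1) → ¬ p ∣ V.index → centralizer (V : Set X) = V →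
  Nat.card (ConjClasses X) ≤ Nat.card V

theorem lt_of_coprime (kgv : KGV.{u}) {X : Type u} [Group X] [Finite X] [Nontrivial X] (p : ℕ)
    [Fact p.Prime] (hc : centralizer (pCore p X : Set X) ≤ pCore p X) (hp : IsPGroup p (pCore p X))
    (r : ℕ) (hr : SectionalPRankLE p r ↥(pCore p X)) (T : Subgroup X)
    (hT : (Nat.card T).Coprime p) : Nat.card (ConjClasses T) < p ^ r := by
  have hQn : (pCore p X).Normal := Subgroup.sSup_normal _ (fun _ h => h.1)
  have hfr := fun g => H18.mem_pCore_of_frattini (g := g) hc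
  set Q := pCore p X with hQ
  let Φ : Subgroup X := (frattini Q).map Q.subtype
  have hΦ : Φ.Normal := ConjAct.normal_of_characteristic_of_normal
  have hΦQ : Φ ≤ Q := map_subtype_le _
  let π := QuotientGroup.mk' Φ
  have hπ : Function.Surjective π := QuotientGroup.mk'_surjective _
  have h1 : ∀ x, π x = 1 ↔ x ∈ Φ := fun x => QuotientGroup.eq_one_iff x
  have hQb : (Q.map π).Normal := hQn.map π hπ
  have memQ : ∀ x, π x ∈ Q.map π → x ∈ Q := by
    rintro x ⟨y, hy, e⟩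
    have := Q.mul_mem hy (hΦQ (QuotientGroup.eq.1 e))
    simpa using this
  have dis : ∀ t ∈ T, t ∈ Q → t = 1 := by
    intro t ht hq
    obtain ⟨k, hk⟩ := hp ⟨t, hq⟩
    have a1 : orderOf t ∣ p ^ k := orderOf_dvd_of_pow_eq_one (congrArg Subtype.val hk)
    exact orderOf_eq_one_iff.1 (Nat.eq_one_of_dvd_coprimes (hT.pow_right k)
      (Subgroup.orderOf_dvd_natCard _ ht) a1)
  have cm : ∀ a ∈ Q.map π, ∀ b ∈ Q.map π, a * b = b * a := by
    rintro _ ⟨a, ha, rfl⟩ _ ⟨b, hb, rfl⟩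
    rw [← commutatorElement_eq_one_iff_mul_comm, ← map_commutatorElement, h1]
    exact (Cfsg.Agent.S3905.frat hp ha hb).1
  have ex : ∀ a ∈ Q.map π, a ^ p = 1 := by
    rintro _ ⟨a, ha, rfl⟩
    rw [← map_pow, h1]
    exact (Cfsg.Agent.S3905.frat hp ha ha).2
  let Y : Subgroup (X ⧸ Φ) := Q.map π ⊔ T.map π
  let V : Subgroup Y := (Q.map π).subgroupOf Y
  have hV : Nat.card V = Nat.card (Q.map π) :=
    Nat.card_congr (subgroupOfEquivOfLe (le_sup_left : Q.map π ≤ Y)).toEquiv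
  have k1 : Nat.card (ConjClasses Y) ≤ Nat.card V := by
    refine kgv p V (fun v hv => Subtype.ext (ex _ hv)) (fun hd => ?_) (le_antisymm ?_ ?_)
    · have e : V.index = (Q.map π).relIndex (T.map π) := relIndex_sup_left _ _
      have : p ∣ Nat.card T := (e ▸ hd).trans ((relIndex_dvd_card _ _).trans (card_map_dvd _ _))
      exact (Fact.out : p.Prime).one_lt.ne' (Nat.eq_one_of_dvd_coprimes hT this dvd_rfl)
    · rintro ⟨y, hy⟩ hcen
      obtain ⟨g, rfl⟩ := hπ y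
      refine ⟨g, hfr g fun x hx => (h1 _).1 ?_, rfl⟩
      have := congrArg Subtype.val (mem_centralizer_iff.1 hcen ⟨π x, mem_sup_left ⟨x, hx, rfl⟩⟩
        ⟨x, hx, rfl⟩)
      simp only [coe_mul] at this
      rw [map_mul, map_mul, map_mul, ← this, map_inv, map_inv]
      group
    · exact fun a ha => mem_centralizer_iff.2 fun b hb => Subtype.ext (cm _ hb _ ha)
  have k2 : Nat.card (Q.map π) ≤ p ^ r := by
    let f : (⊤ : Subgroup Q) →* X ⧸ Φ := π.comp (Q.subtype.comp (⊤ : Subgroup Q).subtype)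
    let e := QuotientGroup.quotientKerEquivRange f
    have hf : f.range = Q.map π := by
      ext x
      constructor
      · rintro ⟨y, rfl⟩
        exact ⟨y.1.1, y.1.2, rfl⟩
      · rintro ⟨y, hy, rfl⟩
        exact ⟨⟨⟨y, hy⟩, trivial⟩, rfl⟩
    have := hr ⊤ f.ker ⊤ ⟨⟨fun a b => Subtype.ext (e.injective (by
      simp only [coe_mul, map_mul]
      exact Subtype.ext (cm _ (hf ▸ (e a).2) _ (hf ▸ (e b).2))))⟩⟩
      (fun a _ => e.injective (by
        rw [map_pow, map_one]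
        exact Subtype.ext (ex _ (hf ▸ (e a).2))))
    rwa [card_top, Nat.card_congr e.toEquiv, hf] at this
  let φ : T →* Y := (π.comp T.subtype).codRestrict Y fun t => mem_sup_right ⟨t, t.2, rfl⟩
  have inj : Function.Injective (ConjClasses.map φ) := by
    intro A B h
    obtain ⟨a, rfl⟩ := ConjClasses.mk_surjective A
    obtain ⟨b, rfl⟩ := ConjClasses.mk_surjective B
    obtain ⟨⟨c, hc'⟩, e⟩ := isConj_iff.1 (ConjClasses.mk_eq_mk_iff_isConj.1 h)
    obtain ⟨q, hq, _, ⟨s, hs, rfl⟩, rfl⟩ := mem_sup_of_normal_left.1 hc'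
    have e1 : q * π s * π a * (q * π s)⁻¹ = π b := congrArg Subtype.val e
    refine ConjClasses.mk_eq_mk_iff_isConj.2 (isConj_iff.2 ⟨⟨s, hs⟩, Subtype.ext ?_⟩)
    have m : π (s * a * s⁻¹ * (b : X)⁻¹) ∈ Q.map π := by
      have : π (s * a * s⁻¹ * (b : X)⁻¹) = q⁻¹ * (π b * q * (π b)⁻¹) := by
        simp only [map_mul, map_inv]
        calc π s * π a * (π s)⁻¹ * (π b)⁻¹ = q⁻¹ * (q * π s * π a * (q * π s)⁻¹) * q * (π b)⁻¹ := by
              group
          _ = q⁻¹ * (π b * q * (π b)⁻¹) := by rw [e1]; group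
      rw [this]
      exact mul_mem (inv_mem hq) (hQb.conj_mem _ hq _)
    have := dis _ (mul_mem (mul_mem (mul_mem hs a.2) (inv_mem hs)) (inv_mem b.2)) (memQ _ m)
    exact mul_inv_eq_one.1 this
  have hne : ∃ v ∈ Q, v ∉ Φ := by
    by_contra hn
    push Not at hn
    have t1 : frattini Q = ⊤ := top_le_iff.1 fun x _ => by
      obtain ⟨y, hy, e⟩ := hn x x.2
      exact (Subtype.ext e : y = x) ▸ hy
    have t2 : (⊥ : Subgroup Q) = ⊤ := frattini_nongenerating (by rw [t1, sup_top_eq])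
    obtain ⟨x, hx⟩ := exists_ne (1 : X)
    have all : ∀ y ∈ Q, y = 1 := fun y hy =>
      congrArg Subtype.val (show (⟨y, hy⟩ : Q) = 1 from mem_bot.1 (by rw [t2]; trivial))
    exact hx (all x (hc (mem_centralizer_iff.2 fun y hy => by rw [all y hy, one_mul, mul_one])))
  have nsur : ¬ Function.Surjective (ConjClasses.map φ) := by
    intro hs
    obtain ⟨v, hv, hv'⟩ := hne
    obtain ⟨A, hA⟩ := hs (ConjClasses.mk ⟨π v, mem_sup_left ⟨v, hv, rfl⟩⟩)
    obtain ⟨a, rfl⟩ := ConjClasses.mk_surjective A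
    obtain ⟨⟨c, hc'⟩, e⟩ := isConj_iff.1 (ConjClasses.mk_eq_mk_iff_isConj.1 hA)
    have e1 : c * π a * c⁻¹ = π v := congrArg Subtype.val e
    have m : π a ∈ Q.map π := by
      have : π a = c⁻¹ * π v * c⁻¹⁻¹ := by rw [← e1]; group
      rw [this]
      exact hQb.conj_mem _ ⟨v, hv, rfl⟩ _
    rw [dis _ a.2 (memQ _ m), map_one, mul_one, mul_inv_cancel] at e1
    exact hv' ((h1 v).1 e1.symm)
  have k3 : Nat.card (ConjClasses T) < Nat.card (ConjClasses Y) := by
    refine lt_of_le_of_ne (Nat.card_le_card_of_injective _ inj) fun e => nsur ?_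
    exact ((Nat.bijective_iff_injective_and_card _).2 ⟨inj, e⟩).2
  exact k3.trans_le (k1.trans (hV ▸ k2))

theorem s4533 (kgv : KGV.{u}) {X : Type u} [Group X] [Finite X] [Nontrivial X] (p : ℕ) [Fact p.Prime]
    (hsolv : Cfsg.IsPSolvable p X) (hcore : Cfsg.pPrimeCore p X = ⊥) (r : ℕ)
    (hr : Cfsg.SectionalPRankLE p r ↥(Cfsg.pCore p X)) :
    (∀ T : Subgroup X, (Nat.card T).Coprime p → (∃ m : ℕ, T.index = p ^ m) →
      Nat.card (ConjClasses T) < p ^ r) ∧
    Nat.card {C : ConjClasses X // ∃ g : X, ConjClasses.mk g = C ∧ ¬ p ∣ orderOf g} < p ^ r := by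
  have key := lt_of_coprime kgv p (H18.centralizer_pCore_le hsolv hcore) (H18.isPGroup_pCore p) r hr
  refine ⟨fun T hT _ => key T hT, ?_⟩
  obtain ⟨⟨T, hT, hi⟩, h2, h3⟩ := Cfsg.Agent.S3744.result hsolv
  refine lt_of_le_of_lt ?_ (key T hT)
  have hp := (Fact.out : p.Prime)
  let F : ConjClasses T → {C : ConjClasses X // ∃ g : X, ConjClasses.mk g = C ∧ ¬ p ∣ orderOf g} :=
    fun C => ⟨ConjClasses.map T.subtype C, by
      obtain ⟨t, rfl⟩ := ConjClasses.mk_surjective C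
      exact ⟨t, rfl, fun hd => hp.one_lt.ne' (Nat.eq_one_of_dvd_coprimes hT
        (hd.trans (Subgroup.orderOf_dvd_natCard _ t.2)) dvd_rfl)⟩⟩
  refine Nat.card_le_card_of_surjective F ?_
  rintro ⟨_, g, rfl, hg⟩
  obtain ⟨H, hH, hHi, a, ha⟩ := h3 (zpowers g) (by
    rw [Nat.card_zpowers]; exact ((Nat.Prime.coprime_iff_not_dvd hp).2 hg).symm)
  obtain ⟨b, rfl⟩ := h2 T H hT hi hH hHi
  obtain ⟨t, ht, e⟩ := ha ⟨g, mem_zpowers g, rfl⟩
  refine ⟨ConjClasses.mk ⟨t, ht⟩, Subtype.ext (ConjClasses.mk_eq_mk_iff_isConj.2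
    (isConj_iff.2 ⟨a⁻¹ * b, ?_⟩))⟩
  have e1 : b * t * b⁻¹ = a * g * a⁻¹ := e
  change a⁻¹ * b * t * (a⁻¹ * b)⁻¹ = g
  calc a⁻¹ * b * t * (a⁻¹ * b)⁻¹ = a⁻¹ * (b * t * b⁻¹) * a := by group
    _ = g := by rw [e1]; group

end H74.Kgv
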