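import Cfsg.Agent.H74.O11Kit
import Cfsg.Agent.S0205
import Cfsg.Agent.S0043

/-! O11 tower: slot B1. -/

set_option autoImplicit false

namespace H74.O11

open Subgroup MulAction
open scoped IsMulCommutative

universe u

theorem exists_min_normal (Q : Type u) [Group Q] [Finite Q] [Nontrivial Q] (hodd : Odd (Nat.card Q)) :
    ∃ N : Subgroup Q, N.Normal ∧ N ≠ ⊥ ∧ IsMulCommutative N ∧ ∃ q : ℕ, q.Prime ∧ ∀ x ∈ N, x ^ q = 1 := by
  haveI := Cfsg.Agent.S0205.result hodd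
  obtain ⟨N, ⟨hN, hb⟩, hmin⟩ := (wellFounded_lt (α := Subgroup Q)).has_min
    {N | N.Normal ∧ N ≠ ⊥} ⟨⊤, inferInstance, top_ne_bot⟩
  refine ⟨N, hN, hb, Cfsg.Agent.S0043.result N hb fun M hM hle => ?_⟩
  by_cases h : M = ⊥
  · exact Or.inl h
  · exact Or.inr (eq_of_le_of_not_lt hle (hmin M ⟨hM, h⟩))

/-- the norm identity of a Frobenius group `R : <c>` acting on an abelian group -/
theorem norm_id {F V : Type u} [Group F] [Finite F] [CommGroup V] (ρ : F →* MulAut V)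
    (R : Subgroup F) (c : F) (hcR : ∀ r ∈ R, c * r * c⁻¹ ∈ R)
    (hfpf : ∀ i, 0 < i → i < 11 → ∀ r ∈ R, c ^ i * r = r * c ^ i → r = 1)
    (hR : ∀ v, (∀ r ∈ R, ρ r v = v) → v = 1)
    (hall : ∀ v, ∏ i ∈ Finset.range 11, ρ (c ^ i) v = 1) (v : V) : v ^ Nat.card R = 1 := by
  classical
  haveI := Fintype.ofFinite R
  have hN : ∀ w, ∏ g : R, ρ g w = 1 := fun w => hR _ fun r hr => by
    rw [map_prod]
    exact Fintype.prod_equiv (Equiv.mulLeft (⟨r, hr⟩ : R)) _ _ fun g => by simp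
  have hci : ∀ i, ∀ r ∈ R, c ^ i * r * (c ^ i)⁻¹ ∈ R := fun i => by
    induction i with
    | zero => simp
    | succ i ih => intro r hr; simpa [pow_succ, mul_assoc] using ih _ (hcR r hr)
  have h1 : ∀ i, 0 < i → i < 11 → ∏ g : R, ρ (g * c ^ i * (g : F)⁻¹) v = 1 := by
    intro i h0 h11
    let φ : R → R := fun g => ⟨g * (c ^ i * (g : F)⁻¹ * (c ^ i)⁻¹), mul_mem g.2 (hci i _ (inv_mem g.2))⟩
    have hφ : Function.Injective φ := fun g g' e => by
      have e' : (g : F) * (c ^ i * (g : F)⁻¹ * (c ^ i)⁻¹) = g' * (c ^ i * (g' : F)⁻¹ * (c ^ i)⁻¹) :=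
        congrArg Subtype.val e
      have := hfpf i h0 h11 ((g' : F)⁻¹ * g) (mul_mem (inv_mem g'.2) g.2) (by
        calc c ^ i * ((g' : F)⁻¹ * g)
            = (g' : F)⁻¹ * (g' * (c ^ i * (g' : F)⁻¹ * (c ^ i)⁻¹)) * c ^ i * g := by group
          _ = _ := by rw [← e']; group)
      exact Subtype.ext (inv_mul_eq_one.1 this).symm
    rw [← hN (ρ (c ^ i) v)]
    refine Fintype.prod_equiv (Equiv.ofBijective φ hφ.bijective_of_finite) _ _ fun g => ?_
    rw [← MulAut.mul_apply, ← map_mul]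
    congr 2
    simp [φ, mul_assoc]
  have h2 : ∏ g : R, ∏ i ∈ Finset.range 11, ρ (g * c ^ i * (g : F)⁻¹) v = 1 :=
    Finset.prod_eq_one fun g _ => by
      have := congrArg (ρ g) (hall (ρ (g : F)⁻¹ v))
      rw [map_prod, map_one] at this
      simpa [map_mul] using this
  rw [Finset.prod_comm, Finset.prod_range_succ', Finset.prod_eq_one
    (fun i hi => h1 _ (Nat.succ_pos i) (by have := Finset.mem_range.1 hi; omega))] at h2
  simpa [Nat.card_eq_fintype_card] using h2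

section Cls

variable {G : Type u} [Group G]

/-- the ordered product `∏_{i<k} c^i b c^-i` -/
def nrm (c b : G) : ℕ → G
  | 0 => 1
  | k + 1 => nrm c b k * (c ^ k * b * (c ^ k)⁻¹)

theorem nrm_succ' (c b : G) (k : ℕ) : nrm c b (k + 1) = b * (c * nrm c b k * c⁻¹) := by
  induction k with
  | zero => simp [nrm]
  | succ k ih =>
    have e : nrm c b (k + 1 + 1) = nrm c b (k + 1) * (c ^ (k + 1) * b * (c ^ (k + 1))⁻¹) := rfl
    have e' : nrm c b (k + 1) = nrm c b k * (c ^ k * b * (c ^ k)⁻¹) := rfl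
    rw [e]
    conv_lhs => rw [ih]
    rw [e', pow_succ']; group

theorem prod_pair {P : Type u} [CommGroup P] (τ : ℕ → P) (h0 : τ 0 = 1)
    (hpair : ∀ i j, i + j = 11 → τ i * τ j = 1) : ∏ i ∈ Finset.range 11, τ i = 1 := by
  have : ∏ i ∈ Finset.range 11, τ i = τ 0 * (τ 1 * τ 10) * (τ 2 * τ 9) * (τ 3 * τ 8) *
      (τ 4 * τ 7) * (τ 5 * τ 6) := by
    simp only [Finset.prod_range_succ, Finset.range_zero, Finset.prod_empty, one_mul]
    ac_rfl
  rw [this, h0, hpair 1 10 rfl, hpair 2 9 rfl, hpair 3 8 rfl, hpair 4 7 rfl, hpair 5 6 rfl]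
  simp

/-- in a group of class two over a centre of exponent 11 the norm commutes with `c` -/
theorem nrm_comm (M P : Subgroup G) (c b : G) (hc : c ^ 11 = 1) (hb : b ∈ M)
    (hcM : ∀ m ∈ M, c * m * c⁻¹ ∈ M) (hP : ∀ s ∈ M, ∀ t ∈ M, s * t * s⁻¹ * t⁻¹ ∈ P)
    (hPM : ∀ p ∈ P, ∀ m ∈ M, p * m = m * p) (hPc : ∀ p ∈ P, p * c = c * p)
    (hPP : ∀ p ∈ P, ∀ q ∈ P, p * q = q * p) :
    nrm c b 11 * c = c * nrm c b 11 := by
  haveI : IsMulCommutative P := ⟨⟨fun p q => Subtype.ext (hPP p p.2 q q.2)⟩⟩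
  have hci : ∀ i, ∀ m ∈ M, c ^ i * m * (c ^ i)⁻¹ ∈ M := fun i => by
    induction i with
    | zero => simp
    | succ i ih => intro r hr; simpa [pow_succ, mul_assoc] using ih _ (hcM r hr)
  have hM : ∀ k, nrm c b k ∈ M := fun k => by
    induction k with
    | zero => exact one_mem _
    | succ k ih => exact mul_mem ih (hci k b hb)
  let τ : ℕ → P := fun i => ⟨_, hP _ (hci i b hb) b hb⟩
  have hτ : ∀ k, nrm c b k * b * (nrm c b k)⁻¹ * b⁻¹ = (∏ i ∈ Finset.range k, τ i : P) := fun k => by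
    induction k with
    | zero => simp [nrm]
    | succ k ih =>
      rw [Finset.prod_range_succ, mul_comm, Subgroup.coe_mul, ← ih, ← mul_assoc, ← mul_assoc,
        ← mul_assoc, hPM _ (τ k).2 _ (hM k), nrm]
      simp only [τ]
      group
  have hpair : ∀ i j, i + j = 11 → τ i * τ j = 1 := fun i j hij => by
    apply Subtype.ext
    have e : c ^ j = (c ^ i)⁻¹ := eq_inv_of_mul_eq_one_right (by rw [← pow_add, hij, hc])
    have hcm : (τ j : G) * c ^ i = c ^ i * τ j := (Commute.pow_right (hPc _ (τ j).2) i).eq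
    have : (τ j : G) = c ^ i * τ j * (c ^ i)⁻¹ := by rw [← hcm]; group
    rw [Subgroup.coe_mul, this]
    simp only [τ, e, Subgroup.coe_one]
    group
  have h0 : τ 0 = 1 := Subtype.ext (by simp [τ])
  have hprod : ∏ i ∈ Finset.range 11, τ i = 1 := prod_pair τ h0 hpair
  have h1 := hτ 11
  rw [hprod, Subgroup.coe_one] at h1
  have h2 := nrm_succ' c b 11
  rw [nrm, hc, one_mul, inv_one, mul_one] at h2
  have h3 : nrm c b 11 * b = b * nrm c b 11 := by
    rw [mul_inv_eq_one, mul_inv_eq_iff_eq_mul] at h1; exact h1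
  rw [h3, mul_right_inj] at h2
  calc nrm c b 11 * c = c * nrm c b 11 * c⁻¹ * c := by rw [← h2]
    _ = _ := by group

end Cls

variable {G Ω : Type u} [Group G] [MulAction G Ω] {Γ : Geo G Ω}

/-- a normal subgroup of exponent 11 of `Z` lies in `<c>` -/
theorem BData.normal_le [Finite G] {a b : Ω} {c x u : G} (d : BData Γ a b c x u)
    (W : Subgroup (Γ.Z a b)) [W.Normal] (hW : ∀ w ∈ W, w ^ 11 = 1) :
    W ≤ zpowers (⟨c, d.cZ⟩ : Γ.Z a b) := by
  haveI : Fact (Nat.Prime 11) := ⟨by norm_num⟩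
  have oc : orderOf (⟨c, d.cZ⟩ : Γ.Z a b) = 11 := by rw [← d.oc, ← orderOf_coe]
  have p1 : IsPGroup 11 W := fun w => ⟨1, Subtype.ext (by simpa using hW w w.2)⟩
  have p2 : IsPGroup 11 (zpowers (⟨c, d.cZ⟩ : Γ.Z a b)) :=
    IsPGroup.of_card (n := 1) (by rw [Nat.card_zpowers, oc, pow_one])
  obtain ⟨k, hk⟩ := IsPGroup.iff_card.1 (p1.to_sup_of_normal_left p2)
  have hdvd := card_subgroup_dvd_card (W ⊔ zpowers (⟨c, d.cZ⟩ : Γ.Z a b))
  have hk1 : k ≤ 1 := by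
    by_contra hk2
    exact d.syl ((pow_dvd_pow 11 (by omega : 2 ≤ k)).trans (hk ▸ hdvd))
  have := eq_of_le_of_card_ge (le_sup_right : zpowers (⟨c, d.cZ⟩ : Γ.Z a b) ≤ W ⊔ _) (by
    rw [hk, Nat.card_zpowers, oc]
    exact (Nat.pow_le_pow_right (by norm_num) hk1).trans (by norm_num))
  exact this ▸ le_sup_left

theorem BData.comm_of_norm [Finite G] {a b : Ω} {c x u : G} (h : One Γ) (d : BData Γ a b c x u)
    (hodd : Odd (Nat.card (Γ.Z a b))) {f : G} (hf : f ∈ Γ.Z a b) {k : ℕ}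
    (hk : f * c * f⁻¹ = c ^ k) : f * c = c * f := by
  obtain ⟨y, s, fr⟩ := h.frame a b d.ne
  have hn : ∀ n, f ^ n * c * (f ^ n)⁻¹ = c ^ (k ^ n) := fun n => by
    induction n with
    | zero => simp
    | succ n ih =>
      calc f ^ (n + 1) * c * (f ^ (n + 1))⁻¹ = f ^ n * (f * c * f⁻¹) * (f ^ n)⁻¹ := by
            rw [pow_succ]; group
        _ = c ^ (k ^ (n + 1)) := by rw [hk, ← conj_pow, ih, ← pow_mul, pow_succ]
  obtain ⟨j, hj⟩ := hodd
  have h1 : f ^ (2 * j + 1) = 1 := by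
    have := pow_card_eq_one' (x := (⟨f, hf⟩ : Γ.Z a b))
    rw [hj] at this
    exact congrArg Subtype.val this
  have h2 : ((k : ZMod 11)) ^ (2 * j + 1) = 1 := by
    have := hn (2 * j + 1)
    rw [h1, one_mul, inv_one, mul_one, eq_comm, ← pow_one c, ← pow_mul, one_mul,
      pow_eq_pow_iff_modEq, d.oc, ← ZMod.natCast_eq_natCast_iff] at this
    simpa using this
  have h5 : (k : ZMod 11) ^ 5 = 1 := by
    have h10 : (k : ZMod 11) ^ 10 = 1 := by
      have : (k : ZMod 11) ≠ 0 := fun e => by rw [e] at h2; simp at h2; exact absurd h2 (by decide)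
      revert this; generalize (k : ZMod 11) = t; revert t; decide
    have : (k : ZMod 11) ^ ((2 * j + 1) * 5) = (k ^ 10) ^ j * k ^ 5 := by ring
    rw [pow_mul, h2, h10] at this
    simpa using this.symm
  by_cases hk1 : (k : ZMod 11) = 1
  · have : c ^ k = c ^ 1 := by
      rw [pow_eq_pow_iff_modEq, d.oc, ← ZMod.natCast_eq_natCast_iff]; simpa using hk1
    rw [this, pow_one] at hk
    exact mul_inv_eq_iff_eq_mul.1 hk
  exfalso
  obtain ⟨i, -, hi⟩ := exists_three_pow _ h5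
  have hH : f * y ^ i ∈ Γ.H a b := mul_mem (Γ.Z_le_H a b hf) (pow_mem fr.yH i)
  have hw : Γ.w (f * y ^ i) a = k := by
    rw [Γ.w_mul (Γ.Z_le_H a b hf).1 (pow_mem fr.yH i).1, Z_w hf (Γ.on_left a b), one_mul, fr.w_pow, hi]
  have hc : (f * y ^ i) * c * (f * y ^ i)⁻¹ = c ^ k := by
    have : y ^ i * c = c * y ^ i := (Commute.pow_right (fr.cen c (Γ.Z_le_H a b d.cZ)) i).eq.symm
    rw [← hk, mul_assoc f, this]; group
  have hx : (f * y ^ i) * x * (f * y ^ i)⁻¹ = x ^ k := by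
    rw [Γ.w_spec hH.1 d.xs, hw, ZMod.val_natCast, ← pow_eq_pow_mod _ (Γ.pow_eleven d.xs)]
  have hcx : (f * y ^ i) * (c * x) * (f * y ^ i)⁻¹ = (c * x) ^ k := by
    rw [Commute.mul_pow (d.cx_comm d.xs).symm, ← hc, ← hx]; group
  have hua : u • b ≠ a := smul_ne (A_fix d.uA) d.ne.symm
  have hne : c * x ≠ 1 := by
    rw [← d.uc]
    intro e
    have : c = 1 := by simpa using e
    simpa [this] using d.oc
  refine d.not_on h.toOne1 (h.line_of_w d.ne hua hH (by rw [hw]; revert hk1 h5; generalize (k : ZMod 11) = t; revert t; decide) ?_)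
  refine (h.fixZ a (u • b) ((c * x) ^ k) _ hua.symm (pow_mem d.cx_mem k) ?_).1 ?_
  · rw [← hcx]; exact fun e => hne (conj_eq_one_iff.1 e)
  · rw [← hcx, ← mul_smul, inv_mul_cancel_right, mul_smul, Z_fix d.cx_mem (Γ.on_right _ _)]

set_option maxHeartbeats 400000 in
theorem jobB1 : JobB1.{u} := by
  intro G Ω _ _ _ _ Γ h hev a b c x u d hodd
  haveI : Fact (Nat.Prime 11) := ⟨by norm_num⟩
  have c1 : c ≠ 1 := fun e => by simpa [e] using d.oc
  haveI : Nontrivial (Γ.Z a b) := ⟨⟨⟨c, d.cZ⟩, 1, fun e => c1 (congrArg Subtype.val e)⟩⟩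
  obtain ⟨R, hRn, hR1, hRc, r, hr, hRr⟩ := exists_min_normal (Γ.Z a b) hodd
  by_cases h11 : r = 11
  · subst h11
    have hle := d.normal_le R hRr
    obtain ⟨ρ, hρ, hρ1⟩ := (bot_or_exists_ne_one R).resolve_left hR1
    have hc : (⟨c, d.cZ⟩ : Γ.Z a b) ∈ R := by
      have o1 : orderOf ρ = 11 := orderOf_eq_prime (hRr ρ hρ) hρ1
      have oc : orderOf (⟨c, d.cZ⟩ : Γ.Z a b) = 11 := by rw [← d.oc, ← orderOf_coe]
      have := eq_of_le_of_card_ge ((zpowers_le.2 hρ).trans hle)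
        (by rw [Nat.card_zpowers, Nat.card_zpowers, o1, oc])
      exact zpowers_le.2 hρ (this ▸ mem_zpowers _)
    refine le_antisymm (fun f hf => ?_) (zpowers_le.2 d.cZ)
    obtain ⟨k, hk⟩ := (Submonoid.mem_powers_iff _ _).1
      (mem_powers_iff_mem_zpowers.2 (hle (hRn.conj_mem _ hc ⟨f, hf⟩)))
    obtain ⟨i, rfl⟩ := d.centZ hf (d.comm_of_norm h hodd hf (congrArg Subtype.val hk).symm)
    exact pow_mem (mem_zpowers c) i
  exfalso
  haveI : Fact r.Prime := ⟨hr⟩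
  have hZA : Γ.Z a b ≤ Γ.A a := Γ.Z_le_A (Γ.on_left a b)
  -- elements of `R` commuting with a power of `c`
  have hone : ∀ g : G, g ^ 11 = 1 → g ^ r = 1 → g = 1 := fun g h1 h2 =>
    (pow_eq_one_iff_of_coprime ((Nat.coprime_primes (by norm_num) hr).2 (Ne.symm h11))).1 ⟨h1, h2⟩
  have hRc' : ∀ ρ ∈ R, (ρ : G) * c = c * ρ → ρ = 1 := fun ρ hρ hc => by
    obtain ⟨i, hi⟩ := d.centZ ρ.2 hc
    refine Subtype.ext (hone _ ?_ (congrArg Subtype.val (hRr ρ hρ)))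
    rw [hi, ← pow_mul, mul_comm, pow_mul, d.c11, one_pow]
  -- the quotient `A / P`
  let P' : Subgroup (Γ.A a) := (Γ.sub a).subgroupOf (Γ.A a)
  haveI hP' : P'.Normal := ⟨fun p hp g => by
    have : (g : G) * p * (g : G)⁻¹ = p := by rw [← Γ.mem_A.1 g.2 p hp]; simp
    show (g : G) * p * (g : G)⁻¹ ∈ Γ.sub a
    rw [this]; exact hp⟩
  let π := QuotientGroup.mk' P'
  have hπ : ∀ g : Γ.A a, π g = 1 ↔ (g : G) ∈ Γ.sub a := fun g => QuotientGroup.eq_one_iff g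
  haveI : Nontrivial (Γ.A a ⧸ P') := ⟨⟨π ⟨c, hZA d.cZ⟩, 1, fun e =>
    c1 (sub_Z_eq_one d.ne ((hπ _).1 e) d.cZ)⟩⟩
  have hAodd : Odd (Nat.card (Γ.A a)) := by
    rw [h.cardA a b d.ne]
    exact (Nat.Even.sub_odd (by have := h.big12; omega) hev odd_one).mul hodd
  obtain ⟨N, hNn, hN1, hNc, q, hq, hNq⟩ := exists_min_normal (Γ.A a ⧸ P')
    (hAodd.of_dvd_nat (card_quotient_dvd_card P'))
  let M : Subgroup G := (N.comap π).map (Γ.A a).subtype
  have hM : ∀ g : Γ.A a, (g : G) ∈ M ↔ π g ∈ N := fun g =>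
    ⟨fun ⟨g', h1, h2⟩ => by rwa [← Subtype.ext h2], fun h1 => ⟨g, h1, rfl⟩⟩
  have hMA : M ≤ Γ.A a := map_subtype_le _
  have hMn : ∀ g ∈ Γ.A a, ∀ m ∈ M, g * m * g⁻¹ ∈ M := fun g hg m hm =>
    (hM (⟨g, hg⟩ * ⟨m, hMA hm⟩ * ⟨g, hg⟩⁻¹)).2 (by
      rw [map_mul, map_mul, map_inv]; exact hNn.conj_mem _ ((hM ⟨m, hMA hm⟩).1 hm) _)
  have hMP : ∀ s ∈ M, ∀ t ∈ M, s * t * s⁻¹ * t⁻¹ ∈ Γ.sub a := fun s hs t ht =>
    (hπ (⟨s, hMA hs⟩ * ⟨t, hMA ht⟩ * ⟨s, hMA hs⟩⁻¹ * ⟨t, hMA ht⟩⁻¹)).1 (by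
      have := congrArg Subtype.val (hNc.is_comm.comm (⟨_, (hM ⟨s, hMA hs⟩).1 hs⟩ : N)
        ⟨_, (hM ⟨t, hMA ht⟩).1 ht⟩)
      simp only [Subgroup.coe_mul] at this
      rw [map_mul, map_mul, map_mul, this, map_inv, map_inv]; group)
  -- an element of `Z` commuting with `m` modulo `P` fixes the line through `m • b`
  have hline : ∀ z ∈ Γ.Z a b, ∀ m ∈ Γ.A a, z⁻¹ * (m⁻¹ * z * m) ∈ Γ.sub a →
      Γ.On a (m • b) (z • m • b) := fun z hz m hm hp => by
    have e : z • m • b = m • (z⁻¹ * (m⁻¹ * z * m)) • b := by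
      have : z * (z⁻¹ * (m⁻¹ * z * m)) = (z⁻¹ * (m⁻¹ * z * m)) * z :=
        (Γ.mem_A.1 (hZA hz) _ hp).symm
      conv_rhs => rw [← Z_fix hz (Γ.on_right a b), ← mul_smul _ z, ← this]
      simp [← mul_smul, mul_assoc]
    have := Γ.on_smul m (Γ.on_smul_of_mem (Γ.on_left a b hp) (Γ.on_right a b))
    rwa [A_fix hm, ← e] at this
  obtain ⟨ρ0, hρ0, hρ1⟩ := (bot_or_exists_ne_one R).resolve_left hR1
  have hMZ : ∀ z ∈ M, z ∈ Γ.Z a b → z = 1 := by
    have h11 : ∀ z ∈ M, z ∈ Γ.Z a b → z ^ 11 = 1 := fun z hzM hz => by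
      by_cases z1 : z = 1
      · simp [z1]
      by_cases hall : ∀ m ∈ M, Γ.On a b (m • b)
      · rw [← d.ord z hz z1 (u • b) (smul_ne (A_fix d.uA) d.ne.symm) ?_ (d.not_on h.toOne1),
          pow_orderOf_eq_one]
        have := Γ.on_smul u (hall _ (hMn _ (inv_mem d.uA) z hzM))
        simpa [A_fix d.uA, ← mul_smul, mul_assoc] using this
      · push Not at hall
        obtain ⟨m, hm, hno⟩ := hall
        rw [← d.ord z hz z1 (m • b) (smul_ne (A_fix (hMA hm)) d.ne.symm) (hline z hz m (hMA hm) ?_)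
          hno, pow_orderOf_eq_one]
        simpa [mul_assoc] using hMP _ (inv_mem hzM) _ (inv_mem hm)
    intro z hzM hz
    by_contra z1
    haveI : (M.subgroupOf (Γ.Z a b)).Normal := ⟨fun w hw g => hMn g (hZA g.2) w hw⟩
    have hle := d.normal_le (M.subgroupOf (Γ.Z a b)) fun w hw => Subtype.ext (h11 w hw w.2)
    have hc : c ∈ M := by
      have o1 : orderOf (⟨z, hz⟩ : Γ.Z a b) = 11 :=
        orderOf_eq_prime (Subtype.ext (h11 z hzM hz)) fun e => z1 (congrArg Subtype.val e)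
      have oc : orderOf (⟨c, d.cZ⟩ : Γ.Z a b) = 11 := by rw [← d.oc, ← orderOf_coe]
      have h1 : zpowers (⟨z, hz⟩ : Γ.Z a b) ≤ M.subgroupOf (Γ.Z a b) := zpowers_le.2 hzM
      have := eq_of_le_of_card_ge (h1.trans hle)
        (by rw [Nat.card_zpowers, Nat.card_zpowers, o1, oc])
      exact h1 (this ▸ mem_zpowers (⟨c, d.cZ⟩ : Γ.Z a b))
    refine hρ1 (hRc' ρ0 hρ0 ?_)
    have e1 : (ρ0 : G) * c * (ρ0 : G)⁻¹ * c⁻¹ ∈ M := mul_mem (hMn _ (hZA ρ0.2) c hc) (inv_mem hc)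
    have e2 : ρ0 * (⟨c, d.cZ⟩ * ρ0⁻¹ * ⟨c, d.cZ⟩⁻¹) ∈ R := mul_mem hρ0 (hRn.conj_mem _ (inv_mem hρ0) _)
    have := hone _ (h11 _ e1 (mul_mem (mul_mem (mul_mem ρ0.2 d.cZ) (inv_mem ρ0.2)) (inv_mem d.cZ)))
      (by simpa [mul_assoc] using congrArg Subtype.val (hRr _ e2))
    rwa [mul_inv_eq_one, mul_inv_eq_iff_eq_mul] at this
  let act : Γ.A a →* MulAut N := MulAut.conjNormal.comp π
  have hact : ∀ (g : Γ.A a) (v : N), (act g v : Γ.A a ⧸ P') = π g * v * (π g)⁻¹ := fun g v => by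
    simp [act]
  let R' : Subgroup (Γ.A a) := R.map (inclusion hZA)
  have hfix : ∀ v : N, (∀ g ∈ R', act g v = v) → v = 1 := fun v hv => by
    obtain ⟨m, hm⟩ := QuotientGroup.mk'_surjective P' v
    have hmM : (m : G) ∈ M := (hM m).2 (hm ▸ v.2)
    have e := congrArg Subtype.val (hv _ (mem_map_of_mem _ hρ0))
    rw [hact, ← hm] at e
    have hp : (ρ0 : G)⁻¹ * ((m : G)⁻¹ * ρ0 * m) ∈ Γ.sub a :=
      (hπ ((inclusion hZA ρ0)⁻¹ * (m⁻¹ * inclusion hZA ρ0 * m))).1 (by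
        rw [mul_inv_eq_iff_eq_mul] at e
        simp only [map_mul, map_inv, mul_assoc]
        rw [e]; simp [π])
    have hon : Γ.On a b ((m : G) • b) := by
      by_contra hno
      have := d.ord _ ρ0.2 (fun e => hρ1 (Subtype.ext e)) _ (smul_ne (A_fix m.2) d.ne.symm)
        (hline _ ρ0.2 _ m.2 hp) hno
      exact hρ1 (Subtype.ext (hone _ (this ▸ pow_orderOf_eq_one _)
        (congrArg Subtype.val (hRr _ hρ0))))
    obtain ⟨x', hx', z, hz, e'⟩ := h.lfix1 a b m d.ne (A_fix m.2) hon (A_w m.2)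
    have hx'M : x' ∈ M := (hM ⟨x', Γ.sub_le_A a hx'⟩).2 (by rw [(hπ _).2 hx']; exact one_mem _)
    have : z = 1 := hMZ z (by simpa [e'] using mul_mem (inv_mem hx'M) hmM) hz
    exact Subtype.ext (by rw [← hm]; exact (hπ m).2 (by simpa [e', this] using hx'))
  have hall : ∀ v : N, ∏ i ∈ Finset.range 11, act ((⟨c, hZA d.cZ⟩ : Γ.A a) ^ i) v = 1 := fun v => by
    obtain ⟨m, hm⟩ := QuotientGroup.mk'_surjective P' v
    have hmM : (m : G) ∈ M := (hM m).2 (hm ▸ v.2)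
    have hk : ∀ k, π (nrm ⟨c, hZA d.cZ⟩ m k) =
        (∏ i ∈ Finset.range k, act ((⟨c, hZA d.cZ⟩ : Γ.A a) ^ i) v : N) := fun k => by
      induction k with
      | zero => simp [nrm]
      | succ k ih =>
        rw [Finset.prod_range_succ, Subgroup.coe_mul, ← ih, hact, nrm, ← hm]
        simp [π]
    have hv : ∀ k, ((nrm ⟨c, hZA d.cZ⟩ m k : Γ.A a) : G) = nrm c m k := fun k => by
      induction k with
      | zero => rfl
      | succ k ih => simp [nrm, ih]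
    have hcm := nrm_comm M (Γ.sub a) c m d.c11 hmM (hMn c (hZA d.cZ)) hMP
      (fun p hp m hm => Γ.mem_A.1 (hMA hm) p hp) (fun p hp => d.cx_comm hp)
      (fun p hp q hq => Γ.comm hp hq)
    obtain ⟨x', hx', i, e⟩ := d.cent _ (by rw [← hv]; exact Subtype.prop _) hcm
    have hx'M : x' ∈ M := (hM ⟨x', Γ.sub_le_A a hx'⟩).2 (by rw [(hπ _).2 hx']; exact one_mem _)
    have hnM : nrm c m 11 ∈ M := by
      rw [← hv, hM, hk]; exact Subtype.prop _
    have : c ^ i = 1 := hMZ _ (by simpa [e] using mul_mem (inv_mem hx'M) hnM) (pow_mem d.cZ i)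
    apply Subtype.ext
    rw [← hk 11]
    exact (hπ _).2 (by rw [hv, e, this, mul_one]; exact hx')
  have key := norm_id act R' ⟨c, hZA d.cZ⟩
    (by rintro _ ⟨g, hg, rfl⟩; exact ⟨_, hRn.conj_mem g hg ⟨c, d.cZ⟩, rfl⟩)
    (by
      rintro i h0 hi _ ⟨g, hg, rfl⟩ e
      have e' : c ^ i * g = g * c ^ i := congrArg Subtype.val e
      have hci : c ∈ zpowers (c ^ i) := mem_zpowers_pow_iff.2 (by
        rw [d.oc]; exact (Nat.coprime_of_lt_prime h0.ne' hi (by norm_num)).symm)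
      obtain ⟨n, hn⟩ := hci
      have : (g : G) * c = c * g := by
        rw [← hn]; exact ((Commute.zpow_left (e' : Commute (c ^ i) (g : G)) n).eq).symm
      rw [hRc' g hg this, map_one]) hfix hall
  have pR : IsPGroup r R' := (show IsPGroup r R from fun g => ⟨1, Subtype.ext (by
    simpa using hRr g g.2)⟩).map _
  obtain ⟨k, hk⟩ := IsPGroup.iff_card.1 pR
  obtain ⟨v, hv, hv1⟩ := (bot_or_exists_ne_one N).resolve_left hN1
  have hqr : q = r := by
    by_contra hne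
    refine hv1 ((pow_eq_one_iff_of_coprime (((Nat.coprime_primes hq hr).2 hne).pow_right k)).1
      ⟨hNq v hv, ?_⟩)
    simpa [hk] using congrArg Subtype.val (key ⟨v, hv⟩)
  subst hqr
  letI : MulAction R' N := MulAction.compHom N (act.comp R'.subtype)
  have pN : IsPGroup q N := fun g => ⟨1, Subtype.ext (by simpa using hNq g g.2)⟩
  obtain ⟨w, hw, hw1⟩ := pR.exists_fixed_point_of_prime_dvd_card_of_fixed_point (α := N)
    (pN.card_eq_or_dvd.resolve_left fun e => hN1 (card_eq_one.1 e)) (a := 1)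
    (fun g => map_one (act g))
  exact hw1 (hfix w fun g hg => hw ⟨g, hg⟩).symm

end H74.O11
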