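import Cfsg.Agent.H74.O11Ib
import Cfsg.Agent.S0035
import Cfsg.Agent.S0041
import Cfsg.Agent.S0042

/-! O11 tower: slots K and B0. -/

set_option autoImplicit false

namespace H74.O11

open Subgroup MulAction
open scoped Pointwise

universe u

variable {G Ω : Type u} [Group G] [MulAction G Ω] {Γ : Geo G Ω}

theorem ord5_sq {k : ZMod 11} (h1 : k ≠ 1) (h5 : k ^ 5 = 1) : k ^ 2 ≠ 1 := by
  revert k; decide

theorem keyfix (h : One1 Γ) (hB : NonB Γ) {a b d : Ω} (ab : a ≠ b) {g : G} (hg : g ∈ Γ.H a b)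
    (g1 : g ≠ 1) (w5 : Γ.w g a ^ 5 = 1) (da : d ≠ a) (hd : Γ.On a d (g • d)) : Γ.On a b d := by
  by_cases w : Γ.w g a = 1
  · exact hB a b ab g (h.memZ a b g ab hg.1 hg.2 w) g1 d da hd
  · exact h.line_of_w ab da hg (ord5_sq w w5) hd

theorem on_smul_a {a b c : Ω} {g : G} (ga : g • a = a) : Γ.On a (g • b) (g • c) ↔ Γ.On a b c := by
  rw [← Γ.on_smul_iff g (a := a) (b := b), ga]

theorem on_sub {a b : Ω} {x : G} (hx : x ∈ Γ.sub a) : Γ.On a b (x • b) :=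
  Γ.on_smul_of_mem (Γ.on_left a b hx) (Γ.on_right a b)

theorem A_le_N0 (a : Ω) : Γ.A a ≤ N0 Γ a := fun _ hg => ⟨A_fix hg, by rw [A_w hg]; simp⟩

theorem jobK : JobK.{u} := by
  intro G Ω _ _ _ _ Γ h hB a b ab
  have lp := h.lp a b ab
  let P' : Subgroup (N0 Γ a) := (Γ.sub a).subgroupOf (N0 Γ a)
  haveI : P'.Normal := ⟨fun p hp g => by
    have := Γ.conj g a p hp
    rwa [g.2.1] at this⟩
  let π := QuotientGroup.mk' P'
  have hπ : ∀ g : N0 Γ a, π g = 1 ↔ (g : G) ∈ Γ.sub a := fun g => QuotientGroup.eq_one_iff g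
  have PN : Γ.sub a ≤ N0 Γ a := (Γ.sub_le_A a).trans (A_le_N0 a)
  let Hb := ((Γ.H a b).subgroupOf (N0 Γ a)).map π
  have hHb : ∀ g : N0 Γ a, π g ∈ Hb ↔ Γ.On a b ((g : G) • b) := fun g => by
    constructor
    · rintro ⟨k, hk, e⟩
      have h1 : (k : G)⁻¹ * g ∈ Γ.sub a := (QuotientGroup.eq (s := P')).1 e
      have h2 := (on_smul_a k.2.1).2 (on_sub (b := b) h1)
      rwa [show (k : G) • b = b from hk.2, ← mul_smul, mul_inv_cancel_left] at h2
    · intro hg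
      obtain ⟨x, hx, e⟩ := lp.reg a _ b (Γ.on_left a b) hg (Γ.on_right a b)
        (smul_ne g.2.1 ab.symm) ab.symm
      exact ⟨⟨x, PN hx⟩ * g, ⟨by show (x * g) • a = a; rw [mul_smul, g.2.1, Γ.smul_self hx],
        by show (x * g) • b = b; rw [mul_smul, e]⟩, by rw [map_mul, (hπ _).2 hx, one_mul]⟩
  have hconj : ∀ f g : N0 Γ a, π g ∈ MulAut.conj (π f) • Hb ↔
      Γ.On a ((f : G) • b) ((g : G) • (f : G) • b) := fun f g => by
    rw [mem_pointwise_smul_iff_inv_smul_mem, show (MulAut.conj (π f))⁻¹ • π g = π (f⁻¹ * g * f) by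
      simp, hHb, ← on_smul_a f.2.1]
    simp [← mul_smul, mul_assoc]
  obtain ⟨y, s, fr⟩ := h.frame a b ab
  obtain ⟨d0, hd0⟩ := h.big' a b ab
  obtain ⟨g0, hg0, e0⟩ := h.transA a b d0 ab.symm fun e => hd0 (e ▸ Γ.on_left a b)
  have hF : Cfsg.IsFrobeniusComplement Hb := by
    refine ⟨fun e => ?_, fun e => hd0 ?_, fun f hf => (eq_bot_iff_forall _).2 ?_⟩
    · have : π ⟨y, fr.ya, by rw [fr.wy]; decide⟩ ∈ Hb := mem_map_of_mem _ fr.yH
      rw [e, mem_bot, hπ] at this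
      exact absurd ((Γ.w_sub this).symm.trans fr.wy) (by decide)
    · rw [← e0]
      exact (hHb ⟨g0, A_le_N0 a hg0⟩).1 (e ▸ mem_top _)
    · obtain ⟨f, rfl⟩ := QuotientGroup.mk'_surjective P' f
      rintro _ ⟨⟨k, hk, rfl⟩, h2⟩
      by_contra k1
      exact hf ((hHb f).2 (keyfix h.toOne1 hB ab hk (fun e => k1 (by
        rw [show k = 1 from Subtype.ext e, map_one])) k.2.2 (smul_ne f.2.1 ab.symm)
        ((hconj f k).1 h2)))
  obtain ⟨N, hN, hNn, hc⟩ := Cfsg.Agent.S0035.result Hb hF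
  obtain ⟨N', hN', -, hnil⟩ := Cfsg.Agent.S0042.result Hb hF
  obtain rfl : N' = N := SetLike.ext' (hN'.trans hN.symm)
  let K : Subgroup G := (N'.comap π).map (N0 Γ a).subtype
  have hK0 : ∀ g : N0 Γ a, (g : G) ∈ K ↔ π g ∈ N' := fun g =>
    ⟨fun ⟨g', h1, h2⟩ => by rwa [← Subtype.ext h2], fun h1 => ⟨g, h1, rfl⟩⟩
  have KN : K ≤ N0 Γ a := map_subtype_le _
  have hK : ∀ g : N0 Γ a, (g : G) ∈ K ↔
      ((g : G) ∈ Γ.sub a ∨ ∀ d, d ≠ a → ¬ Γ.On a d ((g : G) • d)) := fun g => by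
    rw [hK0, ← SetLike.mem_coe, hN, Cfsg.frobeniusKernel, Set.mem_setOf_eq, hπ]
    refine or_congr_right ⟨fun h1 d da => ?_, fun h1 f => ?_⟩
    · obtain ⟨f, hf, rfl⟩ := h.transA a b d ab.symm da
      exact fun e => h1 _ ((hconj ⟨f, A_le_N0 a hf⟩ g).2 e)
    · obtain ⟨f, rfl⟩ := QuotientGroup.mk'_surjective P' f
      exact fun e => h1 _ (smul_ne f.2.1 ab.symm) ((hconj f g).1 e)
  have semi : ∀ k ∈ K, ∀ c, c ≠ a → k • c = c → k = 1 := fun k hk c ca e =>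
    sub_eq_one ca.symm (((hK ⟨k, KN hk⟩).1 hk).resolve_right fun h1 =>
      h1 c ca (by rw [e]; exact Γ.on_right a c)) e
  have tr : ∀ d, d ≠ a → ∃ k ∈ K, k • b = d := fun d da => by
    obtain ⟨g, hg, rfl⟩ := h.transA a b d ab.symm da
    obtain ⟨⟨n, _, k, hk, rfl⟩, e⟩ := hc.2 (π ⟨g, A_le_N0 a hg⟩)
    refine ⟨_, (hK0 (⟨g, A_le_N0 a hg⟩ * k⁻¹)).2 ?_, ?_⟩
    · rw [map_mul, map_inv, ← e]; simp
    · simp [mul_smul, inv_smul_eq_iff.2 (show (k : G) • b = b from hk.2).symm]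
  have card : Nat.card K = Nat.card Ω - 1 := by
    rw [← ncard_mul_card K {c | c ≠ a} (a := b) (fun g hg => smul_ne (KN hg).1 ab.symm) tr, ncard_ne,
      (eq_bot_iff_forall (K ⊓ stabilizer G b)).2 fun g hg => semi g hg.1 b ab.symm hg.2]
    simp
  have fpf : ∀ g ∈ Γ.H a b, g ≠ 1 → Γ.w g a ^ 5 = 1 → ∀ k ∈ K, k⁻¹ * (g * k * g⁻¹) ∈ Γ.sub a →
      k ∈ Γ.sub a := fun g hg g1 w5 k hk hx => by
    have h1 := (on_smul_a (KN hk).1).2 (on_sub (b := b) hx)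
    rw [← mul_smul, mul_inv_cancel_left, mul_smul, mul_smul, inv_smul_eq_iff.2 hg.2.symm] at h1
    exact ((hK ⟨k, KN hk⟩).1 hk).resolve_right fun h2 => h2 b ab.symm
      (keyfix h.toOne1 hB ab hg g1 w5 (smul_ne (KN hk).1 ab.symm) h1)
  refine ⟨K, ab, fun k hk => Γ.mem_A_iff.2 ⟨(KN hk).1, ?_⟩,
    fun x hx => (hK ⟨x, PN hx⟩).2 (Or.inl hx), fun g ga k hk => ?_, fun c d ca da => ?_, semi, card,
    fpf, fun X hX hw hA => ?_⟩
  · have h1 : k ^ (Nat.card Ω - 1) = 1 := by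
      have := pow_card_eq_one' (x := (⟨k, hk⟩ : K))
      rw [card] at this
      exact congrArg Subtype.val this
    have h2 : Γ.w k a ^ (Nat.card Ω - 1) = 1 := by rw [← Γ.w_pow (KN hk).1, h1, Γ.w_one]
    obtain ⟨m, hm⟩ := (dvd_mul_right 5 _).trans (h.dvdH0 a b ab)
    have := h.big12
    rwa [show Nat.card Ω - 1 = 5 * (m + 2) + 1 by omega, pow_succ, pow_mul, (KN hk).2, one_pow,
      one_mul] at h2
  · have hn : g * k * g⁻¹ ∈ N0 Γ a := ⟨by simp [mul_smul, inv_smul_eq_iff.2 ga.symm, (KN hk).1, ga],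
      by have := Γ.w_conj g (KN hk).1; rw [ga] at this; rw [this, (KN hk).2]⟩
    refine (hK ⟨_, hn⟩).2 (((hK ⟨k, KN hk⟩).1 hk).imp (fun h1 => by simpa [ga] using Γ.conj g a k h1)
      fun h1 d da e => h1 (g⁻¹ • d) (smul_ne (inv_smul_eq_iff.2 ga.symm) da) ?_)
    rw [← on_smul_a ga]
    simpa [mul_smul] using e
  · obtain ⟨k, hk, rfl⟩ := tr c ca
    obtain ⟨k', hk', rfl⟩ := tr d da
    exact ⟨k' * k⁻¹, mul_mem hk' (inv_mem hk), by rw [mul_smul, inv_smul_smul]⟩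
  · have XN : X ≤ N0 Γ a := fun g hg => ⟨(hX hg).1, hw g hg⟩
    let f : X →* N0 Γ a ⧸ P' := π.comp (inclusion XN)
    have hf : Function.Injective f := (injective_iff_map_eq_one _).2 fun x hx =>
      Subtype.ext (sub_eq_one ab ((hπ _).1 hx) (hX x.2).2)
    let e := MonoidHom.ofInjective hf
    haveI : Nontrivial N' := by
      obtain ⟨k, hk, e⟩ := tr d0 fun e => hd0 (e ▸ Γ.on_left a b)
      exact ⟨⟨⟨_, (hK0 ⟨k, KN hk⟩).1 hk⟩, 1, fun e1 => hd0 (e ▸ on_sub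
        ((hπ _).1 (congrArg Subtype.val e1)))⟩⟩
    haveI : IsMulCommutative ((center N').map N'.subtype) := ⟨⟨by
      rintro ⟨_, x, hx, rfl⟩ ⟨_, z, hz, rfl⟩
      exact Subtype.ext (congrArg (fun t : N' => t.1) (mem_center_iff.1 hz x))⟩⟩
    have := Cfsg.Agent.S0041.result f.range ((center N').map N'.subtype)
      (fun e => Group.IsNilpotent.center_ne_bot N' ((map_eq_bot_iff_of_injective _
        N'.subtype_injective).1 e)) (by rw [normalizer_eq_top]; exact le_top)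
      (by
        rintro _ ⟨x, rfl⟩ x1
        refine (eq_bot_iff_forall _).2 ?_
        rintro _ ⟨⟨v, -, rfl⟩, hv⟩
        obtain ⟨k, hk⟩ := QuotientGroup.mk'_surjective P' v
        have hv' : π k * π (inclusion XN x) = π (inclusion XN x) * π k := by
          rw [show π k = v from hk]; exact mem_centralizer_singleton_iff.1 hv
        show (v : N0 Γ a ⧸ P') = 1
        rw [← hk]
        refine (hπ k).2 (fpf x (hX x.2) (fun e => x1 (by rw [show x = 1 from Subtype.ext e, map_one]))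
          (hw x x.2) k ((hK0 k).2 (hk ▸ v.2))
          ((hπ (k⁻¹ * (inclusion XN x * k * (inclusion XN x)⁻¹))).1 ?_))
        rw [map_mul, map_mul, map_mul, ← hv', map_inv, map_inv]; group)
      (hA.imp (fun hc => ⟨⟨fun x z => e.symm.injective (by
        rw [map_mul, map_mul, hc.is_comm.comm])⟩⟩) fun h1 => by
          rwa [← Nat.card_congr e.toEquiv])
    exact isCyclic_of_surjective e.symm e.symm.surjective

theorem jobB0 : JobB0.{u} := by
  intro G Ω _ _ _ _ Γ h hB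
  haveI : Fact (Nat.Prime 11) := ⟨by norm_num⟩
  have dec : ∀ a b, a ≠ b → ∀ z ∈ Γ.Z a b, z ≠ 1 → ∀ d, d ≠ a → Γ.On a d (z • d) → ¬ Γ.On a b d →
      orderOf z = 11 ∧ ∃ x ∈ Γ.sub a, x ≠ 1 ∧ z * x ∈ Γ.Z a d := fun a b ab z hz z1 d da hd hn => by
    obtain ⟨x, hx, z', hz', e⟩ := h.lfix1 a d z da.symm (Z_fix hz (Γ.on_left a b)) hd
      (Z_w hz (Γ.on_left a b))
    have hc : x * z' = z' * x := Γ.mem_Z.1 hz' x (Γ.on_left a d hx)
    refine ⟨orderOf_eq_prime (h.Z_inter ab hn (pow_mem hz 11) ?_) z1, x⁻¹, inv_mem hx, fun e1 => ?_,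
      by rw [e, hc]; simpa using hz'⟩
    · rw [e, Commute.mul_pow hc, Γ.pow_eleven hx, one_mul]
      exact Z_fix (pow_mem hz' 11) (Γ.on_right a d)
    · rw [inv_eq_one.1 e1, one_mul] at e
      exact z1 (h.Z_inter ab hn hz (e ▸ Z_fix hz' (Γ.on_right a d)))
  simp only [NonB, not_forall] at hB
  obtain ⟨a, b, ab, c, cZ, c1, d, da, hd, hn⟩ := hB
  obtain ⟨oc, x, hx, x1, hcx⟩ := dec a b ab c cZ c1 d da hd hn
  have c11 : c ^ 11 = 1 := oc ▸ pow_orderOf_eq_one c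
  have cP : ∀ p ∈ Γ.sub a, p * c = c * p := fun p hp => Γ.mem_Z.1 cZ p (Γ.on_left a b hp)
  have cx1 : c * x ≠ 1 := fun e => c1 (sub_Z_eq_one ab
    (by rw [eq_inv_of_mul_eq_one_left e]; exact inv_mem hx) cZ)
  have centZ : ∀ z ∈ Γ.Z a b, z * c = c * z → z ∈ zpowers c := fun z hz hc => by
    have zx : x * z = z * x := Γ.mem_Z.1 hz x (Γ.on_left a b hx)
    obtain ⟨p, hp, z', hz', e⟩ := h.lfix1 a d z da.symm (Z_fix hz (Γ.on_left a b))
      (h.on_of_comm da.symm hcx cx1 (by rw [← mul_assoc, hc, mul_assoc, ← zx, mul_assoc])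
        (Γ.on_right a d)) (Z_w hz (Γ.on_left a b))
    obtain ⟨k, hk⟩ := Γ.exists_pow hx x1 (inv_mem hp)
    have h1 : z * (c ^ k.val)⁻¹ = z' * ((c * x) ^ k.val)⁻¹ := by
      rw [Commute.mul_pow (cP x hx).symm, ← hk, e, Γ.mem_Z.1 hz' p (Γ.on_left a d hp)]
      group
    have := h.Z_inter ab hn (mul_mem hz (inv_mem (pow_mem cZ k.val)))
      (h1 ▸ Z_fix (mul_mem hz' (inv_mem (pow_mem hcx k.val))) (Γ.on_right a d))
    rw [mul_inv_eq_one.1 this]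
    exact pow_mem (mem_zpowers c) _
  have cent : ∀ g ∈ Γ.A a, g * c = c * g → ∃ x' ∈ Γ.sub a, ∃ i : ℕ, g = x' * c ^ i := fun g hg hc => by
    obtain ⟨p, hp, z, hz, rfl⟩ := h.lfix1 a b g ab (A_fix hg)
      (h.on_of_comm ab cZ c1 hc (Γ.on_right a b)) (A_w hg)
    obtain ⟨i, hi⟩ := (Submonoid.mem_powers_iff _ _).1 (mem_powers_iff_mem_zpowers.2 (centZ z hz (by
      rw [mul_assoc, ← mul_assoc c, ← cP p hp, mul_assoc, mul_right_inj] at hc; exact hc)))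
    exact ⟨p, hp, i, by rw [hi]⟩
  have oc' : orderOf (⟨c, cZ⟩ : Γ.Z a b) = 11 := by rw [← oc, ← orderOf_coe]
  obtain ⟨S, hS⟩ := (IsPGroup.of_card (p := 11) (n := 1) (G := zpowers (⟨c, cZ⟩ : Γ.Z a b))
    (by rw [Nat.card_zpowers, oc', pow_one])).exists_le_sylow
  have cS : (⟨c, cZ⟩ : Γ.Z a b) ∈ S := hS (mem_zpowers _)
  have gen : ∀ z ∈ zpowers c, z ≠ 1 → c ∈ zpowers z := fun z hz z1 => by
    have := eq_of_le_of_card_ge (zpowers_le.2 hz) (by
      obtain ⟨n, rfl⟩ := hz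
      rw [Nat.card_zpowers, Nat.card_zpowers, oc, orderOf_eq_prime (p := 11) (by
        rw [← zpow_natCast, ← zpow_mul, mul_comm, zpow_mul, zpow_natCast, c11, one_zpow]) z1])
    exact this ▸ mem_zpowers c
  have hSc : ∀ t ∈ S, (t : G) ∈ zpowers c := fun t ht => by
    haveI : Nontrivial S := ⟨⟨⟨_, cS⟩, 1, fun e => c1 (congrArg (fun x : S => (x : G)) e)⟩⟩
    haveI := S.2.center_nontrivial
    obtain ⟨⟨z, hz⟩, z1⟩ := exists_ne (1 : center S)
    have hz' : ∀ t : S, (t : G) * z = z * t := fun t =>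
      congrArg (fun x : S => (x : G)) (mem_center_iff.1 hz t)
    obtain ⟨n, hn⟩ := gen _ (centZ z z.1.2 (hz' ⟨_, cS⟩).symm)
      fun e => z1 (Subtype.ext (Subtype.ext (Subtype.ext e)))
    refine centZ t t.2 ?_
    rw [← hn]
    exact (Commute.zpow_right (hz' ⟨t, ht⟩) n).eq
  have syl : ¬ 121 ∣ Nat.card (Γ.Z a b) := fun h121 => by
    have h1 := Nat.le_of_dvd Nat.card_pos (S.pow_dvd_card_of_pow_dvd_card (n := 2) h121)
    have h2 := card_le_of_le (show (S : Subgroup (Γ.Z a b)) ≤ zpowers ⟨c, cZ⟩ from fun t ht => by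
      obtain ⟨n, hn⟩ := hSc t ht
      exact ⟨n, Subtype.ext hn⟩)
    rw [Nat.card_zpowers, oc'] at h2
    omega
  obtain ⟨g, hg, gb⟩ := h.transA a b d ab.symm da
  have hc' : g⁻¹ * (c * x) * g ∈ Γ.Z a b := by
    have := Γ.conj_mem_Z g⁻¹ hcx
    rwa [A_fix (inv_mem hg), ← gb, inv_smul_smul, inv_inv] at this
  have cx11 : (c * x) ^ 11 = 1 := by
    rw [Commute.mul_pow (cP x hx).symm, c11, Γ.pow_eleven hx, one_mul]
  obtain ⟨T, hT⟩ := (IsPGroup.of_card (p := 11) (n := 1) (G := zpowers (⟨_, hc'⟩ : Γ.Z a b)) (by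
    rw [Nat.card_zpowers, pow_one]
    refine orderOf_eq_prime (Subtype.ext ?_) fun e => cx1 ?_
    · simpa [cx11] using conj_pow (a := g⁻¹) (b := c * x) (i := 11)
    · simpa using conj_eq_one_iff.1 (show g⁻¹ * (c * x) * g⁻¹⁻¹ = 1 by
        simpa using congrArg Subtype.val e))).exists_le_sylow
  obtain ⟨k, hk⟩ := exists_smul_eq (Γ.Z a b) T S
  have hk' : (k : G) * (g⁻¹ * (c * x) * g) * (k : G)⁻¹ ∈ zpowers c := hSc (k * ⟨_, hc'⟩ * k⁻¹) (by
    rw [← hk]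
    exact smul_mem_pointwise_smul _ (MulAut.conj k) _ (hT (mem_zpowers _)))
  obtain ⟨j, hj⟩ := (Submonoid.mem_powers_iff _ _).1 (mem_powers_iff_mem_zpowers.2
    (gen _ hk' fun e => cx1 (by
      have := conj_eq_one_iff.1 e
      simpa using conj_eq_one_iff.1 (show g⁻¹ * (c * x) * g⁻¹⁻¹ = 1 by simpa using this))))
  have g1A : g * (k : G)⁻¹ ∈ Γ.A a := mul_mem hg (inv_mem (Γ.Z_le_A (Γ.on_left a b) k.2))
  have e1 : g * (k : G)⁻¹ * c * (g * (k : G)⁻¹)⁻¹ = c ^ j * x ^ j := by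
    rw [← Commute.mul_pow (cP x hx).symm]
    conv_lhs => rw [← hj, ← conj_pow]
    congr 1
    group
  generalize g * (k : G)⁻¹ = g1 at g1A e1
  obtain ⟨y, s, fr⟩ := h.frame a b ab
  have yc : c * y = y * c := fr.cen c (Γ.Z_le_H a b cZ)
  have yx : y * x * y⁻¹ = x ^ 3 := by rw [Γ.w_spec fr.ya hx, fr.wy]; rfl
  have g2A : y * g1 * y⁻¹ ∈ Γ.A a := by simpa [fr.ya] using Γ.conj_mem_A y g1A
  have e2 : y * g1 * y⁻¹ * c * (y * g1 * y⁻¹)⁻¹ = c ^ j * x ^ (3 * j) := by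
    have h1 : y * c * y⁻¹ = c := by rw [← yc]; simp
    have h2 : y⁻¹ * c * y = c := by rw [mul_assoc, yc]; simp
    calc _ = y * (g1 * (y⁻¹ * c * y) * g1⁻¹) * y⁻¹ := by group
      _ = (y * c * y⁻¹) ^ j * (y * x * y⁻¹) ^ j := by rw [h2, e1, conj_pow, conj_pow]; group
      _ = _ := by rw [h1, yx, pow_mul]
  generalize y * g1 * y⁻¹ = g2 at g2A e2
  have hx' : (x ^ (2 * j))⁻¹ ∈ Γ.sub a := inv_mem (pow_mem hx _)
  have uA : g2⁻¹ * g1 ∈ Γ.A a := mul_mem (inv_mem g2A) g1A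
  have uc : g2⁻¹ * g1 * c * (g2⁻¹ * g1)⁻¹ = c * (x ^ (2 * j))⁻¹ := by
    have h1 := Γ.mem_A.1 g2A _ hx'
    calc _ = g2⁻¹ * (g1 * c * g1⁻¹) * g2 := by group
      _ = g2⁻¹ * (c ^ j * x ^ (3 * j)) * ((x ^ (2 * j))⁻¹ * g2) := by rw [e1]; group
      _ = _ := by rw [← e2, h1]; group
  have x1' : (x ^ (2 * j))⁻¹ ≠ 1 := fun e => by
    rw [inv_eq_one, ← orderOf_dvd_iff_pow_eq_one, Γ.orderOf_eq hx x1] at e
    obtain ⟨m, rfl⟩ := (Nat.Coprime.dvd_mul_left (by norm_num)).1 e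
    rw [pow_mul, pow_mul, c11, Γ.pow_eleven hx] at e1
    exact c1 (by simpa using e1)
  refine ⟨a, b, c, _, _, ab, cZ, oc, hx', x1', uA, uc, cent, ?_, syl,
    fun z hz z1 d da hd hn => (dec a b ab z hz z1 d da hd hn).1⟩
  generalize (x ^ (2 * j))⁻¹ = x' at hx' x1' uc
  generalize g2⁻¹ * g1 = u at uA uc
  have un : ∀ n, u ^ n * c * (u ^ n)⁻¹ = c * x' ^ n := fun n => by
    induction n with
    | zero => simp
    | succ n ih =>
      calc _ = u * (u ^ n * c * (u ^ n)⁻¹) * u⁻¹ := by rw [pow_succ']; group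
        _ = u * c * u⁻¹ * (u * x' ^ n * u⁻¹) := by rw [ih]; group
        _ = _ := by rw [uc, ← Γ.mem_A.1 uA _ (pow_mem hx' n), pow_succ']; group
  obtain ⟨p, hp, i, e⟩ := cent (u ^ 11) (pow_mem uA 11) (by
    have := un 11
    rwa [Γ.pow_eleven hx', mul_one, mul_inv_eq_iff_eq_mul] at this)
  have pz : ∀ t : G, t ^ 11 ^ 2 = 1 → IsPGroup 11 (zpowers t) := fun t ht => by
    rintro ⟨_, n, rfl⟩
    refine ⟨2, Subtype.ext ?_⟩
    simp only [SubmonoidClass.coe_pow, OneMemClass.coe_one]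
    rw [← zpow_natCast, ← zpow_mul, mul_comm, zpow_mul, zpow_natCast, ht, one_zpow]
  have step : ∀ (X Y : Subgroup G) (n : ℕ), X ≤ Y → IsPGroup 11 Y → 11 ^ n ∣ Nat.card X → ¬ Y ≤ X →
      11 ^ (n + 1) ∣ Nat.card Y := fun X Y n hle hp hn hne => by
    obtain ⟨m, hm⟩ := IsPGroup.iff_card.1 hp
    rw [hm]
    refine pow_dvd_pow _ (Nat.succ_le_of_lt (lt_of_not_ge fun h1 => hne (eq_of_le_of_card_ge hle ?_).ge))
    rw [hm]
    exact (Nat.pow_le_pow_right (by norm_num) h1).trans (Nat.le_of_dvd Nat.card_pos hn)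
  have EC : Γ.sub a ⊔ zpowers c ≤ centralizer {c} := sup_le
    (fun p hp => mem_centralizer_singleton_iff.2 (cP p hp))
    (zpowers_le.2 (mem_centralizer_singleton_iff.2 rfl))
  have pE : IsPGroup 11 ↥(Γ.sub a ⊔ zpowers c) :=
    (IsPGroup.of_card (n := 1) (by rw [Γ.card, pow_one])).to_sup_of_normal_left'
      (pz c (by rw [pow_two, pow_mul, c11, one_pow])) (zpowers_le.2 (by
        rw [← stab_eq]; exact Z_fix cZ (Γ.on_left a b)))
  have pW : IsPGroup 11 ↥((Γ.sub a ⊔ zpowers c) ⊔ zpowers u) := pE.to_sup_of_normal_left'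
    (pz u (by
      rw [pow_two, pow_mul, e, Commute.mul_pow (Commute.pow_right (cP p hp) i), Γ.pow_eleven hp,
        ← pow_mul, mul_comm i, pow_mul, c11]; simp))
    (zpowers_le.2 (mem_normalizer_fintype fun t ht => by
      have : (Γ.sub a ⊔ zpowers c).map (MulAut.conj u).toMonoidHom ≤ Γ.sub a ⊔ zpowers c := by
        rw [Subgroup.map_sup, ← Γ.sub_smul, A_fix uA, MonoidHom.map_zpowers]
        refine sup_le le_sup_left (zpowers_le.2 ?_)
        show u * c * u⁻¹ ∈ _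
        rw [uc]
        exact mul_mem (mem_sup_right (mem_zpowers c)) (mem_sup_left hx')
      exact this ⟨t, ht, rfl⟩))
  have h3 := step _ _ 2 le_sup_left pW (step _ _ 1 le_sup_left pE (by rw [Γ.card, pow_one])
    fun hle => c1 (sub_Z_eq_one ab (hle (mem_sup_right (mem_zpowers c))) cZ)) fun hle => x1' (by
      have := mem_centralizer_singleton_iff.1 (EC (hle (mem_sup_right (mem_zpowers u))))
      rw [this, mul_inv_cancel_right] at uc
      simpa using uc.symm)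
  have h4 := h3.trans (card_dvd_of_le (sup_le (sup_le (Γ.sub_le_A a)
    (zpowers_le.2 (Γ.Z_le_A (Γ.on_left a b) cZ))) (zpowers_le.2 uA)))
  rw [h.cardA a b ab] at h4
  obtain ⟨m, hm⟩ := oc' ▸ orderOf_dvd_natCard (⟨c, cZ⟩ : Γ.Z a b)
  have hm' : Nat.Coprime 121 m := Nat.Coprime.pow_left 2
    ((Nat.Prime.coprime_iff_not_dvd (p := 11) (by norm_num)).2 fun ⟨l, hl⟩ =>
      syl ⟨l, by rw [hm, hl]; ring⟩)
  rw [hm, mul_left_comm, show 11 ^ (2 + 1) = 11 * 121 from rfl] at h4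
  exact hm'.dvd_of_dvd_mul_right (Nat.dvd_of_mul_dvd_mul_left (by norm_num) h4)

end H74.O11
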