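import Cfsg.Agent.H74.O11J
import Cfsg.Agent.H74.O11IIc
import Cfsg.Agent.S2475

/-! O11 tower: slots L and Ia. -/

set_option autoImplicit false

namespace H74.O11

open Subgroup MulAction

universe u v

/-- the facts on PSL(2,11) that are used -/
structure LL (K : Type u) [Group K] : Prop where
  card : Nat.card K = 660
  simple : IsSimpleGroup K
  spec : ∀ g : K, orderOf g ∈ ({1, 2, 3, 5, 6, 11} : Finset ℕ)

theorem ll_of_iso {K : Type u} [Group K] {F : Type v} [Field F] [Fintype F]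
    (hF : Fintype.card F = 11) (e : K ≃* Matrix.ProjectiveSpecialLinearGroup (Fin 2) F) : LL K := by
  refine ⟨(Nat.card_congr e.toEquiv).trans (card_psl hF), Good.simple hF (Or.inl ⟨e⟩), fun g => ?_⟩
  haveI : Fact (Nat.Prime 11) := ⟨by norm_num⟩
  haveI : CharP F 11 := charP_of_card_eq_prime (hF)
  have : orderOf (e g) ∈ Set.range (orderOf : Matrix.ProjectiveSpecialLinearGroup (Fin 2) F → ℕ) :=
    ⟨_, rfl⟩
  rw [Cfsg.Agent.S2475.result 11 (by omega), e.orderOf_eq, hF] at this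
  norm_num at this
  generalize orderOf g = m at *
  rcases this with h | h | h <;> have := Nat.le_of_dvd (by norm_num) h <;> interval_cases m <;>
    simp_all

namespace LL

variable {K : Type u} [Group K] [Finite K] (h : LL K) {Ω : Type u} [MulAction K Ω] (Γ : Geo K Ω)
include h

omit [Finite K] in
theorem not_dvd {g : K} {n : ℕ} (hn : n = 4 ∨ n = 10 ∨ n = 22 ∨ n = 33 ∨ n = 55) :
    ¬ n ∣ orderOf g := by
  have := h.spec g
  generalize orderOf g = m at *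
  rcases hn with rfl | rfl | rfl | rfl | rfl <;> fin_cases this <;> decide

theorem cent11 {x : K} (o : orderOf x = 11) :
    centralizer ({x} : Set K) = zpowers x ∧ Nat.card (normalizer (zpowers x : Set K)) = 55 := by
  haveI := h.simple
  obtain ⟨n, e, c, h1, h2, h3, h4, h5, h6⟩ := H74.JK.cent_data (p := 11) (by norm_num)
    (by rw [h.card]; norm_num) (by rw [h.card]; norm_num) o
  rw [h.card] at h4
  have hc : c = 1 := by
    by_contra hc
    obtain ⟨r, hr, hrc⟩ := Nat.exists_prime_and_dvd hc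
    obtain ⟨y, oy, hy⟩ := H74.JK.exists_comm_of_dvd hr (h5 ▸ Dvd.dvd.mul_left hrc 11)
    have hr11 : r ≠ 11 := by
      rintro rfl
      obtain ⟨k, rfl⟩ := hrc
      have : 121 ∣ 660 := ⟨n * e * k, by rw [← h4]; ring⟩
      norm_num at this
    have := h.spec (y * x)
    rw [Commute.orderOf_mul_eq_mul_orderOf_of_coprime hy
      (by rw [oy, o]; exact (Nat.coprime_primes hr (by norm_num)).2 hr11), oy, o] at this
    have := hr.two_le
    simp only [Finset.mem_insert, Finset.mem_singleton] at *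
    omega
  subst hc
  refine ⟨(eq_of_le_of_card_ge (zpowers_le.2 (mem_centralizer_singleton_iff.2 rfl))
    (by rw [h5, Nat.card_zpowers, o])).symm, ?_⟩
  have : e ≤ 10 := Nat.le_of_dvd (by norm_num) h3
  interval_cases e <;> omega

theorem wt1 {j : K} {c : Ω} (hj : j • c = c) (hw : Γ.w j c = 1) : j ∈ Γ.sub c := by
  obtain ⟨x, hx, h1⟩ := Γ.exists_ne_one c
  rw [← Γ.zpowers_eq hx h1, ← (h.cent11 (Γ.orderOf_eq hx h1)).1]
  exact mem_centralizer_singleton_iff.2 (Γ.mem_A.1 (Γ.mem_A_iff.2 ⟨hj, hw⟩) x hx).symm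

include Γ in
theorem card_stab (c : Ω) : Nat.card (stabilizer K c) = 55 := by
  obtain ⟨x, hx, h1⟩ := Γ.exists_ne_one c
  rw [stab_eq (Γ := Γ), ← Γ.zpowers_eq hx h1, (h.cent11 (Γ.orderOf_eq hx h1)).2]

theorem wt5 {j : K} {c : Ω} (hj : j • c = c) : Γ.w j c ^ 5 = 1 := by
  have h1 : j ^ 55 = 1 := by
    have := pow_card_eq_one' (x := (⟨j, hj⟩ : stabilizer K c))
    rw [h.card_stab Γ] at this
    exact congrArg Subtype.val this
  have h2 : Γ.w j c ^ 55 = 1 := by rw [← Γ.w_pow hj, h1, Γ.w_one]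
  revert h2; generalize Γ.w j c = k; revert k; decide

include Γ in
theorem card_pts (c : Ω) : (Set.univ : Set Ω).ncard = 12 := by
  have := ncard_mul_card (⊤ : Subgroup K) (Set.univ : Set Ω) (a := c) (fun _ _ => trivial)
    fun x _ => (Γ.trans c x).imp fun g hg => ⟨trivial, hg⟩
  rw [top_inf_eq, h.card_stab Γ, card_top, h.card] at this
  omega

theorem reg {c d e : Ω} (hd : d ≠ c) (he : e ≠ c) : ∃ x ∈ Γ.sub c, x • d = e := by
  have h12 := h.card_pts Γ c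
  have hf : (Set.univ : Set Ω).Finite := Set.finite_of_ncard_ne_zero (by omega)
  have h1 := ncard_mul_card (Γ.sub c) {e | ∃ x ∈ Γ.sub c, x • d = e} (a := d)
    (fun g hg => ⟨g, hg, rfl⟩) fun _ hx => hx
  rw [(eq_bot_iff_forall (Γ.sub c ⊓ stabilizer K d)).2 fun x hx => sub_eq_one hd.symm hx.1 hx.2,
    card_bot, Γ.card] at h1
  have h2 : {e | ∃ x ∈ Γ.sub c, x • d = e} = Set.univ \ {c} := Set.eq_of_subset_of_ncard_le
    (by rintro _ ⟨x, hx, rfl⟩; exact ⟨trivial, smul_ne (Γ.smul_self hx) hd⟩)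
    (by rw [Set.ncard_diff_singleton_of_mem (Set.mem_univ c)]; omega) hf.diff
  exact (h2 ▸ ⟨trivial, he⟩ : e ∈ {e | ∃ x ∈ Γ.sub c, x • d = e})

theorem exy {a b : Ω} (hab : a ≠ b) : ∃ y : K, y • a = a ∧ y • b = b ∧ Γ.w y a = 3 ∧ y ^ 5 = 1 := by
  haveI : Fact (Nat.Prime 5) := ⟨by norm_num⟩
  obtain ⟨f, hf⟩ := exists_prime_orderOf_dvd_card' (G := stabilizer K a) 5
    (by rw [h.card_stab Γ]; norm_num)
  rw [← orderOf_coe] at hf
  have w1 : Γ.w f a ≠ 1 := fun e => by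
    have := orderOf_dvd_of_pow_eq_one (Γ.pow_eleven (h.wt1 Γ f.2 e))
    rw [hf] at this
    norm_num at this
  obtain ⟨x, hx, e⟩ := h.reg Γ (smul_ne f.2 hab.symm) hab.symm
  have fa : (x * f) • a = a := by rw [mul_smul, f.2, Γ.smul_self hx]
  have fb : (x * f) • b = b := by rw [mul_smul, e]
  have wf : Γ.w (x * f) a = Γ.w f a := by rw [Γ.w_mul (Γ.smul_self hx) f.2, Γ.w_sub hx, one_mul]
  obtain ⟨i, -, hi⟩ : ∃ i < 5, Γ.w f a ^ i = 3 := by
    have := h.wt5 Γ f.2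
    revert w1 this; generalize Γ.w f a = k; revert k; decide
  have ya := Geo.pow_smul_of_fix fa i
  have yb := Geo.pow_smul_of_fix fb i
  exact ⟨_, ya, yb, by rw [Γ.w_pow fa, wf, hi], sub_eq_one hab
    (h.wt1 Γ (Geo.pow_smul_of_fix ya 5) (by rw [Γ.w_pow ya, h.wt5 Γ ya])) (Geo.pow_smul_of_fix yb 5)⟩

include Γ in
theorem exs {a b : Ω} (hab : a ≠ b) : ∃ s : K, s * s = 1 ∧ s • a = b ∧ s • b = a := by
  obtain ⟨g, rfl⟩ := Γ.trans a b
  obtain ⟨x, hx, e⟩ := h.reg Γ (c := g • a) (d := g • g • a) (e := a)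
    (fun e => hab (smul_left_cancel g e).symm) hab
  have h1 : (x * g) • a = g • a := by rw [mul_smul, Γ.smul_self hx]
  have h2 : (x * g) • g • a = a := by rw [mul_smul, e]
  generalize x * g = t at *
  generalize g • a = b at *
  have ta : t ^ 2 • a = a := by rw [pow_two, mul_smul, h1, h2]
  have tb : t ^ 2 • b = b := by rw [pow_two, mul_smul, h2, h1]
  have e5 : t ^ 5 = (t ^ 2) ^ 2 * t := by group
  refine ⟨t ^ 5, ?_, by rw [e5, mul_smul, h1, Geo.pow_smul_of_fix tb],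
    by rw [e5, mul_smul, h2, Geo.pow_smul_of_fix ta]⟩
  rw [← pow_add, show 5 + 5 = 2 * 5 from rfl, pow_mul]
  exact sub_eq_one hab (h.wt1 Γ (Geo.pow_smul_of_fix ta 5) (by rw [Γ.w_pow ta, h.wt5 Γ ta]))
    (Geo.pow_smul_of_fix tb 5)

omit [Finite K] in
theorem no4 (g : K) (h4 : g ^ 4 = 1) : g ^ 2 = 1 := by
  have h1 := orderOf_dvd_of_pow_eq_one h4
  have h2 := h.spec g
  apply orderOf_dvd_iff_pow_eq_one.1
  revert h1 h2
  generalize orderOf g = m
  intro h1 h2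
  fin_cases h2 <;> simp_all

theorem four {s : K} (hs : s * s = 1) : ∃ t : K, t * t = 1 ∧ t ≠ 1 ∧ t ≠ s ∧ t * s = s * t := by
  have pt : IsPGroup 2 (zpowers s) := by
    rintro ⟨_, n, rfl⟩
    refine ⟨1, Subtype.ext ?_⟩
    simp only [pow_one, SubmonoidClass.coe_pow, OneMemClass.coe_one]
    rw [← zpow_natCast, ← zpow_mul, mul_comm, zpow_mul, zpow_natCast, pow_two, hs, one_zpow]
  obtain ⟨E, hE⟩ := pt.exists_le_sylow
  have e4 : 4 ≤ Nat.card E := Nat.le_of_dvd Nat.card_pos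
    (E.pow_dvd_card_of_pow_dvd_card (n := 2) (by rw [h.card]; norm_num))
  have hc := sylow_comm E fun g _ => h.no4 g
  obtain ⟨t, ht, hn⟩ : ∃ t ∈ E, t ∉ ({1, s} : Set K) := by
    by_contra hn
    push Not at hn
    have h1 := Set.ncard_le_ncard (s := ((E : Subgroup K) : Set K)) hn
    have h2 := Set.ncard_insert_le (1 : K) {s}
    rw [Set.ncard_singleton] at h2
    have h5 : Nat.card E = ((E : Subgroup K) : Set K).ncard := (Nat.card_coe_set_eq _)
    omega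
  simp only [Set.mem_insert_iff, Set.mem_singleton_iff, not_or] at hn
  refine ⟨t, ?_, hn.1, hn.2, congrArg Subtype.val (hc.is_comm.comm ⟨t, ht⟩ ⟨s, hE (mem_zpowers s)⟩)⟩
  obtain ⟨k, hk⟩ := E.2 ⟨t, ht⟩
  have h1 := orderOf_dvd_of_pow_eq_one (congrArg Subtype.val hk : t ^ 2 ^ k = 1)
  obtain ⟨i, -, hi⟩ := (Nat.dvd_prime_pow (by norm_num)).1 h1
  rw [← pow_two, ← orderOf_dvd_iff_pow_eq_one, hi]
  have := h.not_dvd (g := t) (Or.inl rfl)
  rw [hi] at this
  rcases i with _ | _ | i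
  · simp
  · simp
  · exact absurd ⟨2 ^ i, by ring⟩ this

include Γ in
theorem faith {a b : Ω} (hab : a ≠ b) {t : K} (ht : ∀ r : Ω, t • r = r) : t = 1 :=
  sub_eq_one hab (h.wt1 Γ (ht a) (by
    by_contra hw
    rcases h.simple.eq_bot_or_eq_top_of_normal (toPermHom K Ω).ker inferInstance with e | e
    · have : t ∈ (toPermHom K Ω).ker := Equiv.ext ht
      rw [e, mem_bot] at this
      exact hw (by rw [this, Γ.w_one])
    · obtain ⟨g, hg⟩ := Γ.trans a b
      have : g ∈ (toPermHom K Ω).ker := e ▸ mem_top g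
      exact absurd ((DFunLike.congr_fun this a).symm.trans hg) hab)) (ht b)

end LL

theorem jobL : JobL.{u, v} := by
  intro G Ω _ _ _ _ Γ F _ _ hF a b hab ⟨e⟩
  have h := ll_of_iso hF e
  let Γ' := geoRes Γ _ (Or.inl h.card) h.simple ⟨a, Γ.on_left a b⟩
  have hw : ∀ {g : Γ.L a b} {c : {c : Ω // Γ.sub c ≤ Γ.L a b}}, g • c = c → Γ'.w g c = Γ.w g c :=
    fun e => geoRes_w Γ _ _ _ _ e
  let a' : {c : Ω // Γ.sub c ≤ Γ.L a b} := ⟨a, Γ.on_left a b⟩
  let b' : {c : Ω // Γ.sub c ≤ Γ.L a b} := ⟨b, Γ.on_right a b⟩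
  have hab' : a' ≠ b' := fun e => hab (congrArg Subtype.val e)
  have reg : ∀ c d e, Γ.On a b c → Γ.On a b d → Γ.On a b e → d ≠ c → e ≠ c →
      ∃ x ∈ Γ.sub c, x • d = e := fun c d e hc hd he dc ec => by
    obtain ⟨x, hx, h1⟩ := h.reg Γ' (c := ⟨c, hc⟩) (d := ⟨d, hd⟩) (e := ⟨e, he⟩)
      (fun e => dc (congrArg Subtype.val e)) fun e => ec (congrArg Subtype.val e)
    exact ⟨x, hx, congrArg Subtype.val h1⟩
  have wt1 : ∀ g ∈ Γ.L a b, ∀ c, Γ.On a b c → g • c = c → Γ.w g c = 1 → g ∈ Γ.sub c :=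
    fun j hj c hc e w => h.wt1 Γ' (j := ⟨j, hj⟩) (c := ⟨c, hc⟩) (Subtype.ext e)
      ((hw (Subtype.ext e)).trans w)
  have wt5 : ∀ g ∈ Γ.L a b, ∀ c, Γ.On a b c → g • c = c → Γ.w g c ^ 5 = 1 := fun j hj c hc e => by
    have e' : (⟨j, hj⟩ : Γ.L a b) • (⟨c, hc⟩ : {c : Ω // Γ.sub c ≤ Γ.L a b}) = ⟨c, hc⟩ := Subtype.ext e
    have := h.wt5 Γ' e'
    rwa [hw e'] at this
  obtain ⟨y, ya', yb', wy, y5⟩ := h.exy Γ' hab'
  rw [hw ya'] at wy
  have ya : (y : G) • a = a := congrArg Subtype.val ya'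
  have yb : (y : G) • b = b := congrArg Subtype.val yb'
  obtain ⟨s, ss, sa', sb'⟩ := h.exs Γ' hab'
  have sa : (s : G) • a = b := congrArg Subtype.val sa'
  have sb : (s : G) • b = a := congrArg Subtype.val sb'
  -- weight 1 at one point forces weight 1 at the other
  have one : ∀ c d, Γ.On a b c → Γ.On a b d → c ≠ d → ∀ g : G, Nm g (Γ.L a b) → g • c = c →
      g • d = d → Γ.w g c = 1 → Γ.w g d = 1 := fun c d hc hd cd g hn gc gd wg => by
    have fx : ∀ e, Γ.On a b e → g • e = e := fun e he => by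
      by_cases ec : e = c
      · rw [ec, gc]
      obtain ⟨x, hx, rfl⟩ := reg c d e hc hd he cd.symm ec
      rw [← mul_smul, ← Γ.mem_A.1 (Γ.mem_A_iff.2 ⟨gc, wg⟩) x hx, mul_smul, gd]
    refine A_w (Γ.mem_A.2 fun x hx => ?_)
    have := congrArg Subtype.val (h.faith Γ' hab' (t := ⟨x⁻¹ * (g * x * g⁻¹),
      mul_mem (inv_mem (hd hx)) (hn x (hd hx))⟩) fun r => Subtype.ext (by
        show (x⁻¹ * (g * x * g⁻¹)) • r.1 = r.1
        rw [mul_smul, mul_smul, mul_smul, inv_smul_eq_iff.2 (fx _ r.2).symm,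
          fx _ (Γ.on_smul_of_mem (hd hx) r.2), inv_smul_smul]))
    exact eq_mul_inv_iff_mul_eq.1 (inv_mul_eq_one.1 this)
  have wyb : Γ.w y b = 4 := by
    have e1 : Γ.w (s * y * (s : G)⁻¹) a = Γ.w y b := by rw [← Γ.w_conj s yb, sb]
    have fa : ((s : G) * y * (s : G)⁻¹) • a = a := by
      rw [mul_smul, mul_smul, inv_smul_eq_iff.2 sb.symm, yb, sb]
    have fb : ((s : G) * y * (s : G)⁻¹) • b = b := by
      rw [mul_smul, mul_smul, inv_smul_eq_iff.2 sa.symm, ya, sa]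
    have e2 : Γ.w (s * y * (s : G)⁻¹) b = 3 := by rw [← wy, ← Γ.w_conj s ya, sa]
    obtain ⟨i, hi5, hi⟩ := exists_three_pow _ (wt5 y y.2 b (Γ.on_right a b) yb)
    have yi := Geo.pow_smul_of_fix ya i
    have e3 : ((y : G) ^ i)⁻¹ * (s * y * (s : G)⁻¹) = 1 := sub_eq_one hab (wt1 _
      (mul_mem (inv_mem (pow_mem y.2 i)) (mul_mem (mul_mem s.2 y.2) (inv_mem s.2))) a
      (Γ.on_left a b) (by rw [mul_smul, fa, inv_smul_eq_iff, yi]) (by
        rw [Γ.w_mul (inv_smul_eq_iff.2 yi.symm) fa, e1, ← hi, ← wy, ← Γ.w_pow ya, Γ.w_inv_mul yi]))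
      (by rw [mul_smul, fb, inv_smul_eq_iff, Geo.pow_smul_of_fix yb])
    rw [inv_mul_eq_one] at e3
    rw [← e3, Γ.w_pow yb, ← hi] at e2
    have i1 : i ≠ 1 := by
      rintro rfl
      have hc : s * y = y * s := Subtype.ext (by
        rw [pow_one, eq_mul_inv_iff_mul_eq] at e3; exact e3.symm)
      haveI : Fact (Nat.Prime 5) := ⟨by norm_num⟩
      have o1 : orderOf s = 2 := orderOf_eq_prime (by rw [pow_two, ss]) fun e =>
        hab (by rw [← sa, e]; simp)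
      have o2 : orderOf y = 5 := orderOf_eq_prime y5 fun e => by
        rw [e] at wy; exact absurd ((Γ.w_one a).symm.trans wy) (by decide)
      refine h.not_dvd (g := s * y) (n := 10) (by simp) ?_
      rw [Commute.orderOf_mul_eq_mul_orderOf_of_coprime hc (by rw [o1, o2]; norm_num), o1, o2]
    rw [← hi]
    interval_cases i <;> first | rfl | exact absurd rfl i1 | exact absurd e2 (by decide)
  refine ⟨hab, h.card, fun g ga gb => ?_, ?_, reg, ⟨y, y.2, ya, yb, wy, congrArg Subtype.val y5⟩,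
    ⟨s, s.2, congrArg Subtype.val ss, sa⟩, wt5, wt1,
    fun g hg e => congrArg Subtype.val (h.no4 ⟨g, hg⟩ (Subtype.ext e)), fun s hs ss s1 => ?_⟩
  · have o1 : ∀ g : G, g • a = a → g • b = b → (Γ.w g a = 1 ↔ Γ.w g b = 1) := fun g ga gb =>
      ⟨one a b (Γ.on_left a b) (Γ.on_right a b) hab g (nm_L_fix ga gb) ga gb,
        one b a (Γ.on_right a b) (Γ.on_left a b) hab.symm g (nm_L_fix ga gb) gb ga⟩
    have h5 := o1 _ (Geo.pow_smul_of_fix ga 5) (Geo.pow_smul_of_fix gb 5)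
    rw [Γ.w_pow ga, Γ.w_pow gb] at h5
    obtain ⟨i, hi5, hi⟩ : ∃ i < 5, Γ.w g a ^ 2 * 3 ^ i = 1 := by
      have := Γ.w_ne_zero ga
      revert this; generalize Γ.w g a = k; revert k; decide
    have g2 := Geo.pow_smul_of_fix ga 2
    have g2' := Geo.pow_smul_of_fix gb 2
    have h2 := (o1 (g ^ 2 * y ^ i) (by rw [mul_smul, Geo.pow_smul_of_fix ya, g2])
      (by rw [mul_smul, Geo.pow_smul_of_fix yb, g2'])).1
      (by rw [Γ.w_mul g2 (Geo.pow_smul_of_fix ya i), Γ.w_pow ga, Γ.w_pow ya, wy, hi])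
    rw [Γ.w_mul g2' (Geo.pow_smul_of_fix yb i), Γ.w_pow gb, Γ.w_pow yb, wyb] at h2
    revert h5 hi h2
    generalize Γ.w g a = k; generalize Γ.w g b = l
    revert k l
    interval_cases i <;> decide
  · rw [← h.card_pts Γ' a', ← Set.ncard_image_of_injective _ Subtype.val_injective]
    congr 1
    ext e
    exact ⟨fun he => ⟨⟨e, he⟩, trivial, rfl⟩, fun ⟨e', _, h3⟩ => h3 ▸ e'.2⟩
  · obtain ⟨t, h1, h2, h3, h4⟩ := h.four (s := ⟨s, hs⟩) (Subtype.ext ss)
    exact ⟨t, t.2, congrArg Subtype.val h1, fun e => h2 (Subtype.ext e), fun e => h3 (Subtype.ext e),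
      congrArg Subtype.val h4⟩

theorem jobIa : JobIa.{u} := by
  intro hCC G Ω _ _ _ _ Γ h
  have line_eq : ∀ a b c d, a ≠ b → Γ.On a b c → Γ.On a b d → c ≠ d → Γ.L c d = Γ.L a b :=
    fun a b c d ab hc hd cd => eq_of_le_of_card_ge (sup_le hc hd)
      (by rw [(h.lp a b ab).card, (h.lp c d cd).card])
  have memZ : ∀ (a b : Ω) (g : G), a ≠ b → g • a = a → g • b = b → Γ.w g a = 1 → g ∈ Γ.Z a b :=
    fun a b g ab ga gb w => Γ.mem_Z_iff.2 ⟨Γ.mem_A_iff.2 ⟨ga, w⟩, Γ.mem_A_iff.2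
      ⟨gb, by simpa [w] using (h.lp a b ab).wt g ga gb⟩⟩
  have fix2 : ∀ (a b : Ω) (g : G) (c : Ω), a ≠ b → g • a = a → g • b = b → Γ.w g a ^ 2 ≠ 1 →
      g • c = c → c = a ∨ c = b := fun a b g c ab ga gb w gc => by
    by_contra hn
    push Not at hn
    have h1 := (h.lp a b ab).wt g ga gb
    have h2 := (h.lp a c hn.1.symm).wt g ga gc
    have h3 := (h.lp b c hn.2.symm).wt g gb gc
    have dec2 : ∀ k l m : ZMod 11, k * l = 1 → k * m = 1 → l * m = 1 → k ^ 2 = 1 := by decide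
    exact w (dec2 _ _ _ h1 h2 h3)
  have transA : ∀ a b c, b ≠ a → c ≠ a → ∃ g ∈ Γ.A a, g • b = c := fun a b c ba ca => by
    obtain ⟨y, -, ya, yb, wy, -⟩ := (h.lp a b ba.symm).exy
    obtain ⟨y', -, ya', yc, wy', -⟩ := (h.lp a c ca.symm).exy
    have wA : ∀ α ∈ Γ.A a, (y * α) • a = a ∧ Γ.w (y * α) a ^ 2 ≠ 1 := fun α hα =>
      ⟨by rw [mul_smul, A_fix hα, ya], by rw [Γ.w_mul ya (A_fix hα), A_w hα, wy]; decide⟩
    obtain ⟨β, hβ, e⟩ := hCC G Ω (Γ.A a) y {d | d ≠ a}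
      (fun α hα => by simpa [inv_smul_eq_iff.2 ya.symm] using Γ.conj_mem_A y⁻¹ hα)
      (fun α hα x hx => smul_ne (A_fix hα) hx)
      (fun α hα x hx z hz ex ez => ((fix2 a x _ z (Ne.symm hx) (wA α hα).1 ex (wA α hα).2
        ez).resolve_left hz).symm) b ba ⟨1, one_mem _, by simpa using yb⟩ (y⁻¹ * y')
      (Γ.mem_A_iff.2 ⟨by rw [mul_smul, ya', inv_smul_eq_iff, ya], by
        rw [Γ.w_mul (inv_smul_eq_iff.2 ya.symm) ya', wy', ← wy, Γ.w_inv_mul ya]⟩)
    rw [mul_inv_cancel_left] at e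
    exact ⟨β, hβ, (fix2 a c y' _ ca.symm ya' yc (by rw [wy']; decide) e).resolve_left
      (smul_ne (A_fix hβ) ba)⟩
  have two' : ∀ a b c d : Ω, a ≠ b → c ≠ d → ∃ g : G, g • a = c ∧ g • b = d := fun a b c d ab cd => by
    obtain ⟨g, rfl⟩ := Γ.trans a c
    obtain ⟨f, hf, e⟩ := transA (g • a) (g • b) d (fun e => ab (smul_left_cancel g e).symm) cd.symm
    exact ⟨f * g, by rw [mul_smul, A_fix hf], by rw [mul_smul, e]⟩
  have lf : ∀ (a b : Ω) (g : G), a ≠ b → g • a = a → Γ.On a b (g • b) →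
      ∃ x ∈ Γ.sub a, x • g • b = b := fun a b g ab ga hb =>
    (h.lp a b ab).reg a _ b (Γ.on_left a b) hb (Γ.on_right a b) (smul_ne ga ab.symm) ab.symm
  refine ⟨h, fun t ht => ?_, fun a b ab => ?_, line_eq, memZ, fun a b z c ab hz z1 =>
    ⟨fun zc => h.fixC a b ab z hz z1 c ?_, Z_fix hz⟩, fix2, transA, ?_, two',
    fun a b g ab ga hb w => ?_, fun a b g ab ga hb w => ?_⟩
  · obtain ⟨p, q, -, pq, -⟩ := h.big
    rcases h.simple.eq_bot_or_eq_top_of_normal (toPermHom G Ω).ker inferInstance with e | e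
    · have : t ∈ (toPermHom G Ω).ker := Equiv.ext ht
      rwa [e, mem_bot] at this
    · obtain ⟨g, hg⟩ := Γ.trans p q
      have : g ∈ (toPermHom G Ω).ker := e ▸ mem_top g
      exact absurd ((DFunLike.congr_fun this p).symm.trans hg) pq
  · obtain ⟨p, q, r, pq, hr⟩ := h.big
    obtain ⟨g, rfl, rfl⟩ := two' p q a b pq ab
    exact ⟨g • r, fun e => hr ((Γ.on_smul_iff g).1 e)⟩
  · by_cases e : a = c
    · exact e ▸ Γ.Z_le_A (Γ.on_left a b) hz
    · exact Γ.mem_A_iff.2 ⟨zc, by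
        simpa [Z_w hz (Γ.on_left a b)] using (h.lp a c e).wt z (Z_fix hz (Γ.on_left a b)) zc⟩
  · exact is_two_pretransitive_iff.2 fun ab cd => two' _ _ _ _ ab cd
  · obtain ⟨x, hx, e⟩ := lf a b g ab ga hb
    obtain ⟨x', hx', e'⟩ := conj_of_w ga w (j' := x * g) (by simpa using hx)
    have gc : g • x' • b = x' • b := by
      have : g * x' = x' * (x * g) := by rw [← e']; group
      rw [← mul_smul, this, mul_smul, mul_smul, e]
    refine ⟨x' • b, Γ.on_smul_of_mem (Γ.on_left a b hx') (Γ.on_right a b),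
      smul_ne (Γ.smul_self hx') ab.symm, gc, fun d hd da gd => ?_⟩
    obtain ⟨p, hp, e2⟩ := (h.lp a b ab).reg a _ d (Γ.on_left a b)
      (Γ.on_smul_of_mem (Γ.on_left a b hx') (Γ.on_right a b)) hd (smul_ne (Γ.smul_self hx') ab.symm) da
    have h2 : p⁻¹ * (g * p * g⁻¹) = 1 := sub_eq_one (smul_ne (Γ.smul_self hx') ab.symm).symm
      (mul_mem (inv_mem hp) (ga ▸ Γ.conj g a p hp))
      (by rw [mul_smul, mul_smul, mul_smul, inv_smul_eq_iff.2 gc.symm, e2, gd, ← e2, inv_smul_smul])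
    have := eq_one_of_comm ga w hp (by
      rw [inv_mul_eq_one, eq_mul_inv_iff_mul_eq] at h2; exact h2.symm)
    rw [← e2, this, one_smul]
  · obtain ⟨x, hx, e⟩ := lf a b g ab ga hb
    exact ⟨x⁻¹, inv_mem hx, x * g, memZ a b _ ab (by rw [mul_smul, ga, Γ.smul_self hx])
      (by rw [mul_smul, e]) (by rw [Γ.w_mul (Γ.smul_self hx) ga, w, Γ.w_sub hx, one_mul]), by simp⟩

end H74.O11
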