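import Cfsg.Agent.H74.O8Str
import Cfsg.Agent.H74.O8List
import Cfsg.Agent.S4002
import Cfsg.Agent.H19.L3Norm

/-! Assembly of the tower O8. -/

set_option autoImplicit false

namespace H74.O8

open Cfsg Subgroup H98 H74.OC

universe u

local instance : Fact (Nat.Prime 2) := ⟨Nat.prime_two⟩

/-- The local jobs. -/
structure JL : Prop where
  rk5 : JobRK5.{u}
  rk7 : JobRK7.{u}
  bil : JobBIL.{u}
  cl2 : JobCL2.{u}
  ffk : JobFFK.{u}
  a9 : JobA9.{u}
  gam : JobGAM.{u}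
  e3 : JobE3.{u}
  l232 : JobL232.{u}
  perm : JobPERM.{u}
  sol : JobSOL.{u}
  hm : JobHM.{u}
  gold : JobGOLD.{u}
  ff : JobFF.{u}
  pl : JobPL.{u}
  t5 : JobT5.{u}
  t6 : JobT6.{u}
  t7 : JobT7.{u}
  a5a : JobA5a.{u}
  a5b : JobA5b.{u}
  vw : JobVW.{u}
  a5c : JobA5c.{u}
  core8 : JobCORE8.{u}
  el5 : JobEL5.{u}
  sm8 : JobSM8.{u}
  el8 : JobEL8.{u}
  ffa : JobFFA.{u}
  ffb : JobFFB.{u}
  n3a : JobN3a.{u}
  n3b : JobN3b.{u}

section
variable {G : Type u} [Group G] [Finite G] {M Q S : Subgroup G}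

theorem Big.syl_ne (h : Big G) (hS : IsSyl 2 S ⊤) : S ≠ ⊥ := fun e => by
  have := h.card_syl hS
  rw [e, card_bot] at this
  omega

theorem Big.cz (h : Big G) (hS : IsSyl 2 S ⊤) : H98.CharP 2 (centralizer (oz 2 S : Set G)) :=
  h.cen (isPGroup_oz S) (oz_ne_bot hS.isPGroup (h.syl_ne hS))

theorem gam (j : JL.{u}) (h : Big G) (hS : IsSyl 2 S ⊤) :
    centralizer (oz 2 S : Set G) ≤ normalizer (S : Set G) ∨
      S3T S (centralizer (oz 2 S : Set G)) (pCoreOf 2 (centralizer (oz 2 S : Set G))) :=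
  j.gam G S _ h.sp (hS.of_le (le_centralizer_oz S) le_top) (h.cz hS) le_rfl

theorem noA5 (j : JL.{u}) (h : Big G) (m : Mx M Q) (e : Ext A5 M Q) : False := by
  obtain ⟨t, v, a⟩ := j.t5 j.rk5 G M Q h.sp m e
  obtain ⟨S, hS⟩ := exists_isSyl 2 M
  obtain ⟨y, a⟩ := a S hS
  refine j.el5 j.core8 G M Q h m e ?_
  by_cases k : IsSyl 2 S ⊤
  · rcases gam j h k with r | r
    · exact (j.a5c j.ffk j.ff G M Q S y h m t v a k r).elim
    · obtain ⟨b, w, c, d, f⟩ := j.a5b G M Q S _ y h.sp m t a r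
      have z : oz 2 S ≤ pCoreOf 2 (centralizer (oz 2 S : Set G)) := le_pCoreOf (isPGroup_oz S)
        ((oz_le S).trans (le_centralizer_oz S)) (centralizer_le_normalizer _)
      exact j.vw G M Q S _ _ y w h.sp m t a r ((le_inf (centralizer_anti z) le_rfl).trans (h.cz k))
        (normalizer_le_normalizer_pCoreOf _ (normalizer_le_normalizer_centralizer _
          (le_normalizer_oz le_rfl a.nor))) c d f b
  · exact j.a5a G M Q S h.sp m e hS k

/-- All nonsolvable maximal 2-local subgroups have parabolic subgroups and a large module. -/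
def Good (G : Type u) [Group G] : Prop := ∀ M Q : Subgroup G, Mx M Q → ¬ Group.IsSolvable M →
  ∃ k, Typ M Q k ∧ 4 ^ k ≤ Nat.card (oz 2 Q) ∧ AllPar M Q

theorem good (x : JX.{u}) (j : JL.{u}) (h : Big G) {n : ℕ} (ih : IH.{u} n) (hn : Nat.card G ≤ n + 1) :
    Good G := fun M Q m hs => by
  rcases m.types x h ih hn hs with e | e | e | e
  · exact (noA5 j h m e).elim
  · exact (j.el8 x.x5 j.core8 j.sm8 G M Q h m e).elim
  · exact ⟨2, j.t6 j.rk5 G M Q h.sp m e⟩
  · obtain ⟨a, b | b, c, d, f⟩ := j.t7 j.rk7 G M Q h.sp m e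
    · exact (j.n3b j.bil j.cl2 j.pl G M Q h m a d b (j.n3a j.gam G M Q h m a c d f b)).elim
    · exact ⟨3, a, b, c⟩

theorem fin (j : JL.{u}) (h : Big G) (g : Good G) (hS : IsSyl 2 S ⊤) (hM : M ≠ ⊤) (u : NoU S)
    (h1 : centralizer (oz 2 S : Set G) ≤ M) (h2 : normalizer (jt 2 S : Set G) ≤ M) : False := by
  have key : ∀ K : Subgroup G, S ≤ K → H98.CharP 2 K → Group.IsSolvable K → K ≤ M := fun K a b c =>
    (j.ffk G S K (hS.of_le a le_top) b c u).trans
      (sup_le (inf_le_right.trans h1) (inf_le_right.trans h2))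
  obtain ⟨B, a, b, c, d⟩ := h.cgt S M hS hM
  obtain ⟨M', Q', m, le⟩ := exists_mx h a b
  have s : IsSyl 2 S M' := hS.of_le (c.trans le) le_top
  refine d (le.trans ?_)
  by_cases r : Group.IsSolvable M'
  · exact key M' s.le m.charP r
  · obtain ⟨k, -, -, p⟩ := g M' Q' m r
    obtain ⟨P₁, P₂, D₁, D₂, p⟩ := p S s
    exact p.sup.ge.trans (sup_le
      (key _ p.s1.le2 (m.charP.of_isSyl_le s p.s1.le2 (le_sup_left.trans p.sup.le)) p.s1.t23.solv)
      (key _ p.s2.le2 (m.charP.of_isSyl_le s p.s2.le2 (le_sup_right.trans p.sup.le)) p.s2.t23.solv))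

theorem noFF (j : JL.{u}) (h : Big G) (g : Good G) (m : Mx M Q) (hs : ¬ Group.IsSolvable M)
    (hS : IsSyl 2 S M) : jt 2 S ≤ Q := by
  obtain ⟨k, t, v, p⟩ := g M Q m hs
  obtain ⟨u, f⟩ := j.ff G M Q S k h.sp m t v (m.le_syl hS) hS.le
  refine H12.thompsonSubgroupOf_le_iff.2 fun A hA => by_contra fun r => ?_
  have key : ∀ P₁ P₂ D₁ D₂, Par M Q S P₁ P₂ D₁ D₂ → A ≤ D₂ → False := fun P₁ P₂ D₁ D₂ p a => by
    have b := j.ffa j.gam G M Q S P₁ P₂ D₁ D₂ A k h m t p f hA r a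
    have c := j.ffb (j.perm j.a9 (j.l232 j.e3)) j.hm G M Q S P₁ P₂ D₁ D₂ _ k h m t p b
    exact fin j h g b.syl (m.ne_top h) u (b.cz.le.trans (le_sup_left.trans p.sup.le))
      ((le_normalizer_oz le_rfl).trans (b.zj ▸ c))
  obtain ⟨P₁, P₂, D₁, D₂, p⟩ := p S hS
  have i : ∀ a ∈ A, a ∈ D₁ ∨ a ∈ D₂ := fun a ha => p.inv a (hA.1 ha) (by
    rw [← pow_two, hA.2.1.2 a ha]; exact one_mem Q)
  by_cases a : A ≤ D₂
  · exact key _ _ _ _ p a
  · obtain ⟨x, hx, n⟩ := SetLike.not_le_iff_exists.1 a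
    refine key _ _ _ _ p.symm fun y hy => (i y hy).elim id fun y2 => ?_
    have := (i _ (mul_mem hx hy)).resolve_right fun e => n ((mul_mem_cancel_right y2).1 e)
    exact (mul_mem_cancel_left ((i x hx).resolve_right n)).1 this

theorem nff (j : JL.{u}) (h : Big G) (g : Good G) (m : Mx M Q) (hs : ¬ Group.IsSolvable M) : False := by
  obtain ⟨S, hS⟩ := exists_isSyl 2 M
  obtain ⟨k, t, v, p⟩ := g M Q m hs
  have nj : normalizer (jt 2 S : Set G) = M := by
    rw [← jt_eq_of_le (noFF j h g m hs hS) (m.le_syl hS), m.nor_jt]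
  have ns : normalizer (S : Set G) ≤ M := nj ▸ le_normalizer_jt le_rfl
  have s : IsSyl 2 S ⊤ := isSyl_of_isSyl_normalizer (hS.of_le (le_inf le_top le_normalizer)
    (inf_le_right.trans ns))
  refine fin j h g s (m.ne_top h) (j.ff G M Q S k h.sp m t v (m.le_syl hS) hS.le).1 ?_ nj.le
  rcases gam j h s with r | r
  · exact r.trans ns
  by_contra n
  have key : ∀ P D, S3T S P D → P ≤ M → Prm (centralizer (oz 2 S : Set G)) P := fun P D a b => by
    obtain ⟨B, b1, b2, b3, b4⟩ := j.gold G S _ _ P D (h.card_syl s) r a fun e => n (e ▸ b)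
    obtain ⟨M', Q', m', le⟩ := exists_mx h (s.isPGroup.to_le b1) b2
    have s' : IsSyl 2 S M' := s.of_le (r.le2.trans (b3.trans le)) le_top
    have so : Group.IsSolvable M' := by
      by_contra ns'
      refine n (b3.trans (le.trans ?_))
      rw [← nj, ← jt_eq_of_le (noFF j h g m' ns' s') (m'.le_syl s'), m'.nor_jt]
    exact (j.perm j.a9 (j.l232 j.e3) G S _ _ P D M' h.sp r a le_rfl (b3.trans le) (b4.trans le) s'
      m'.charP (j.sol G S _ _ M' h.sp r (b3.trans le) m'.charP so)).1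
  obtain ⟨P₁, P₂, D₁, D₂, p⟩ := p S hS
  exact n (j.hm G M Q S P₁ P₂ _ _ k h.sp m t p.sup (m.le_syl hS) hS.le r
    (key _ _ p.s1 (le_sup_left.trans p.sup.le)) (key _ _ p.s2 (le_sup_right.trans p.sup.le)))

end

/-- The jobs on the lists. -/
structure JH : Prop where
  fl2 : JobFL2.{u}
  fl3 : JobFL3.{u}
  fu : JobFU.{u}
  fs : JobFS.{u}
  fo : JobFO.{u}
  hub1 : JobHUB1.{u}
  hub2 : JobHUB2.{u}

theorem simple (x : JX.{u}) (j : JL.{u}) (l : JH.{u}) (n : ℕ) : IH.{u} n := by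
  induction n with
  | zero => intro G _ _ _ _ _ h; exact absurd h (Nat.not_le.2 Nat.card_pos)
  | succ n ih =>
  intro G _ _ _ hG h hn
  by_contra r
  have b0 := l.hub1 l.fl2 l.fl3 l.fu l.fs l.fo G hG h r
  have b := l.hub2 l.fl2 l.fl3 l.fu l.fs l.fo G hG h r b0
  obtain ⟨M, Q, m, hs⟩ := exists_nonsolv x b ih hn (fun N a => a.eq_bot_or_eq_top)
    (fun e => hG ⟨⟨IsSimpleGroup.comm_iff_isSolvable.2 e⟩⟩) b0.ng
  exact nff j b (good x j b ih hn) m hs

theorem lack {G : Type u} [Group G] [Finite G] {X : Type} [Group X]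
    (e : G ⧸ pCore 2 G ≃* X) {a : G} {p : ℕ} (hp : Odd p) (ha : orderOf a = p) : p ∣ Nat.card X := by
  obtain ⟨n, hn⟩ := (isPGroup_pCore 2 G).exists_card_eq
  have := ha ▸ orderOf_dvd_natCard a
  rw [← index_mul_card (pCore 2 G), hn, index, Nat.card_congr e.toEquiv] at this
  exact (Nat.Coprime.pow_right n (Nat.coprime_two_right.2 hp)).dvd_of_dvd_mul_right this

theorem row (x : JX.{u}) (j : JL.{u}) (l : JH.{u}) (f : JobFIN.{u}) {G : Type u} [Group G] [Finite G]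
    (h : Set.range (orderOf : G → ℕ) = {k : ℕ | 1 ≤ k ∧ k ≤ 8}) :
    ∃ (N : Subgroup G) (F : Type) (_ : Field F) (_ : Fintype F), N.Normal ∧ N.index = 2 ∧
      Fintype.card F = 4 ∧ Nonempty (↥N ≃* Matrix.ProjectiveSpecialLinearGroup (Fin 3) F) := by
  have sp : Sp 8 G := fun g => (show orderOf g ∈ {k : ℕ | 1 ≤ k ∧ k ≤ 8} from h ▸ ⟨g, rfl⟩).2
  have ex : ∀ k, 1 ≤ k → k ≤ 8 → ∃ g : G, orderOf g = k := fun k a b =>
    show k ∈ Set.range (orderOf : G → ℕ) from h ▸ ⟨a, b⟩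
  obtain ⟨a, ha⟩ := ex 5 (by norm_num) (by norm_num)
  obtain ⟨b, hb⟩ := ex 7 (by norm_num) (by norm_num)
  obtain ⟨c, hc⟩ := ex 8 (by norm_num) (by norm_num)
  have hs := Cfsg.Agent.S4002.result 8 (by norm_num) h
  have ih := simple x j l (Nat.card G)
  by_cases hQ : pCore 2 G = ⊥
  · let e : G ⧸ pCore 2 G ≃* G :=
      (QuotientGroup.quotientMulEquivOfEq hQ).trans QuotientGroup.quotientBot
    obtain ⟨N, n1, n2, n3⟩ := alm x sp hs ih
    obtain ⟨i, F, _, _, hF, ⟨k⟩⟩ := f _ N (sp.quot _) ⟨e.symm a, e.symm b, e.symm c,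
      by rw [e.symm.orderOf_eq, ha], by rw [e.symm.orderOf_eq, hb], by rw [e.symm.orderOf_eq, hc]⟩
      n1 n2 n3
    exact ⟨N.map e.toMonoidHom, F, _, _, n1.map _ e.surjective,
      (index_map_equiv N e).trans i, hF, ⟨(e.subgroupMap N).symm.trans k⟩⟩
  · exfalso
    rcases str x sp hs ih hQ with ⟨⟨e⟩⟩ | ⟨⟨e⟩⟩ | ⟨⟨e⟩⟩ | ⟨⟨e⟩⟩
    · have := (lack e (by decide) hb).mul_left 2
      rw [two_mul_nat_card_alternatingGroup, Nat.card_perm, Nat.card_fin] at this
      exact absurd this (by decide)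
    · have := lack e (by decide) hb
      rw [Nat.card_perm, Nat.card_fin] at this
      exact absurd this (by decide)
    · have := (lack e (by decide) hb).mul_left 2
      rw [two_mul_nat_card_alternatingGroup, Nat.card_perm, Nat.card_fin] at this
      exact absurd this (by decide)
    · have := lack e (by decide) ha
      rw [H19.card_sl32] at this
      exact absurd this (by decide)

end H74.O8
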