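import Cfsg.Agent.H74.O8Kit
import Cfsg.Agent.H95.OCAut

/-! Tower O8: structure of the nonsolvable groups with nontrivial 2-core. -/

set_option autoImplicit false

namespace H74.O8

open Cfsg Subgroup H98 H74.OC Equiv

universe u

theorem hasA4_inj {L : Type u} {K : Type} [Group L] [Group K] (i : K →* L) (hi : Function.Injective i)
    (a b y : K) (h1 : a ≠ 1) (h2 : a * a = 1) (h3 : a * b = b * a) (h4 : y ^ 3 = 1)
    (h5 : y * a * y⁻¹ = b) (h6 : y * b * y⁻¹ = a * b) : HasA4 L := by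
  refine ⟨i a, i b, i y, fun e => h1 (hi (e.trans (map_one i).symm)), ?_, ?_, ?_, ?_, ?_⟩
  · rw [← map_mul, h2, map_one]
  · rw [← map_mul, h3, map_mul]
  · rw [← map_pow, h4, map_one]
  · rw [← map_inv, ← map_mul, ← map_mul, h5]
  · rw [← map_inv, ← map_mul, ← map_mul, h6, map_mul]

theorem hasA4_alt {L : Type u} [Group L] (n : ℕ) (i : alternatingGroup (Fin (n + 4)) →* L)
    (hi : Function.Injective i) (hn : n = 1 ∨ n = 2 ∨ n = 3) : HasA4 L := by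
  rcases hn with rfl | rfl | rfl
  all_goals
    exact hasA4_inj i hi ⟨swap 0 1 * swap 2 3, Perm.mem_alternatingGroup.2 (by decide)⟩
      ⟨swap 1 2 * swap 0 3, Perm.mem_alternatingGroup.2 (by decide)⟩
      ⟨swap 0 1 * swap 1 2, Perm.mem_alternatingGroup.2 (by decide)⟩ (by decide) (by decide)
      (by decide) (by decide) (by decide) (by decide)

theorem K8.hasA4 (hA : JobA6L) {L : Type u} [Group L] (h : K8 L) : HasA4 L := by
  rcases h with ⟨⟨e⟩⟩ | ⟨⟨e⟩⟩ | ⟨⟨e⟩⟩ | ⟨⟨e⟩⟩ | ⟨F, _, _, hF, ⟨e⟩⟩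
  · exact hasA4_alt 1 e.symm.toMonoidHom e.symm.injective (by simp)
  · exact hasA4_alt 2 e.symm.toMonoidHom e.symm.injective (by simp)
  · exact hasA4_alt 3 e.symm.toMonoidHom e.symm.injective (by simp)
  · exact hasA4_inj e.symm.toMonoidHom e.symm.injective
      ⟨!![1, 1, 0; 0, 1, 0; 0, 0, 1], by decide⟩ ⟨!![1, 0, 1; 0, 1, 0; 0, 0, 1], by decide⟩
      ⟨!![1, 0, 0; 0, 1, 1; 0, 1, 0], by decide⟩
      (fun e => absurd (congrArg Subtype.val e) (by decide)) (Subtype.ext (by decide))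
      (Subtype.ext (by decide)) (Subtype.ext (by decide))
      (mul_inv_eq_iff_eq_mul.2 (Subtype.ext (by decide)))
      (mul_inv_eq_iff_eq_mul.2 (Subtype.ext (by decide)))
  · obtain ⟨i, hi⟩ := hA F hF
    exact hasA4_alt 2 (e.symm.toMonoidHom.comp i) (e.symm.injective.comp hi) (by simp)

/-- The jobs on extensions. -/
structure JX : Prop where
  x5 : JobX5.{u}
  x6 : JobX6.{u}
  a6l : JobA6L
  f21 : JobF21.{u}
  xa7 : JobXA7.{u}
  xs6 : JobXS6.{u}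
  xl34 : JobXL34.{u}
  xm10 : JobXM10.{u}
  xf42 : JobXF42.{u}

/-- The induction hypothesis. -/
def IH (n : ℕ) : Prop := ∀ (L : Type u) [Group L] [Finite L] [IsSimpleGroup L], ¬ IsMulCommutative L →
  Sp 8 L → Nat.card L ≤ n → K8 L

section
variable {H : Type u} [Group H] [Finite H]

theorem norad (j : JX.{u}) (h : Sp 8 H) (hs : ¬ Group.IsSolvable H) (ih : IH.{u} (Nat.card H)) :
    NoRad (H ⧸ pCore 2 H) :=
  H26.OC.jobRAD H95.OC.jobALM 8 le_rfl H h hs (fun L _ _ _ a b c => (ih L a b c).hasA4 j.a6l)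
    (pCore 2 H) (isPGroup_pCore 2 H)
    fun R a b => le_sSup (show R ∈ {N : Subgroup H | N.Normal ∧ IsPGroup 2 N} from ⟨a, b⟩)

theorem alm (j : JX.{u}) (h : Sp 8 H) (hs : ¬ Group.IsSolvable H) (ih : IH.{u} (Nat.card H)) :
    ∃ N : Subgroup (H ⧸ pCore 2 H), N.Normal ∧ K8 N ∧ centralizer (N : Set (H ⧸ pCore 2 H)) = ⊥ := by
  have h2 := isPGroup_pCore 2 H
  haveI : Nontrivial (H ⧸ pCore 2 H) := by
    rw [QuotientGroup.nontrivial_iff]
    intro e
    exact hs (H26.OC.solv_of_p Nat.prime_two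
      (h2.of_surjective (pCore 2 H).subtype fun x => ⟨⟨x, e ▸ mem_top x⟩, rfl⟩))
  have hq := h.quot (pCore 2 H)
  obtain ⟨N, n1, n2, n3, n4⟩ := H95.OC.jobALM _ hq (norad j h hs ih)
  exact ⟨N, n1, ih N n3 (hq.sub N) ((Nat.le_of_dvd Nat.card_pos (card_subgroup_dvd_card N)).trans
    (Nat.le_of_dvd Nat.card_pos (card_quotient_dvd_card _))), n4⟩

omit [Finite H] in
theorem Cov.res {K X : Type*} [Group K] [Group X] {f : H →* K} (h : Cov f) (N : Subgroup K)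
    (e : N ≃* X) : ∃ g : N.comap f →* X, Cov g ∧ (g.ker = ⊥ → f.ker = ⊥) := by
  let g := e.toMonoidHom.comp (f.subgroupComap N)
  have k : ∀ x : N.comap f, x ∈ g.ker ↔ (x : H) ∈ f.ker := fun x => by
    rw [MonoidHom.mem_ker, MonoidHom.mem_ker, MonoidHom.comp_apply, MulEquiv.coe_toMonoidHom,
      EmbeddingLike.map_eq_one_iff, Subtype.ext_iff]
    rfl
  refine ⟨g, ⟨h.sp.sub _, e.surjective.comp fun x => ?_, (isPGroup_subgroupOf h.two _).to_le
    fun x hx => (k x).1 hx⟩, fun r => eq_bot_iff.2 fun x hx => ?_⟩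
  · obtain ⟨y, hy⟩ := h.sur x
    exact ⟨⟨y, by rw [mem_comap, hy]; exact x.2⟩, Subtype.ext hy⟩
  · have m : x ∈ N.comap f := by rw [mem_comap, (MonoidHom.mem_ker).1 hx]; exact one_mem N
    exact congrArg Subtype.val (mem_bot.1 (r.le ((k ⟨x, m⟩).2 hx)))

theorem str (j : JX.{u}) (h : Sp 8 H) (hs : ¬ Group.IsSolvable H) (ih : IH.{u} (Nat.card H))
    (hb : pCore 2 H ≠ ⊥) : Nonempty (H ⧸ pCore 2 H ≃* A5) ∨ Nonempty (H ⧸ pCore 2 H ≃* S5) ∨
      Nonempty (H ⧸ pCore 2 H ≃* A6) ∨ Nonempty (H ⧸ pCore 2 H ≃* L32) := by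
  have c : Cov (QuotientGroup.mk' (pCore 2 H)) := ⟨h, QuotientGroup.mk'_surjective _, by
    rw [QuotientGroup.ker_mk']; exact isPGroup_pCore 2 H⟩
  have hk : (QuotientGroup.mk' (pCore 2 H)).ker ≠ ⊥ := by rwa [QuotientGroup.ker_mk']
  obtain ⟨N, n1, ⟨⟨e⟩⟩ | ⟨⟨e⟩⟩ | ⟨⟨e⟩⟩ | ⟨⟨e⟩⟩ | ⟨F, _, _, hF, ⟨e⟩⟩, n4⟩ := alm j h hs ih
  · rcases H95.OC.jobAUT5 _ N n1 ⟨e⟩ n4 with rfl | f
    · exact .inl ⟨topEquiv.symm.trans e⟩
    · exact .inr (.inl f)
  · by_cases w : ∃ w : H ⧸ pCore 2 H, orderOf w = 6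
    · obtain ⟨f⟩ := H95.OC.jobAUT6 _ N (h.quot _) n1 ⟨e⟩ n4 w
      obtain ⟨g, a, b⟩ := c.res ⊤ (topEquiv.trans f)
      exact absurd (b (j.xs6 j.x5 _ g a)) hk
    · obtain rfl := j.xm10 H _ _ N c hk n1 ⟨e⟩ n4 fun x r => w ⟨x, r⟩
      exact .inr (.inr (.inl ⟨topEquiv.symm.trans e⟩))
  · obtain ⟨g, a, b⟩ := c.res N e
    exact absurd (b (j.xa7 j.x5 j.f21 _ g a)) hk
  · obtain rfl := j.xf42 H _ _ N c hk n1 ⟨e⟩
    exact .inr (.inr (.inr ⟨topEquiv.symm.trans e⟩))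
  · obtain ⟨g, a, b⟩ := c.res N e
    exact absurd (b (j.xl34 j.x6 j.a6l j.f21 _ F hF g a)) hk

end

section
variable {G : Type u} [Group G] [Finite G]

theorem exists_mx (h : Big G) {B : Subgroup G} (h2 : IsPGroup 2 B) (hb : B ≠ ⊥) :
    ∃ M Q : Subgroup G, Mx M Q ∧ normalizer (B : Set G) ≤ M := by
  obtain ⟨C, ⟨c1, c2, c3⟩, mx⟩ := Set.exists_max_image
    {C : Subgroup G | IsPGroup 2 C ∧ C ≠ ⊥ ∧ normalizer (B : Set G) ≤ normalizer (C : Set G)}
    (fun C => Nat.card (normalizer (C : Set G))) (Set.toFinite _) ⟨B, h2, hb, le_rfl⟩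
  have m : ∀ D : Subgroup G, IsPGroup 2 D → D ≠ ⊥ → normalizer (C : Set G) ≤ normalizer (D : Set G) →
      normalizer (D : Set G) = normalizer (C : Set G) := fun D a b c =>
    (eq_of_le_of_card_ge c (mx D ⟨a, b, c3.trans c⟩)).symm
  have le : C ≤ pCoreOf 2 (normalizer (C : Set G)) := le_pCoreOf c1 le_normalizer le_rfl
  have ne : pCoreOf 2 (normalizer (C : Set G)) ≠ ⊥ := fun e => c2 (eq_bot_iff.2 (e ▸ le))
  have e := m _ (isPGroup_pCoreOf _) ne (self_le_normalizer_pCoreOf _)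
  exact ⟨_, _, ⟨isPGroup_pCoreOf _, ne, e, fun D a b c => le_pCoreOf a b c, m,
    (le_inf ((centralizer_le_normalizer _).trans e.le) le_rfl).trans (h.ch C c1 c2)⟩, c3⟩

theorem Mx.ne_top (h : Big G) {M Q : Subgroup G} (m : Mx M Q) : M ≠ ⊤ := m.eq ▸ h.loc Q m.two m.ne

omit [Finite G] in
theorem Mx.ext {M Q : Subgroup G} (m : Mx M Q) {X : Type} [Group X]
    (e : Nonempty (M ⧸ pCore 2 M ≃* X)) : Ext X M Q := by
  obtain ⟨e⟩ := e
  refine ⟨e.toMonoidHom.comp (QuotientGroup.mk' _), e.surjective.comp (QuotientGroup.mk'_surjective _), ?_⟩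
  rw [← MonoidHom.comap_ker, (MonoidHom.ker_eq_bot_iff _).2 e.injective, MonoidHom.comap_bot,
    QuotientGroup.ker_mk', ← m.core_eq, pCoreOf_subgroupOf]

theorem ih_sub {n : ℕ} (ih : IH.{u} n) (hn : Nat.card G ≤ n + 1) {M : Subgroup G} (hM : M ≠ ⊤) :
    IH.{u} (Nat.card M) := fun L _ _ _ a b c => ih L a b (by
  have := card_le_card_group M
  have : Nat.card M ≠ Nat.card G := fun e => hM ((card_eq_iff_eq_top M).1 e)
  omega)

theorem Mx.types (j : JX.{u}) (h : Big G) {n : ℕ} (ih : IH.{u} n) (hn : Nat.card G ≤ n + 1)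
    {M Q : Subgroup G} (m : Mx M Q) (hs : ¬ Group.IsSolvable M) :
    Ext A5 M Q ∨ Ext S5 M Q ∨ Ext A6 M Q ∨ Ext L32 M Q :=
  (str j (h.sp.sub M) hs (ih_sub ih hn (m.ne_top h)) fun e =>
    m.ne (m.core_eq ▸ pCoreOf_eq_bot_iff.2 e)).imp m.ext (Or.imp m.ext (Or.imp m.ext m.ext))

/-- A nonsolvable maximal 2-local subgroup exists. -/
theorem exists_nonsolv (j : JX.{u}) (h : Big G) {n : ℕ} (ih : IH.{u} n) (hn : Nat.card G ≤ n + 1)
    (hsim : ∀ N : Subgroup G, N.Normal → N = ⊥ ∨ N = ⊤) (hs : ¬ Group.IsSolvable G)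
    (hN : ¬ IsNGroup G) : ∃ M Q : Subgroup G, Mx M Q ∧ ¬ Group.IsSolvable M := by
  obtain ⟨N, ⟨p, T, hp, hT, hb, rfl⟩, hns⟩ : ∃ N : Subgroup G, IsLocalSubgroup N ∧ ¬ Group.IsSolvable N := by
    by_contra r
    exact hN fun N a => by_contra fun b => r ⟨N, a, b⟩
  have nt : normalizer (T : Set G) ≠ ⊤ := fun e => by
    rcases hsim T (normalizer_eq_top_iff.1 e) with r | rfl
    · exact hb r
    · exact hs (H26.OC.solv_of_p hp (isPGroup_top_iff.1 hT))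
  have hr := norad j (h.sp.sub _) hns (ih_sub ih hn nt)
  have ne : pCoreOf 2 (normalizer (T : Set G)) ≠ ⊥ := fun e => by
    have e' := pCoreOf_eq_bot_iff.1 e
    haveI : (T.subgroupOf (normalizer (T : Set G))).Normal := normal_in_normalizer
    haveI := H26.OC.solv_of_p hp ((isPGroup_subgroupOf hT (normalizer (T : Set G))).map
      (QuotientGroup.mk' (pCore 2 (normalizer (T : Set G)))))
    have := hr _ (Normal.map ‹_› _ (QuotientGroup.mk'_surjective _)) this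
    rw [Subgroup.map_eq_bot_iff, QuotientGroup.ker_mk', e', le_bot_iff, subgroupOf_eq_bot] at this
    exact hb (this.eq_bot_of_le le_normalizer)
  obtain ⟨M, Q, m, le⟩ := exists_mx h (isPGroup_pCoreOf (normalizer (T : Set G))) ne
  exact ⟨M, Q, m, fun s => hns (Group.isSolvable_of_isSolvable_injective
    (inclusion_injective ((self_le_normalizer_pCoreOf _).trans le)))⟩

end

end H74.O8
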