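import Cfsg.Agent.H74.O8E3

/-! Job X5 of the tower O8: elements of order 3 act freely on the kernel of an extension of `S5`. -/

set_option autoImplicit false

namespace H74.O8

open Cfsg Subgroup H98 H74.OC Equiv Equiv.Perm

universe u

set_option maxRecDepth 4000 in
theorem x5alg {V : Type*} [CommGroup V] (two : ∀ v : V, v * v = 1) (φ : S5 →* MulAut V)
    (h5 : ∀ σ, orderOf σ = 5 → ∀ v, φ σ v = v → v = 1)
    (h6 : ∀ v, φ c[0, 1, 2] v = v → φ (swap 3 4) v = v) (v : V) (hv : φ c[0, 1, 2] v = v) : v = 1 := by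
  have mul : ∀ a b w, φ (a * b) w = φ a (φ b w) := fun a b w => by rw [map_mul]; rfl
  have : Fact (Nat.Prime 5) := ⟨Nat.prime_five⟩
  have n5 : ∀ σ, σ ^ 5 = 1 → σ ≠ 1 → ∀ w,
      w * φ σ w * φ (σ * σ) w * φ (σ * σ * σ) w * φ (σ * σ * σ * σ) w = 1 := fun σ a b w =>
    h5 σ (orderOf_eq_prime a b) _ (by
      have : φ σ (φ σ (φ σ (φ σ (φ σ w)))) = w := by
        simp only [← mul]; rw [show σ * (σ * (σ * (σ * σ))) = σ ^ 5 by simp [pow_succ, mul_assoc], a]; simp
      simp only [map_mul, MulAut.mul_apply, this]; ac_rfl)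
  have main : ∀ u, φ c[0, 1, 2] u = u → φ (swap 0 1) u = u → u = 1 := fun u y t => by
    have s := h6 u y
    have key : ∀ (a b : S5) (i j k : ℕ), a = b * (c[0, 1, 2] ^ i * swap 0 1 ^ j * swap 3 4 ^ k) →
        φ a u = φ b u := fun a b i j k e => by
      have p : ∀ (g : S5) (n : ℕ), φ g u = u → φ (g ^ n) u = u := fun g n h => by
        induction n with
        | zero => simp
        | succ n ih => rw [pow_succ, mul, h, ih]
      rw [e, mul, mul, mul, p _ _ s, p _ _ t, p _ _ y]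
    have a1 := n5 c[0, 3, 4, 1, 2] (by decide) (by decide) u
    have a2 := n5 c[2, 3, 4, 1, 0] (by decide) (by decide) u
    have a3 := n5 c[2, 3, 4, 0, 1] (by decide) (by decide) u
    rw [key (c[0, 3, 4, 1, 2])
      (c[2, 3, 4, 1, 0]) 2 0 0 (by decide)] at a1
    rw [key (c[0, 3, 4, 1, 2] * c[0, 3, 4, 1, 2] * c[0, 3, 4, 1, 2])
      (c[2, 3, 4, 1, 0] * c[2, 3, 4, 1, 0] * c[2, 3, 4, 1, 0]) 1 1 1 (by decide)] at a1
    rw [key (c[2, 3, 4, 0, 1] * c[2, 3, 4, 0, 1] * c[2, 3, 4, 0, 1] * c[2, 3, 4, 0, 1])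
      (c[2, 3, 4, 1, 0] * c[2, 3, 4, 1, 0] * c[2, 3, 4, 1, 0] * c[2, 3, 4, 1, 0]) 1 0 0 (by decide)] at a3
    rw [key (c[2, 3, 4, 0, 1] * c[2, 3, 4, 0, 1] * c[2, 3, 4, 0, 1])
      (c[0, 3, 4, 1, 2] * c[0, 3, 4, 1, 2]) 2 0 0 (by decide)] at a3
    rw [key (c[2, 3, 4, 0, 1] * c[2, 3, 4, 0, 1])
      (c[2, 3, 4, 1, 0] * c[2, 3, 4, 1, 0]) 0 1 1 (by decide)] at a3
    rw [key (c[2, 3, 4, 0, 1])
      (swap 3 4 * (c[0, 3, 4, 1, 2] * c[0, 3, 4, 1, 2] * c[0, 3, 4, 1, 2] * c[0, 3, 4, 1, 2])) 2 0 1 (by decide)] at a3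
    generalize φ c[2, 3, 4, 1, 0] u = b41 at *
    generalize φ (c[2, 3, 4, 1, 0] * c[2, 3, 4, 1, 0]) u = b01 at *
    generalize φ (c[2, 3, 4, 1, 0] * c[2, 3, 4, 1, 0] * c[2, 3, 4, 1, 0]) u = b02 at *
    generalize φ (c[2, 3, 4, 1, 0] * c[2, 3, 4, 1, 0] * c[2, 3, 4, 1, 0] * c[2, 3, 4, 1, 0]) u = b23 at *
    generalize φ (c[0, 3, 4, 1, 2] * c[0, 3, 4, 1, 2]) u = b12 at *
    rw [mul] at a3
    generalize φ (c[0, 3, 4, 1, 2] * c[0, 3, 4, 1, 2] * c[0, 3, 4, 1, 2] * c[0, 3, 4, 1, 2]) u = a at *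
    have e : u = a * φ (swap 3 4) a := by
      have := congrArg₂ (· * ·) (congrArg₂ (· * ·) a1 a2) a3
      calc u = u * (u * u) * (b41 * b41) * (b12 * b12) * (b02 * b02) * (b01 * b01) * (b23 * b23) *
            (a * φ (swap 3 4) a * (a * φ (swap 3 4) a)) := by simp only [two, mul_one]
        _ = 1 * 1 * 1 * (a * φ (swap 3 4) a) := by rw [← this]; ac_rfl
        _ = _ := by simp
    have c : ∀ w, φ c[0, 1, 2] (φ (swap 3 4) w) = φ (swap 3 4) (φ c[0, 1, 2] w) := fun w => by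
      rw [← mul, ← mul, show c[0, 1, 2] * swap 3 4 = swap 3 4 * (c[0, 1, 2] : S5) by decide]
    have n := h6 _ (nfix (φ c[0, 1, 2]) (fun x => by
      rw [← mul, ← mul, show c[0, 1, 2] * c[0, 1, 2] * c[0, 1, 2] = (1 : S5) by decide]; simp) a)
    have e1 := congrArg (φ c[0, 1, 2]) e
    have e2 := congrArg (φ c[0, 1, 2]) e1
    rw [y, y] at e2
    rw [y] at e1
    simp only [map_mul, c] at e1 e2 n
    calc u = u * (u * u) := by rw [two, mul_one]
      _ = _ := congrArg₂ (· * ·) e (congrArg₂ (· * ·) e1 e2)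
      _ = _ * (φ (swap 3 4) a * φ (swap 3 4) (φ c[0, 1, 2] a) *
          φ (swap 3 4) (φ c[0, 1, 2] (φ c[0, 1, 2] a))) := ?_
      _ = 1 := by rw [n]; exact two _
    ac_rfl
  have t : φ c[0, 1, 2] (φ (swap 0 1) v) = φ (swap 0 1) v := by
    rw [← mul, show c[0, 1, 2] * swap 0 1 = swap 0 1 * (c[0, 1, 2] * c[0, 1, 2] : S5) by decide,
      mul, mul, hv, hv]
  have := main (v * φ (swap 0 1) v) (by rw [map_mul, hv, t]) (by
    rw [map_mul, ← mul, swap_mul_self, map_one, mul_comm]; rfl)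
  exact main v hv (mul_left_cancel (this.trans (two v).symm))

set_option maxRecDepth 4000 in
theorem x5ab {H : Type u} [Group H] [Finite H] {f : H →* S5} (h : Cov f) {V : Subgroup H} [V.Normal]
    (hV : IsElementaryAbelian 2 V) (hc : f.ker ≤ centralizer (V : Set H)) {y : H} (hy : orderOf (f y) = 3) :
    V ⊓ centralizer ({y} : Set H) = ⊥ := by
  letI := cg (H12.ea_le_centralizer hV)
  let φ : S5 →* MulAut V := f.liftOfSurjective h.sur ⟨MulAut.conjNormal, fun g hg => conj_one_iff.2 (hc hg)⟩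
  have e : ∀ g, φ (f g) = MulAut.conjNormal g := fun g => f.liftOfRightInverse_comp_apply _ _ _ g
  have m : ∀ g (v : V), φ (f g) v = v ↔ (v : H) ∈ centralizer ({g} : Set H) := fun g v => by
    rw [e, mem_centralizer_singleton_iff, Subtype.ext_iff, MulAut.conjNormal_apply,
      mul_inv_eq_iff_eq_mul, eq_comm]
  have V2 := H12.ea_isPGroup hV
  have key := x5alg (fun v => Subtype.ext (by rw [← pow_two]; exact hV.2 _ v.2)) φ (fun σ o v hv => by
    obtain ⟨g, rfl⟩ := h.sur σ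
    exact Subtype.ext (mem_bot.1 ((fpf h.sp (.inl (ord_eq h.sp f le_rfl o)) V2).le ⟨v.2, (m g v).1 hv⟩)))
    fun v hv => by
      obtain ⟨g, hg⟩ := h.sur (c[0, 1, 2] * swap 3 4)
      have o : orderOf g = 6 := ord_eq h.sp f (by norm_num) (by
        rw [hg, orderOf_eq_iff (by norm_num)]; decide)
      have o4 : orderOf (g ^ 4) = 3 := by rw [orderOf_pow, o]; rfl
      have t0 : g ^ 3 ∈ centralizer ({g ^ 4} : Set H) :=
        mem_centralizer_singleton_iff.2 (Commute.pow_pow_self _ 3 4)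
      have el := el3 h.sp o4 (U := zpowers (g ^ 3) ⊔ V ⊓ centralizer ({g ^ 4} : Set H))
        ((isPGroup_zpowers (k := 1) (by
          rw [← pow_mul]; exact orderOf_dvd_iff_pow_eq_one.1 (by rw [o]; rfl))).to_sup_of_normal_right'
          V2.to_inf_left (le_normalizer_inf le_normalizer_of_normal
            (le_normalizer_of_le (zpowers_le.2 t0)))) (sup_le (zpowers_le.2 t0) inf_le_right)
      rw [show c[0, 1, 2] = f (g ^ 4) by rw [map_pow, hg]; decide, m] at hv
      rw [show swap 3 4 = f (g ^ 3) by rw [map_pow, hg]; decide, m]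
      exact mem_centralizer_singleton_iff.2 (H12.ea_comm el (mem_sup_right (mem_inf.2 ⟨v.2, hv⟩))
        (mem_sup_left (mem_zpowers _)))
  have cy : (f y).IsCycle := isCycle_of_prime_order' (by rw [hy]; exact Nat.prime_three) (by rw [hy]; simp)
  have c0 : (c[0, 1, 2] : S5).IsCycle := isCycle_of_prime_order'
    (by rw [orderOf_eq_prime (p := 3) (by decide) (by decide)]; exact Nat.prime_three)
    (by rw [orderOf_eq_prime (p := 3) (by decide) (by decide)]; simp)
  obtain ⟨a, ha⟩ := isConj_iff.1 (cy.isConj c0 (by rw [← cy.orderOf, hy]; decide))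
  refine eq_bot_iff.2 fun v hv => ?_
  have := key (φ a ⟨v, hv.1⟩) (by
    rw [← ha, map_mul, map_mul, map_inv]
    simp only [MulAut.mul_apply, MulAut.inv_apply_self, (m y ⟨v, hv.1⟩).2 hv.2])
  exact congrArg Subtype.val ((map_eq_one_iff _ (φ a).injective).1 this)

theorem jobX5 : JobX5.{u} := by
  intro H _ _ f h y hy
  have o : orderOf (f y) = 3 := orderOf_eq_prime (by rw [← map_pow, ← hy, pow_orderOf_eq_one, map_one])
    fun e => by have := two_dvd_order h.two e (by rintro rfl; simp at hy); omega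
  clear hy
  induction hn : Nat.card H using Nat.strong_induction_on generalizing H with | _ n ih => ?_
  by_contra r
  have hk : f.ker ≠ ⊥ := fun e => r (by rw [e, bot_inf_eq])
  have : (oz 2 f.ker).Normal := normal_of_top_le_normalizer (le_normalizer_oz le_normalizer_of_normal)
  let g := QuotientGroup.lift (oz 2 f.ker) f (oz_le _)
  have kg : g.ker = f.ker.map (QuotientGroup.mk' _) := QuotientGroup.ker_lift _ _ _
  have := ih _ (by
      rw [← hn, card_eq_card_quotient_mul_card_subgroup (oz 2 f.ker)]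
      exact lt_mul_of_one_lt_right Nat.card_pos ((one_lt_card_iff_ne_bot _).2 (oz_ne_bot h.two hk)))
    _ g ⟨h.sp.quot _, fun x => (h.sur x).imp' QuotientGroup.mk fun _ e => e, kg ▸ h.two.map _⟩
    (y : H ⧸ oz 2 f.ker) o rfl
  refine r (eq_bot_iff.2 fun v hv => (x5ab h (ea_oz _) (le_centralizer_oz _) o).le ⟨?_, hv.2⟩)
  exact (QuotientGroup.eq_one_iff v).1 (mem_bot.1 (this.le ⟨hv.1, mem_centralizer_singleton_iff.2
    (congrArg QuotientGroup.mk (mem_centralizer_singleton_iff.1 hv.2))⟩))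

end H74.O8
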