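/- Tower R5 (S3194), slot T3: two primes divide `b / e`. -/
import Cfsg.Agent.H34.R5Spec
import Cfsg.Agent.S0205

set_option autoImplicit false

namespace H74.R5T3
open Cfsg Subgroup H41.IT H34.R5

universe u

section
variable {G : Type*} [Group G] [Finite G]

theorem exists_cen {p : ℕ} [hp : Fact p.Prime] {R : Subgroup G} (hR : IsPGroup p R) (h1 : R ≠ ⊥) :
    ∃ z ∈ R, orderOf z = p ∧ R ≤ C z := by
  have : Nontrivial R := (Subgroup.nontrivial_iff_ne_bot R).2 h1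
  have := hR.center_nontrivial
  have hc : IsPGroup p (center R) := hR.to_subgroup _
  obtain ⟨n, hn, e⟩ := hc.nontrivial_iff_card.1 inferInstance
  obtain ⟨z, hz⟩ := exists_prime_orderOf_dvd_card' (G := center R) p (by
    rw [e]; exact dvd_pow_self p hn.ne')
  refine ⟨((z : R) : G), (z : R).2, by rw [Subgroup.orderOf_coe, Subgroup.orderOf_coe, hz], fun g hg => ?_⟩
  exact mem_C.2 (congrArg Subtype.val (mem_center_iff.1 z.2 ⟨g, hg⟩))

omit [Finite G] in
theorem c_sub (B : Subgroup G) (g : B) : c g = Nat.card ↥(B ⊓ C (g : G)) := by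
  have h : C g = (B ⊓ C (g : G)).subgroupOf B := by
    ext k
    rw [mem_subgroupOf, mem_inf, mem_C, mem_C]
    exact ⟨fun m => ⟨k.2, congrArg Subtype.val m⟩, fun m => Subtype.ext m.2⟩
  unfold c
  rw [h]
  exact Nat.card_congr (subgroupOfEquivOfLe inf_le_left).toEquiv

theorem excl {p b e : ℕ} (hp : p.Prime) (hb : b ≠ 0) (h : p * e ∣ b) (h' : p ^ b.factorization p ∣ e) : False := by
  refine Nat.pow_succ_factorization_not_dvd hb hp ?_
  rw [pow_succ, mul_comm]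
  exact (Nat.mul_dvd_mul_left p h').trans h

/-- A Sylow subgroup of a subgroup, containing a given `p`-subgroup. -/
theorem exists_syl {p : ℕ} [hp : Fact p.Prime] (B : Subgroup G) {u : G} (hu : u ∈ B) (hpe : PE p u) :
    ∃ S ≤ B, u ∈ S ∧ IsPGroup p S ∧ Nat.card S = p ^ (Nat.card B).factorization p := by
  obtain ⟨k, hk⟩ := hpe
  have h1 : IsPGroup p (zpowers (⟨u, hu⟩ : B)) :=
    IsPGroup.of_card (n := k) (by rw [Nat.card_zpowers, ← Subgroup.orderOf_coe, hk])
  obtain ⟨S, hS⟩ := h1.exists_le_sylow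
  refine ⟨(S : Subgroup B).map B.subtype, map_subtype_le _, ⟨_, hS (mem_zpowers _), rfl⟩,
    S.isPGroup'.map _, ?_⟩
  rw [card_map_of_injective B.subtype_injective, S.card_eq_multiplicity]

theorem comm_of_pri {X : Type*} [Group X] [Finite X] (h : ∀ g : X, Pri g → g ∈ center X) :
    IsMulCommutative X := by
  have h1 : (center X).index = 1 := by
    by_contra hne
    obtain ⟨r, hr, hd⟩ := Nat.exists_prime_and_dvd hne
    have := Fact.mk hr
    obtain ⟨R⟩ : Nonempty (Sylow r X) := inferInstance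
    have hle : (R : Subgroup X) ≤ center X := fun g hg => by
      obtain ⟨k, hk⟩ := (IsPGroup.iff_orderOf.1 R.isPGroup') ⟨g, hg⟩
      exact h g ⟨r, k, hr, by rw [← hk, Subgroup.orderOf_mk]⟩
    exact R.not_dvd_index (hd.trans (index_dvd_of_le hle))
  rw [index_eq_one] at h1
  exact ⟨⟨fun a b => (mem_center_iff.1 (h1 ▸ mem_top b : b ∈ center X) a)⟩⟩

theorem pe_of_mem {p : ℕ} [Fact p.Prime] {R : Subgroup G} (hR : IsPGroup p R) {g : G} (hg : g ∈ R) :
    PE p g := by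
  obtain ⟨k, hk⟩ := (IsPGroup.iff_orderOf.1 hR) ⟨g, hg⟩
  exact ⟨k, by rw [← hk, Subgroup.orderOf_mk]⟩

end

theorem jobT3 : JobT3.{u} := by
  intro X1 X2 PA G _ _ x y e s q hs P M h hq hqs hb mf
  have := Fact.mk hq
  have b0 : c y ≠ 0 := Nat.card_pos.ne'
  have hse : s * e ∣ c y := dvd_trans ⟨q, by ring⟩ hb
  have hqe : q * e ∣ c y := dvd_trans ⟨s, by ring⟩ hb
  have hsb : s ∣ c y := (Dvd.intro _ rfl).trans hse
  have hqb : q ∣ c y := (Dvd.intro _ rfl).trans hqe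
  have hPc := h.sylow_card hsb P
  have cop : ∀ {a b : G}, PE s a → PE q b → (orderOf a).Coprime (orderOf b) := by
    rintro a b ⟨i, hi⟩ ⟨j, hj⟩
    rw [hi, hj]
    exact Nat.Coprime.pow _ _ ((Nat.coprime_primes hs.1 hq).2 hqs.symm)
  have nb : ∀ {p : ℕ} {R : Subgroup G}, p.Prime → p ∣ c y → Nat.card R = p ^ (c y).factorization p →
      R ≠ ⊥ := by
    intro p R hp hd hc m
    rw [m, card_bot] at hc
    have := Nat.one_lt_pow (hp.factorization_pos_of_dvd b0 hd).ne' hp.one_lt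
    omega
  obtain ⟨z, hzP, hzo, hz⟩ := exists_cen P.isPGroup' (nb hs.1 hsb hPc)
  have z1 : z ≠ 1 := fun m => hs.1.one_lt.ne (by rw [← hzo, m, orderOf_one])
  have zb : c z = c y := h.full hse P z1 hz
  have zpe : PE s z := ⟨1, by rw [hzo, pow_one]⟩
  obtain ⟨Q, hQ, -, hQp, hQc⟩ := exists_syl (p := q) (C z) (one_mem _) ⟨0, by simp⟩
  rw [show Nat.card (C z) = c y from zb] at hQc
  obtain ⟨w, hwQ, hwo, hw⟩ := exists_cen hQp (nb hq hqb hQc)
  have w1 : w ≠ 1 := fun m => hq.one_lt.ne (by rw [← hwo, m, orderOf_one])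
  have wpe : PE q w := ⟨1, by rw [hwo, pow_one]⟩
  have wb : c w ∣ c y := h.bdvd w1 hq hqb (hwo ▸ ord_dvd_c (mem_C.2 (Commute.refl w)))
  have zw : C z ≤ C w := by
    rcases h.inf z1 zb.dvd (mem_C.1 (hQ hwQ)).symm (cop zpe wpe) with m | m
    · exact inf_eq_left.1 (eq_of_le_of_card_ge inf_le_left (zb.trans m.symm).le)
    · exact (excl hq b0 hqe (hQc ▸ m ▸ card_dvd_of_le (le_inf hQ hw))).elim
  have ezw : C z = C w := C_eq zw (Nat.dvd_antisymm (zb ▸ wb) (card_dvd_of_le zw))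
  have key : ∀ g ∈ C z, Pri g → Nat.card ↥(C z ⊓ C g) = c y ∨ Nat.card ↥(C z ⊓ C g) = e := by
    rintro g hg ⟨r, k, hr, hk⟩
    by_cases hrs : r = s
    · rw [ezw] at hg ⊢
      exact h.inf w1 wb (mem_C.1 hg).symm (cop ⟨k, hrs ▸ hk⟩ wpe).symm
    · refine h.inf z1 zb.dvd (mem_C.1 hg).symm ?_
      rw [hzo, hk]
      exact Nat.Coprime.pow_right _ ((Nat.coprime_primes hs.1 hr).2 (Ne.symm hrs))
  have keyB : ∀ g : C z, Pri g → c g = Nat.card (C z) ∨ c g = e := by
    rintro g ⟨r, k, hr, hk⟩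
    rw [c_sub, show Nat.card (C z) = c y from zb]
    exact key g g.2 ⟨r, k, hr, by rw [Subgroup.orderOf_coe, hk]⟩
  have sol : Group.IsSolvable (C z) :=
    Cfsg.Agent.S0205.result (by rw [show Nat.card (C z) = c y from zb]; exact h.odd)
  by_cases hA : ∃ u ∈ (P : Subgroup G), u ≠ 1 ∧ c u = e
  · obtain ⟨v, hvP, v1, hv⟩ := hA
    have vpe := pe_of_mem P.isPGroup' hvP
    have hvz : v ∈ C z := hz hvP
    have hle : C v ≤ C z := ezw ▸ h.min v1 hv (mem_C.1 (ezw ▸ hvz)) (cop vpe wpe)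
    have cv : c (⟨v, hvz⟩ : C z) = e := by
      rw [c_sub, inf_eq_right.2 hle]
      exact hv
    have vpe' : PE s (⟨v, hvz⟩ : C z) := by
      obtain ⟨k, hk⟩ := vpe
      exact ⟨k, by rw [Subgroup.orderOf_mk, hk]⟩
    obtain ⟨hN, k, hk, ek⟩ := X1 (C z) sol e s q hs.1 hq hqs (by
        rw [show Nat.card (C z) = c y from zb]; exact hqe) keyB _ vpe' cv (by
      intro g hg hc k hk
      have g1 : Commute v (g : G) := (congrArg Subtype.val (mem_C.1 hg)).symm
      have k1 : (k : G) ∈ C v := mem_C.2 (congrArg Subtype.val (mem_C.1 hk))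
      have := h.min v1 hv g1 (by
        obtain ⟨i, hi⟩ := vpe
        rw [hi, Subgroup.orderOf_coe]
        exact Nat.Coprime.pow_left _ hc.symm) k1
      exact Subtype.ext (mem_C.1 this).symm)
    exact X2 (C z) sol e s q hs.1 hq hqs (by rw [show Nat.card (C z) = c y from zb]; exact hb) keyB
      _ k vpe' hk cv ek hN
  have hB : ∀ v ∈ (P : Subgroup G), v ≠ 1 → c v = c y := by
    intro v hv v1
    obtain ⟨k, hk⟩ := pe_of_mem P.isPGroup' hv
    have k0 : k ≠ 0 := fun m => v1 (by rw [← orderOf_eq_one_iff, hk, m, pow_zero])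
    exact (h.bval v1 hs.1 hsb ((dvd_pow_self s k0).trans
      (hk ▸ ord_dvd_c (mem_C.2 (Commute.refl v))))).resolve_right fun m => hA ⟨v, hv, v1, m⟩
  have cj : ∀ v ∈ (P : Subgroup G), ∃ n ∈ M, n * v * n⁻¹ ∈ (P : Subgroup G) ∧
      ∀ k ∈ (P : Subgroup G), Commute (n * v * n⁻¹) k := by
    intro v hv
    by_cases v1 : v = 1
    · exact ⟨1, one_mem _, by simpa using hv, fun k _ => by simp [v1]⟩
    obtain ⟨S, hS, hvS, hSp, hSc⟩ := exists_syl (p := s) (C v) (mem_C.2 (Commute.refl v))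
      (pe_of_mem P.isPGroup' hv)
    rw [show Nat.card (C v) = c y from hB v hv v1] at hSc
    obtain ⟨P', hP'⟩ := hSp.exists_le_sylow
    have eS : S = P' := eq_of_le_of_card_ge hP' (by rw [hSc, h.sylow_card hsb P'])
    obtain ⟨g, hg⟩ := MulAction.exists_smul_eq G P' P
    have mem : ∀ k : G, k ∈ (P : Subgroup G) ↔ g⁻¹ * k * g ∈ S := by
      intro k
      rw [← hg, eS, Sylow.coe_subgroup_smul, Subgroup.mem_pointwise_smul_iff_inv_smul_mem]
      simp [MulAut.smul_def]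
    have m1 : g * v * g⁻¹ ∈ (P : Subgroup G) := (mem _).2 (by simpa [mul_assoc] using hvS)
    obtain ⟨n, hn, en⟩ := mf.fus v hv g m1
    refine ⟨n, hn, en ▸ m1, fun k hk => ?_⟩
    have := mem_C.1 (hS ((mem k).1 hk))
    rw [en]
    have e2 : g * v * g⁻¹ * k = g * (v * (g⁻¹ * k * g)) * g⁻¹ := by group
    rw [Commute, SemiconjBy, e2, ← this.eq]
    group
  have ab : ∀ a ∈ (P : Subgroup G), ∀ b ∈ (P : Subgroup G), Commute a b := by
    intro a ha b hb'
    have := PA M (Cfsg.Agent.S0205.result mf.odd) s (P.subtype mf.le) (fun g hg => by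
      obtain ⟨n, hn, h1, h2⟩ := cj g hg
      exact ⟨⟨n, hn⟩, h1, fun k hk => Subtype.ext (h2 k hk)⟩) ⟨a, mf.le ha⟩ ha ⟨b, mf.le hb'⟩ hb'
    exact congrArg Subtype.val this
  have cen : ∀ v ∈ (P : Subgroup G), C z ≤ C v := by
    intro v hv
    have hP : (P : Subgroup G) ≤ C w ⊓ C v := le_inf (ezw ▸ hz) fun k hk => mem_C.2 (ab k hk v hv)
    rcases h.inf w1 wb (mem_C.1 (ezw ▸ hz hv)).symm (cop (pe_of_mem P.isPGroup' hv) wpe).symm with m | m
    · rw [ezw]
      refine inf_eq_left.1 (eq_of_le_of_card_ge inf_le_left ?_)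
      rw [m, ← ezw]
      exact zb.le
    · exact (excl hs.1 b0 hse (hPc ▸ m ▸ card_dvd_of_le hP)).elim
  refine h.nab z zb (comm_of_pri fun g hg => mem_center_iff.2 fun k => ?_)
  have hP : (P : Subgroup G) ≤ C z ⊓ C (g : G) :=
    le_inf hz fun v hv => mem_C.2 (mem_C.1 (cen v hv g.2)).symm
  obtain ⟨r, i, hr, hi⟩ := hg
  rcases key g g.2 ⟨r, i, hr, by rw [Subgroup.orderOf_coe, hi]⟩ with m | m
  · have : C z ≤ C (g : G) := inf_eq_left.1 (eq_of_le_of_card_ge inf_le_left (zb.trans m.symm).le)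
    exact Subtype.ext (mem_C.1 (this k.2))
  · exact (excl hs.1 b0 hse (hPc ▸ m ▸ card_dvd_of_le hP)).elim

end H74.R5T3
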