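import Cfsg.Agent.H74.RESpec
import Cfsg.Agent.S2775

/-! Tower NF (S1308), chapter RE: Goldschmidt's theorem makes `F O` normal. -/

set_option autoImplicit false

namespace H74.RE

open Cfsg Subgroup H14 H98 H1.Gold H31.S2 H14.GC H14.FE H14.NF
open scoped commutatorElement

universe u

theorem go_comm {X : Type*} [Group X] (h : ∀ a : X, a * a = 1) (a b : X) : a * b = b * a := by
  have h1 : ∀ c : X, c⁻¹ = c := fun c => inv_eq_of_mul_eq_one_right (h c)
  calc a * b = (a * b)⁻¹ := (h1 _).symm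
    _ = b⁻¹ * a⁻¹ := mul_inv_rev a b
    _ = b * a := by rw [h1, h1]

theorem go_commEl {X : Type u} [Group X] {Y : Subgroup X} (h : El Y) {a b : X} (ha : a ∈ Y)
    (hb : b ∈ Y) : a * b = b * a := by
  have := go_comm (X := Y) (fun c => Subtype.ext (h c c.2)) ⟨a, ha⟩ ⟨b, hb⟩
  exact congrArg Subtype.val this

theorem jobGO : JobGO.{u} := by
  intro sc G _ _ Q R T h
  obtain ⟨syl, str, el, dec⟩ := sc G Q R T h
  have hQ := h.normal
  set F := FF R T with hF
  let K : Subgroup G := normalClosure (F : Set G)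
  have hFK : F ≤ K := le_normalClosure
  have hN : (pPrimeCore 2 K).Normal := Subgroup.sSup_normal _ (fun _ h => h.1)
  let π := QuotientGroup.mk' (pPrimeCore 2 K)
  have hπ : Function.Surjective π := QuotientGroup.mk'_surjective _
  obtain ⟨h1, h2, ⟨T', -, h3⟩, -⟩ := Cfsg.Agent.S2775.result syl.toSylowTop F
    ⟨⟨fun a b => Subtype.ext (go_commEl el a.2 b.2)⟩⟩ str K rfl _ π hπ (QuotientGroup.ker_mk' _)
  have hO : (opp 2 K).Normal := by
    refine normalizer_eq_top_iff.1 (top_le_iff.1 ?_)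
    refine le_trans ?_ (normalizer_le_normalizer_opp K)
    exact (normalizer_eq_top K).ge
  have hcop := coprime_card_opp (p := 2) K
  let ρ := QuotientGroup.mk' (opp 2 K)
  let σ := QuotientGroup.mk' Q
  have eqv : ∀ a b : K, π a = π b ↔ ρ a = ρ b := by
    intro a b
    simp only [π, ρ, QuotientGroup.mk'_apply, QuotientGroup.eq]
    rw [← opp_subgroupOf, mem_subgroupOf]
    simp
  have hσ : ∀ x : G, σ x = 1 ↔ x ∈ Q := fun x => QuotientGroup.eq_one_iff x
  have hsq : ∀ a : G ⧸ Q, a * a = 1 := by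
    intro a
    obtain ⟨x, rfl⟩ := QuotientGroup.mk'_surjective Q a
    obtain ⟨q, hq, t, ht, rfl⟩ := h.top x
    change σ (q * t) * σ (q * t) = 1
    rw [map_mul, (hσ q).2 hq, one_mul, ← map_mul, h.elT t ht, map_one]
  have hOQ : ∀ o ∈ opp 2 K, σ o = 1 := by
    intro o ho
    have a1 : orderOf (σ o) ∣ 2 := orderOf_dvd_of_pow_eq_one (by rw [sq]; exact hsq _)
    have a2 : orderOf (σ o) ∣ Nat.card (opp 2 K) :=
      (orderOf_map_dvd σ o).trans (Subgroup.orderOf_dvd_natCard _ ho)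
    exact orderOf_eq_one_iff.1 (Nat.eq_one_of_dvd_coprimes hcop a2 a1)
  have hρσ : ∀ a b : G, ρ a = ρ b → σ a = σ b := by
    intro a b hab
    have := hOQ _ (QuotientGroup.eq.1 hab)
    rw [map_mul, map_inv, inv_mul_eq_one] at this
    exact this
  have hcomm : ∀ k ∈ commutator K, σ (k : G) = 1 := by
    have : commutator K ≤ (σ.comp K.subtype).ker := commutator_le.2 fun a _ b _ => by
      rw [MonoidHom.mem_ker, map_commutatorElement, commutatorElement_eq_one_iff_mul_comm]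
      exact go_comm hsq _ _
    exact fun k hk => this hk
  have hcm : commutator (K ⧸ pPrimeCore 2 K) = (commutator K).map π := by
    rw [_root_.commutator_def, _root_.commutator_def, map_commutator, map_top_of_surjective _ hπ]
  have hKρ : (K.map ρ).Normal := Normal.map inferInstance ρ (QuotientGroup.mk'_surjective _)
  let Z : Subgroup G := (centralizer (K.map ρ : Set (G ⧸ opp 2 K))).comap ρ
  have hZ : Z.Normal := inferInstance
  have memZ : ∀ f : K, π f ∈ center (K ⧸ pPrimeCore 2 K) ↔ (f : G) ∈ Z := by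
    intro f
    constructor
    · rintro hf _ ⟨k, hk, rfl⟩
      have := mem_center_iff.1 hf (π ⟨k, hk⟩)
      rw [← map_mul, ← map_mul, eqv] at this
      simpa using this
    · intro hf
      refine mem_center_iff.2 fun g => ?_
      obtain ⟨k, rfl⟩ := hπ g
      rw [← map_mul, ← map_mul, eqv]
      have := hf (ρ k) ⟨k, k.2, rfl⟩
      simpa using this
  have hRQ : R ≤ Q := h.syl.1
  have s3 : ∀ t ∈ T, ∃ r ∈ R, r ∈ cen T ∧ t * r ∈ Z := by
    intro t ht
    have htK : t ∈ K := hFK (mem_sup_left ht)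
    have : π ⟨t, htK⟩ ∈ pCore 2 (K ⧸ pPrimeCore 2 K) ⊔ commutator (K ⧸ pPrimeCore 2 K) := by
      rw [h1]; trivial
    obtain ⟨z, hz, c, hc, e⟩ := mem_sup_of_normal_right.1 this
    have hz' : z ∈ (F.subgroupOf K).map π := by rw [h3]; exact mem_sup_left hz
    obtain ⟨f, hf, rfl⟩ := hz'
    rw [hcm] at hc
    obtain ⟨k, hk, rfl⟩ := hc
    rw [← map_mul, eqv] at e
    have e2 := hρσ _ _ e
    obtain ⟨t', ht', r, hr, hrc, e3⟩ := dec f (mem_subgroupOf.1 hf)
    rw [coe_mul, map_mul, hcomm k hk, mul_one, e3, map_mul, (hσ r).2 (hRQ hr), mul_one] at e2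
    have e4 : t'⁻¹ * t = 1 := h.disj _ (T.mul_mem (T.inv_mem ht') ht) (QuotientGroup.eq.1 e2)
    rw [inv_mul_eq_one] at e4
    refine ⟨r, hr, hrc, ?_⟩
    rw [← e4, ← e3]
    exact (memZ f).1 (h2 hz)
  obtain ⟨y, hy, -, hon⟩ := h.onto
  have s4 : ∀ r ∈ R, r ∈ cen T → r ∈ Z := by
    intro r0 hr0 hc0
    obtain ⟨t, ht, rfl⟩ := hon r0 hr0 hc0
    obtain ⟨r, hr, -, hz⟩ := s3 t ht
    have e : ⁅y, t⁆ = y * (t * r) * y⁻¹ * (t * r)⁻¹ := by
      have := go_commEl h.elR hr (R.inv_mem hy)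
      calc ⁅y, t⁆ = y * t * (y⁻¹ * r) * r⁻¹ * t⁻¹ := by rw [commutatorElement_def]; group
        _ = y * (t * r) * y⁻¹ * (t * r)⁻¹ := by rw [← this]; group
    rw [e]
    exact Z.mul_mem (hZ.conj_mem _ hz y) (Z.inv_mem hz)
  have s5 : F ≤ Z := by
    refine sup_le (fun t ht => ?_) (fun r hr => s4 r hr.1 hr.2)
    obtain ⟨r, hr, hc, hz⟩ := s3 t ht
    have := Z.mul_mem hz (Z.inv_mem (s4 r hr hc))
    simpa using this
  have s6 : K ≤ Z := normalClosure_le_normal s5
  have s7 : commutator (K ⧸ pPrimeCore 2 K) = ⊥ := by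
    rw [eq_bot_iff]
    refine commutator_le.2 fun a _ b _ => ?_
    obtain ⟨k, rfl⟩ := hπ b
    rw [mem_bot, commutatorElement_eq_one_iff_mul_comm]
    exact mem_center_iff.1 ((memZ k).2 (s6 k.2)) a
  have s8 : F ⊔ opp 2 K = K := by
    refine le_antisymm (sup_le hFK (opp_le K)) fun k hk => ?_
    have : π ⟨k, hk⟩ ∈ (F.subgroupOf K).map π := by
      rw [h3]
      refine mem_sup_left ?_
      rw [s7, sup_bot_eq] at h1
      rw [h1]; trivial
    obtain ⟨f, hf, e⟩ := this
    rw [eqv] at e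
    have e2 : (f : G)⁻¹ * k ∈ opp 2 K := QuotientGroup.eq.1 e
    have := (F ⊔ opp 2 K).mul_mem (mem_sup_left (mem_subgroupOf.1 hf)) (mem_sup_right e2)
    simpa using this
  refine ⟨opp 2 K, hO, Nat.coprime_two_right.1 hcop, ?_⟩
  rw [s8]
  infer_instance

end H74.RE
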