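import Cfsg.Agent.H14.NF0

/-! Tower NF (S1308), chapter RE: definitions, jobs and glue. Proofs: in the job texts. -/

set_option autoImplicit false

namespace H74.RE

open Cfsg Subgroup H14 H98 H1.Gold H31.S2 H14.GC H14.FE H14.NF
open scoped commutatorElement

universe u

section Defs

variable {G : Type u} [Group G]

/-- `F = T × C_R(T)` -/
abbrev FF (R T : Subgroup G) : Subgroup G := T ⊔ (R ⊓ cen T)

/-- The local data of a non-full edge with elementary Sylow subgroup `R`. -/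
structure Rs0 (Q R T : Subgroup G) : Prop where
  nQ : T ≤ nor Q
  syl : IsSyl 2 R Q
  elR : El R
  elT : El T
  four : Four T
  nR : T ≤ nor R
  disj : ∀ t ∈ T, t ∈ Q → t = 1
  c1 : ∀ t ∈ T, t ≠ 1 → ∀ r ∈ R, r * t = t * r → r ∈ cen T
  onto : ∃ y ∈ R, y ∉ cen T ∧ ∀ r ∈ R, r ∈ cen T → ∃ t ∈ T, ⁅y, t⁆ = r

/-- The same in the group `Q T`. -/
structure Rs (Q R T : Subgroup G) : Prop extends Rs0 Q R T where
  normal : Q.Normal
  top : ∀ x : G, ∃ q ∈ Q, ∃ t ∈ T, x = q * t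

end Defs

def SET : Prop := ∀ (G : Type u) [Group G] [Finite G] (K T : Subgroup G) (g : G), NE K g T → El T →
  Four T → (∀ R, IsSyl 2 R (cen K) → El R) → ∃ R, Rs0 (cen K) R T

def TR : Prop := ∀ (G : Type u) [Group G] [Finite G] (Q R T : Subgroup G), Rs0 Q R T →
  Rs (Q.subgroupOf (Q ⊔ T)) (R.subgroupOf (Q ⊔ T)) (T.subgroupOf (Q ⊔ T))

def NR : Prop := ∀ (G : Type u) [Group G] [Finite G] (Q R T : Subgroup G), Rs Q R T →
  ∀ d ∈ Q, d ∈ nor R → ∀ r ∈ R, r ∈ cen T → d * r * d⁻¹ ∈ cen T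

def SC : Prop := ∀ (G : Type u) [Group G] [Finite G] (Q R T : Subgroup G), Rs Q R T →
  IsSyl 2 (R ⊔ T) ⊤ ∧ IsStronglyClosed (FF R T) (R ⊔ T) ∧ El (FF R T) ∧
    ∀ f ∈ FF R T, ∃ t ∈ T, ∃ r ∈ R, r ∈ cen T ∧ f = t * r

def JobSC : Prop := NR.{u} → SC.{u}

def GO : Prop := ∀ (G : Type u) [Group G] [Finite G] (Q R T : Subgroup G), Rs Q R T →
  ∃ O : Subgroup G, O.Normal ∧ Odd (Nat.card O) ∧ (FF R T ⊔ O).Normal

def JobGO : Prop := SC.{u} → GO.{u}

def SV0 : Prop := ∀ (G : Type u) [Group G] [Finite G] (Q R F : Subgroup G), Q.Normal → F.Normal →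
  IsSyl 2 R Q → IsPGroup 2 F → F ⊓ Q ≤ cen R → R ⊓ cen F ≤ F → Group.IsSolvable Q

def SV : Prop := ∀ (G : Type u) [Group G] [Finite G] (Q R T : Subgroup G), Rs Q R T →
  Group.IsSolvable Q

def JobSV : Prop := SC.{u} → GO.{u} → SV0.{u} → SV.{u}

def FIN : Prop := ∀ (G : Type u) [Group G] [Finite G] (K : Subgroup G), Four (cen K) →
  Group.IsSolvable (cen K) → (∀ R, IsSyl 2 R (cen K) → El R) → H51.CT.Concl K

theorem ch_of (set : SET.{u}) (tr : TR.{u}) (nr : NR.{u}) (sc : JobSC.{u}) (go : JobGO.{u})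
    (sv0 : SV0.{u}) (sv : JobSV.{u}) (fin : FIN.{u}) : ChRE.{u} := by
  intro G _ _ K _ g T ne el four hR
  obtain ⟨R, h⟩ := set G K T g ne el four hR
  have := sv (sc nr) (go (sc nr)) sv0 _ _ _ _ (tr G _ R T h)
  exact fin G K ne.four (Group.isSolvable_of_surjective (f := (subgroupOfEquivOfLe
    (le_sup_left : cen K ≤ cen K ⊔ T)).toMonoidHom) (MulEquiv.surjective _)) hR

end H74.RE
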