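import Cfsg.Agent.H74.REGo
import Cfsg.Agent.H96.RESet
import Cfsg.Agent.H77.ReTR
import Cfsg.Agent.H97.RENR
import Cfsg.Agent.H99.RESC
import Cfsg.Agent.H19.ReSV0
import Cfsg.Agent.H69.RESV
import Cfsg.Agent.H30.REFin

/-! Tower NF (S1308): chapter RE. -/

set_option autoImplicit false

namespace H74.RE

universe u

theorem ch : H14.NF.ChRE.{u} :=
  ch_of H96.RESet.set H77.ReTR.jobTR H97.RENR.nr H99.RESC.jobSC jobGO H19.ReSV0.sv0
    H69.RESV.jobSV H30.REFin.fin

end H74.RE
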