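import Cfsg.Agent.H61.SL2Lift

set_option autoImplicit false

namespace H74.Red

open MulAction H61
open scoped Pointwise

/-- some Sylow `r`-subgroup is redundant -/
def Red (r : ℕ) (G : Type*) [Group G] : Prop :=
  ∃ Q : Sylow r G, ∀ x : G, (∃ k : ℕ, orderOf x = r ^ k) → ∃ P : Sylow r G, P ≠ Q ∧ x ∈ P

variable {G : Type*} [Group G] [Finite G] {r : ℕ} [hr : Fact r.Prime]

theorem isPGroup_zpowers {x : G} (hx : ∃ k : ℕ, orderOf x = r ^ k) :
    IsPGroup r (Subgroup.zpowers x) := by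
  obtain ⟨k, hk⟩ := hx
  exact IsPGroup.of_card (n := k) (by rw [Nat.card_zpowers, hk])

theorem order_of_mem (P : Sylow r G) {x : G} (hx : x ∈ P) : ∃ k : ℕ, orderOf x = r ^ k := by
  obtain ⟨k, hk⟩ := IsPGroup.iff_orderOf.1 P.isPGroup' ⟨x, hx⟩
  exact ⟨k, (Subgroup.orderOf_coe (⟨x, hx⟩ : (P : Subgroup G))).trans hk⟩

theorem not_red {x : G} (hx : ∃ k : ℕ, orderOf x = r ^ k) (D : Subgroup G)
    (h : ∀ P : Sylow r G, x ∈ P → (P : Subgroup G) = D) : ¬ Red r G := by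
  rintro ⟨Q, hQ⟩
  obtain ⟨P0, h0⟩ := (isPGroup_zpowers hx).exists_le_sylow
  obtain ⟨g, rfl⟩ := exists_smul_eq G P0 Q
  obtain ⟨P, hP, hxP⟩ := hQ (g * x * g⁻¹) (by
    obtain ⟨k, hk⟩ := hx
    exact ⟨k, by rw [← hk]; exact (MulAut.conj g).orderOf_eq x⟩)
  apply hP
  have h1 : x ∈ (g⁻¹ • P : Sylow r G) := by
    change x ∈ ((g⁻¹ • P : Sylow r G) : Subgroup G)
    rw [Sylow.coe_subgroup_smul, Subgroup.mem_pointwise_smul_iff_inv_smul_mem]
    simpa using (show g * x * g⁻¹ ∈ (P : Subgroup G) from hxP)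
  have h2 : g⁻¹ • P = P0 :=
    Sylow.ext ((h _ h1).trans (h P0 (h0 (Subgroup.mem_zpowers x))).symm)
  rw [← h2, smul_inv_smul]

theorem not_red_of_cyclic (h : ∀ P : Sylow r G, IsCyclic (P : Subgroup G)) : ¬ Red r G := by
  obtain ⟨P0⟩ : Nonempty (Sylow r G) := inferInstance
  obtain ⟨x, hx⟩ := (Subgroup.isCyclic_iff_exists_zpowers_eq_top _).1 (h P0)
  have hm : x ∈ (P0 : Subgroup G) := hx ▸ Subgroup.mem_zpowers x
  refine not_red (order_of_mem P0 hm) P0 fun P hP => ?_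
  exact P0.is_maximal' P.isPGroup' (hx ▸ (Subgroup.zpowers_le.2 hP))

theorem mem_iff_map {H : Type*} [Group H] {f : G →* H} (hf : Function.Surjective f)
    (hk : f.ker ≤ Subgroup.center G) (P : Sylow r G) {x : G} (hx : ∃ k : ℕ, orderOf x = r ^ k)
    (h : f x ∈ P.mapSurjective hf) : x ∈ P := by
  obtain ⟨y, hy, e⟩ := h
  have hz : y⁻¹ * x ∈ Subgroup.center G := hk (by simp [MonoidHom.mem_ker, e])
  have hs : IsPGroup r (Subgroup.zpowers x ⊔ (P : Subgroup G) : Subgroup G) := by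
    refine (isPGroup_zpowers hx).to_sup_of_normal_right' P.isPGroup' ?_
    rw [Subgroup.zpowers_le]
    have : x = y * (y⁻¹ * x) := by group
    rw [this]
    exact Subgroup.mul_mem _ (Subgroup.le_normalizer hy)
      (Subgroup.center_le_normalizer _ hz)
  have := P.is_maximal' hs le_sup_right
  change x ∈ (P : Subgroup G)
  rw [← this]
  exact Subgroup.mem_sup_left (Subgroup.mem_zpowers x)

theorem red_iff {H : Type*} [Group H] [Finite H] {f : G →* H} (hf : Function.Surjective f)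
    (hk : f.ker ≤ Subgroup.center G) : Red r G ↔ Red r H := by
  constructor
  · rintro ⟨Q, hQ⟩
    refine ⟨Q.mapSurjective hf, fun x hx => ?_⟩
    obtain ⟨P0, h0⟩ := (isPGroup_zpowers hx).exists_le_sylow
    obtain ⟨P0, rfl⟩ := Sylow.mapSurjective_surjective hf r P0
    obtain ⟨y, hy, rfl⟩ := h0 (Subgroup.mem_zpowers x)
    obtain ⟨P, hP, hyP⟩ := hQ y (order_of_mem P0 hy)
    refine ⟨P.mapSurjective hf, fun e => hP ?_, y, hyP, rfl⟩
    refine Sylow.ext (P.is_maximal' Q.isPGroup' fun z hz => ?_).symm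
    exact mem_iff_map hf hk Q (order_of_mem P hz) (e ▸ ⟨z, hz, rfl⟩)
  · rintro ⟨Q, hQ⟩
    obtain ⟨Q, rfl⟩ := Sylow.mapSurjective_surjective hf r Q
    refine ⟨Q, fun x hx => ?_⟩
    obtain ⟨P0, h0⟩ := (isPGroup_zpowers hx).exists_le_sylow
    obtain ⟨P, hP, hxP⟩ := hQ (f x)
      (order_of_mem (P0.mapSurjective hf) ⟨x, h0 (Subgroup.mem_zpowers x), rfl⟩)
    obtain ⟨P, rfl⟩ := Sylow.mapSurjective_surjective hf r P
    exact ⟨P, fun e => hP (e ▸ rfl), mem_iff_map hf hk P hx hxP⟩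

variable {X : Type*} [MulAction G X] {p : ℕ} {h : Hur p G X} {x y : X} {q d n : ℕ}

theorem not_red_char (m : Main h x y q d n) (e : r = p) : ¬ Red r G := by
  subst e
  obtain ⟨⟨u, hu⟩, h1⟩ := (Subgroup.ne_bot_iff_exists_ne_one).1 (m.Q_ne_bot (mem_orbit_self x))
  have h1' : u ≠ 1 := fun e => h1 (Subtype.ext e)
  refine not_red (x := u) ⟨1, ?_⟩ (h.Q x) fun P hP => ?_
  · rw [pow_one]; exact orderOf_eq_prime (h.mem_Q.1 hu).2 h1'
  · obtain ⟨a, ha⟩ := h.exists_Q_eq_sylow P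
    have : u ∈ h.Q a := ha ▸ hP
    rw [ha, h.eq_of_Q_inf this hu h1']

theorem not_red_two (m : Main h x y q d n) {a b : X} (hab : a ≠ b) {j c : ℕ}
    (hj : Nat.card (tor G a b) = 2 ^ (j + 1)) (hc : Odd c)
    (hG : Nat.card G = 2 * 2 ^ (j + 1) * c) : ¬ Red 2 G := by
  haveI : Fact (Nat.Prime 2) := ⟨Nat.prime_two⟩
  have hne : tor G a b ≠ ⊥ := fun e => by
    rw [e, Subgroup.card_bot, pow_succ] at hj; omega
  obtain ⟨g, hg⟩ := (Subgroup.isCyclic_iff_exists_zpowers_eq_top _).1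
    (h.isCyclic_stabilizer_inf hab)
  have hg' : Subgroup.zpowers g = tor G a b := hg
  obtain ⟨w, w1, w2⟩ := m.exists_swap hab hne
  have hD : IsPGroup 2 (pairStab G a b) :=
    IsPGroup.of_card (n := j + 2) (by rw [card_pairStab hab w1 w2, hj]; ring)
  refine not_red (x := g) ⟨j + 1, by rw [← Nat.card_zpowers, hg', hj]⟩ (pairStab G a b)
    fun P hP => (P.is_maximal' hD ?_).symm
  have hle : tor G a b ≤ P := hg' ▸ Subgroup.zpowers_le.2 hP
  rw [← h.normalizer_eq_pairStab hab le_rfl hne, ← Subgroup.normal_subgroupOf_iff_le_normalizer hle]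
  obtain ⟨i, hi⟩ := P.isPGroup'.exists_card_eq
  have h1 : Nat.card (P : Subgroup G) ∣ 2 * 2 ^ (j + 1) := by
    have := Subgroup.card_subgroup_dvd_card (P : Subgroup G)
    rw [hG] at this
    refine Nat.Coprime.dvd_of_dvd_mul_right ?_ this
    rw [hi]
    exact (Nat.coprime_two_left.2 hc).pow_left i
  rw [← ((tor G a b).subgroupOf P).index_mul_card,
    Nat.card_congr (Subgroup.subgroupOfEquivOfLe hle).toEquiv, hj] at h1
  rcases (Nat.dvd_prime Nat.prime_two).1 (Nat.dvd_of_mul_dvd_mul_right (by positivity) h1) with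
    e | e
  · rw [Subgroup.index_eq_one.1 e]; infer_instance
  · exact Subgroup.normal_of_index_eq_two e

theorem red_two (m : Main h x y q d n) (hp : p ≠ 2) (he : 2 ∣ Nat.card G)
    (hd : 2 ∣ d → ∀ j, d ≠ 2 ^ j) (hn : 2 ∣ n → ∀ j, n ≠ 2 ^ j) : Red 2 G := by
  haveI : Fact (Nat.Prime 2) := ⟨Nat.prime_two⟩
  have key : ∀ g : G, g ≠ 1 → (∃ k : ℕ, orderOf g = 2 ^ k) →
      ∃ P P' : Sylow 2 G, P ≠ P' ∧ g ∈ P ∧ g ∈ P' := by
    intro g g1 hg
    have h2 : 2 ∣ orderOf g := by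
      obtain ⟨k, hk⟩ := hg
      rw [hk]
      refine dvd_pow_self 2 ?_
      rintro rfl
      exact g1 (orderOf_eq_one_iff.1 hk)
    obtain ⟨a, b, hab, ht⟩ := h.exists_tor (h.pow_p_ne_one_of_coprime g1 (by
      obtain ⟨k, hk⟩ := hg
      rw [hk]
      exact fun hc => hp ((Nat.prime_dvd_prime_iff_eq h.prime Nat.prime_two).1
        (h.prime.dvd_of_dvd_pow hc))))
    have hne : tor G a b ≠ ⊥ := fun e => g1 (by rwa [e] at ht)
    have hev : 2 ∣ Nat.card (tor G a b) := h2.trans (Subgroup.orderOf_dvd_natCard _ ht)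
    have hnp : ¬ IsPGroup 2 (tor G a b) := fun hc => by
      obtain ⟨j, hj⟩ := hc.exists_card_eq
      rcases m.tor_cases hab hne with ⟨-, -, e⟩ | ⟨-, -, -, e⟩
      · exact hd (e ▸ hev) j (e ▸ hj)
      · exact hn (e ▸ hev) j (e ▸ hj)
    obtain ⟨w, w1, w2⟩ := m.exists_swap hab hne
    have two : ∀ v : G, v • a = b → v • b = a → ∃ P : Sylow 2 G, g ∈ P ∧ v ∈ P := by
      intro v v1 v2
      have hv : IsPGroup 2 (Subgroup.zpowers v) := by
        obtain ⟨k, -, hk⟩ := (Nat.dvd_prime_pow Nat.prime_two (m := 1)).1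
          (orderOf_dvd_of_pow_eq_one (by simpa [pow_two] using h.swap_mul_self hab v1 v2))
        exact isPGroup_zpowers ⟨k, hk⟩
      obtain ⟨P, hP⟩ := ((isPGroup_zpowers hg).to_sup_of_normal_left' hv (by
        rw [h.normalizer_eq_pairStab hab (Subgroup.zpowers_le.2 ht) (by simpa using g1),
          Subgroup.zpowers_le]
        exact mem_pairStab.2 (Or.inr ⟨v1, v2⟩))).exists_le_sylow
      exact ⟨P, hP (Subgroup.mem_sup_left (Subgroup.mem_zpowers g)),
        hP (Subgroup.mem_sup_right (Subgroup.mem_zpowers v))⟩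
    obtain ⟨P, gP, wP⟩ := two w w1 w2
    by_contra hc
    push Not at hc
    refine hnp (P.isPGroup'.to_le fun t ht' => ?_)
    obtain ⟨P', gP', wP'⟩ := two (w * t) (by rw [mul_smul, (mem_tor.1 ht').1, w1])
      (by rw [mul_smul, (mem_tor.1 ht').2, w2])
    have : P = P' := by
      by_contra hne'
      exact hc P P' hne' gP gP'
    subst this
    exact ((P : Subgroup G).mul_mem_cancel_left wP).1 wP'
  obtain ⟨Q⟩ : Nonempty (Sylow 2 G) := inferInstance
  refine ⟨Q, fun g hg => ?_⟩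
  obtain ⟨g', g1, hg', hh⟩ : ∃ g' : G, g' ≠ 1 ∧ (∃ k : ℕ, orderOf g' = 2 ^ k) ∧
      ∀ P : Sylow 2 G, g' ∈ P → g ∈ P := by
    by_cases e : g = 1
    · obtain ⟨t, ht⟩ := exists_prime_orderOf_dvd_card' 2 he
      exact ⟨t, fun e => by simp [e] at ht, ⟨1, by simpa using ht⟩,
        fun P _ => e ▸ (P : Subgroup G).one_mem⟩
    · exact ⟨g, e, hg, fun _ h => h⟩
  obtain ⟨P, P', hne, h1, h2⟩ := key g' g1 hg'
  by_cases e : P = Q
  · exact ⟨P', fun e' => hne (e.trans e'.symm), hh _ h2⟩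
  · exact ⟨P, e, hh _ h1⟩

open scoped MatrixGroups in
theorem psl {F : Type*} [Field F] [Fintype F] (r : ℕ) [Fact r.Prime] : Red r PSL(2, F) ↔
    (r = 2 ∧ (¬ ∃ k : ℕ, Fintype.card F + 1 = 2 ^ k) ∧ (¬ ∃ k : ℕ, Fintype.card F = 2 ^ k) ∧
        ¬ ∃ k : ℕ, Fintype.card F = 2 ^ k + 1) := by
  obtain ⟨p, hc⟩ := CharP.exists F
  haveI hp : Fact p.Prime := ⟨CharP.char_is_prime F p⟩
  obtain ⟨y, m⟩ := main_psl (F := F) p
  rw [Nat.card_eq_fintype_card] at m
  obtain ⟨e, e0, he⟩ := m.exists_pow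
  set q := Fintype.card F with hq
  by_cases hrp : r = p
  · refine iff_of_false (not_red_char m hrp) ?_
    rintro ⟨rfl, -, h, -⟩
    exact h ⟨e, hrp ▸ he⟩
  by_cases hr2 : r = 2
  swap
  · exact iff_of_false (not_red_of_cyclic fun P =>
      (hur_psl F p).isCyclic_of_isPGroup Fact.out hrp hr2 P.isPGroup') fun h => hr2 h.1
  subst hr2
  have hodd : Odd q := he ▸ (hp.out.odd_of_ne_two (Ne.symm hrp)).pow
  rw [gcd_two_of_odd hodd] at m
  obtain ⟨d, hd⟩ := hodd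
  have q2 := m.two_le
  rw [show (q - 1) / 2 = d by omega, show (q + 1) / 2 = d + 1 by omega] at m
  have hcard := m.card_eq
  have hA : ∀ j, d + 1 = 2 ^ (j + 1) → ¬ Red 2 PSL(2, F) := fun j hj => by
    obtain ⟨b, -, hab, -, ht⟩ := m.exists_nonsplit (mem_orbit_self y)
    refine not_red_two m hab (ht.trans hj) (c := q * d) (Odd.mul ⟨d, hd⟩ ?_) ?_
    · rw [pow_succ] at hj
      exact ⟨2 ^ j - 1, by omega⟩
    · rw [hcard, ← hj, hd]; ring
  constructor
  · intro hR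
    refine ⟨rfl, ?_, ?_, ?_⟩
    · rintro ⟨k, hk⟩
      rcases k with _ | _ | k
      · omega
      · omega
      · exact hA k (by rw [pow_succ] at hk; omega) hR
    · rintro ⟨k, hk⟩
      rcases k with _ | k
      · omega
      · rw [pow_succ] at hk; omega
    · rintro ⟨k, hk⟩
      rcases k with _ | _ | k
      · omega
      · exact hA 0 (by omega) hR
      · obtain ⟨b, -, hab, ht⟩ := m.exists_split
        have hj : d = 2 ^ (k + 1) := by rw [pow_succ] at hk; omega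
        refine not_red_two m hab (ht.trans hj) (c := q * (d + 1)) (Odd.mul ⟨d, hd⟩ ?_) ?_ hR
        · rw [pow_succ] at hj
          exact ⟨2 ^ k, by omega⟩
        · rw [hcard, ← hj, hd]; ring
  · rintro ⟨-, h1, -, h3⟩
    refine red_two m (Ne.symm hrp) ?_ (fun _ j hj => h3 ⟨j + 1, by rw [pow_succ]; omega⟩)
      (fun _ j hj => h1 ⟨j + 1, by rw [pow_succ]; omega⟩)
    rw [hcard, hd]
    exact Dvd.dvd.mul_right ⟨d + 1, by ring⟩ _

end H74.Red
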