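import Cfsg.Agent.H86.TP.Spec
import Cfsg.Agent.S2775

/-! Tower NF (S1308), chapter TE part 1: job GO (Goldschmidt's theorem). -/

set_option autoImplicit false

namespace H74.TPGo

open Cfsg Subgroup H14 H98 H1.Gold H31.S2 H14.GC H14.FE H14.NF H86.TP
open scoped commutatorElement

universe u

theorem go_comm {X : Type*} [Group X] (h : ∀ a : X, a * a = 1) (a b : X) : a * b = b * a := by
  have h1 : ∀ c : X, c⁻¹ = c := fun c => inv_eq_of_mul_eq_one_right (h c)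
  calc a * b = (a * b)⁻¹ := (h1 _).symm
    _ = b⁻¹ * a⁻¹ := mul_inv_rev a b
    _ = b * a := by rw [h1, h1]

theorem go_commEl {X : Type u} [Group X] {Y : Subgroup X} (h : El Y) {a b : X} (ha : a ∈ Y)
    (hb : b ∈ Y) : a * b = b * a := by
  have := go_comm (X := Y) (fun c => Subtype.ext (h c c.2)) ⟨a, ha⟩ ⟨b, hb⟩
  exact congrArg Subtype.val this

theorem core {G : Type u} [Group G] [Finite G] (Q T E F S : Subgroup G) (hQ : Q.Normal)
    (top : ∀ x : G, ∃ q ∈ Q, ∃ t ∈ T, x = q * t) (elT : El T) (disj : ∀ t ∈ T, t ∈ Q → t = 1)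
    (hEQ : E ≤ Q) (syl : IsSyl 2 S ⊤) (str : IsStronglyClosed F S) (el : El F) (hTF : T ≤ F)
    (hEF : E ≤ F) (dec : ∀ f ∈ F, ∃ r ∈ E, ∃ t ∈ T, f = r * t) (y : G)
    (hy : ∀ r ∈ E, r * y = y * r) (hon : ∀ r ∈ E, ∃ t ∈ T, ⁅t, y⁆ = r) :
    ∃ O : Subgroup G, O.Normal ∧ (Nat.card O).Coprime 2 ∧ O ≤ Q ∧
      ∀ e ∈ E, ∀ g : G, ∃ r ∈ E, ∃ o ∈ O, g * e * g⁻¹ = r * o := by
  let K : Subgroup G := normalClosure (F : Set G)
  have hKn : K.Normal := inferInstance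
  have hFK : F ≤ K := le_normalClosure
  have hN : (pPrimeCore 2 K).Normal := Subgroup.sSup_normal _ (fun _ h => h.1)
  let π := QuotientGroup.mk' (pPrimeCore 2 K)
  have hπ : Function.Surjective π := QuotientGroup.mk'_surjective _
  obtain ⟨h1, h2, ⟨T', -, h3⟩, -⟩ := Cfsg.Agent.S2775.result syl.toSylowTop F
    ⟨⟨fun a b => Subtype.ext (go_commEl el a.2 b.2)⟩⟩ str K rfl _ π hπ (QuotientGroup.ker_mk' _)
  have hO : (opp 2 K).Normal := by
    refine normalizer_eq_top_iff.1 (top_le_iff.1 ?_)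
    refine le_trans ?_ (normalizer_le_normalizer_opp K)
    exact (normalizer_eq_top K).ge
  have hcop := coprime_card_opp (p := 2) K
  let ρ := QuotientGroup.mk' (opp 2 K)
  let σ := QuotientGroup.mk' Q
  have eqv : ∀ a b : K, π a = π b ↔ ρ a = ρ b := by
    intro a b
    simp only [π, ρ, QuotientGroup.mk'_apply, QuotientGroup.eq]
    rw [← opp_subgroupOf, mem_subgroupOf]
    simp
  have hσ : ∀ x : G, σ x = 1 ↔ x ∈ Q := fun x => QuotientGroup.eq_one_iff x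
  have hsq : ∀ a : G ⧸ Q, a * a = 1 := by
    intro a
    obtain ⟨x, rfl⟩ := QuotientGroup.mk'_surjective Q a
    obtain ⟨q, hq, t, ht, rfl⟩ := top x
    change σ (q * t) * σ (q * t) = 1
    rw [map_mul, (hσ q).2 hq, one_mul, ← map_mul, elT t ht, map_one]
  have hOQ : ∀ o ∈ opp 2 K, σ o = 1 := by
    intro o ho
    have a1 : orderOf (σ o) ∣ 2 := orderOf_dvd_of_pow_eq_one (by rw [sq]; exact hsq _)
    have a2 : orderOf (σ o) ∣ Nat.card (opp 2 K) :=
      (orderOf_map_dvd σ o).trans (Subgroup.orderOf_dvd_natCard _ ho)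
    exact orderOf_eq_one_iff.1 (Nat.eq_one_of_dvd_coprimes hcop a2 a1)
  have hρσ : ∀ a b : G, ρ a = ρ b → σ a = σ b := by
    intro a b hab
    have := hOQ _ (QuotientGroup.eq.1 hab)
    rw [map_mul, map_inv, inv_mul_eq_one] at this
    exact this
  have hcomm : ∀ k ∈ commutator K, σ (k : G) = 1 := by
    have : commutator K ≤ (σ.comp K.subtype).ker := commutator_le.2 fun a _ b _ => by
      rw [MonoidHom.mem_ker, map_commutatorElement, commutatorElement_eq_one_iff_mul_comm]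
      exact go_comm hsq _ _
    exact fun k hk => this hk
  have hcm : commutator (K ⧸ pPrimeCore 2 K) = (commutator K).map π := by
    rw [_root_.commutator_def, _root_.commutator_def, map_commutator, map_top_of_surjective _ hπ]
  have hKρ : (K.map ρ).Normal := Normal.map inferInstance ρ (QuotientGroup.mk'_surjective _)
  let Z : Subgroup G := (centralizer (K.map ρ : Set (G ⧸ opp 2 K))).comap ρ
  have hZ : Z.Normal := inferInstance
  have memZ : ∀ f : K, π f ∈ center (K ⧸ pPrimeCore 2 K) ↔ (f : G) ∈ Z := by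
    intro f
    constructor
    · rintro hf _ ⟨k, hk, rfl⟩
      have := mem_center_iff.1 hf (π ⟨k, hk⟩)
      rw [← map_mul, ← map_mul, eqv] at this
      simpa using this
    · intro hf
      refine mem_center_iff.2 fun g => ?_
      obtain ⟨k, rfl⟩ := hπ g
      rw [← map_mul, ← map_mul, eqv]
      have := hf (ρ k) ⟨k, k.2, rfl⟩
      simpa using this
  have s3 : ∀ t ∈ T, ∃ r ∈ E, r * t ∈ Z := by
    intro t ht
    have htK : t ∈ K := hFK (hTF ht)
    have : π ⟨t, htK⟩ ∈ pCore 2 (K ⧸ pPrimeCore 2 K) ⊔ commutator (K ⧸ pPrimeCore 2 K) := by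
      rw [h1]; trivial
    obtain ⟨z, hz, c, hc, e⟩ := mem_sup_of_normal_right.1 this
    have hz' : z ∈ (F.subgroupOf K).map π := by rw [h3]; exact mem_sup_left hz
    obtain ⟨f, hf, rfl⟩ := hz'
    rw [hcm] at hc
    obtain ⟨k, hk, rfl⟩ := hc
    rw [← map_mul, eqv] at e
    have e2 := hρσ _ _ e
    obtain ⟨r, hr, t', ht', e3⟩ := dec f (mem_subgroupOf.1 hf)
    rw [coe_mul, map_mul, hcomm k hk, mul_one, e3, map_mul, (hσ r).2 (hEQ hr), one_mul] at e2
    have e4 : t'⁻¹ * t = 1 := disj _ (T.mul_mem (T.inv_mem ht') ht) (QuotientGroup.eq.1 e2)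
    rw [inv_mul_eq_one] at e4
    refine ⟨r, hr, ?_⟩
    rw [← e4, ← e3]
    exact (memZ f).1 (h2 hz)
  have s4 : ∀ r ∈ E, r ∈ Z := by
    intro r0 hr0
    obtain ⟨t, ht, rfl⟩ := hon r0 hr0
    obtain ⟨r, hr, hz⟩ := s3 t ht
    have c1 : r * t = t * r := go_commEl el (hEF hr) (hTF ht)
    have e : ⁅t, y⁆ = t * r * (y * (t * r)⁻¹ * y⁻¹) := by
      calc ⁅t, y⁆ = t * (y * r) * r⁻¹ * t⁻¹ * y⁻¹ := by rw [commutatorElement_def]; group
        _ = t * r * (y * (t * r)⁻¹ * y⁻¹) := by rw [← hy r hr]; group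
    rw [e, ← c1]
    exact Z.mul_mem hz (hZ.conj_mem _ (Z.inv_mem hz) y)
  have s5 : F ≤ Z := by
    intro f hf
    obtain ⟨r, hr, t, ht, rfl⟩ := dec f hf
    obtain ⟨r', hr', hz⟩ := s3 t ht
    have := Z.mul_mem (Z.inv_mem (s4 r' hr')) hz
    exact Z.mul_mem (s4 r hr) (by simpa using this)
  have s6 : K ≤ Z := normalClosure_le_normal s5
  have s7 : commutator (K ⧸ pPrimeCore 2 K) = ⊥ := by
    rw [eq_bot_iff]
    refine commutator_le.2 fun a _ b _ => ?_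
    obtain ⟨k, rfl⟩ := hπ b
    rw [mem_bot, commutatorElement_eq_one_iff_mul_comm]
    exact mem_center_iff.1 ((memZ k).2 (s6 k.2)) a
  refine ⟨opp 2 K, hO, hcop, fun o ho => (hσ o).1 (hOQ o ho), fun e he g => ?_⟩
  have hk : g * e * g⁻¹ ∈ K := hKn.conj_mem _ (hFK (hEF he)) g
  have : π ⟨_, hk⟩ ∈ (F.subgroupOf K).map π := by
    rw [h3]
    refine mem_sup_left ?_
    rw [s7, sup_bot_eq] at h1
    rw [h1]; trivial
  obtain ⟨f, hf, e1⟩ := this
  rw [eqv] at e1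
  have e2 : (f : G)⁻¹ * (g * e * g⁻¹) ∈ opp 2 K := QuotientGroup.eq.1 e1
  have e3 := hρσ _ _ e1
  obtain ⟨r, hr, t, ht, e4⟩ := dec f (mem_subgroupOf.1 hf)
  have e5 : σ (g * e * g⁻¹) = 1 := (hσ _).2 (hQ.conj_mem _ (hEQ he) g)
  change σ f = σ (g * e * g⁻¹) at e3
  rw [e5, e4, map_mul, (hσ r).2 (hEQ hr), one_mul, hσ] at e3
  rw [disj t ht e3, mul_one] at e4
  exact ⟨r, hr, _, e2, by rw [e4]; group⟩

theorem jobGO : JobGO.{u} := by
  intro G _ _ Q Q' T R E h str e he g hg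
  have nQ : T ≤ nor Q := h.syl.le.trans inf_le_right
  have hQ : Q ≤ Q ⊔ T := le_sup_left
  have hT : T ≤ Q ⊔ T := le_sup_right
  have hRQ : R ≤ Q := h.sylR.le
  have hER : E ≤ R := h.ltP.le
  have hR : R ≤ Q ⊔ T := hRQ.trans hQ
  have hE : E ≤ Q ⊔ T := hER.trans hR
  have cET : ∀ r ∈ E, ∀ t ∈ T, t * r = r * t := fun r hr t ht => by
    have : r ∈ R ⊓ cen T := h.eq ▸ hr
    exact mem_centralizer_iff.1 this.2 t ht
  have elF : El (E ⊔ T) := fun f hf => by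
    obtain ⟨r, hr, t, ht, rfl⟩ := (h.memF f).1 hf
    calc r * t * (r * t) = r * (t * r) * t := by group
      _ = (r * r) * (t * t) := by rw [cET r hr t ht]; group
      _ = 1 := by rw [h.el t ht, h.elE r hr, one_mul]
  have syl : IsSyl 2 (R ⊔ T) (Q ⊔ T) := by
    refine ⟨sup_le hR hT, IsPGroup.to_sup_of_normal_left' h.sylR.isPGroup h.syl.isPGroup h.norR, ?_⟩
    intro U hU hle hU2
    have e : U ⊓ Q = R := h.sylR.eq_of_le (hU.to_le inf_le_left)
      (le_inf (le_sup_left.trans hle) hRQ) inf_le_right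
    refine le_antisymm (fun x hx => ?_) hle
    obtain ⟨q, hq, t, ht, rfl⟩ := (mem_sup_right_norm nQ).1 (hU2 hx)
    have htU : t ∈ U := hle (mem_sup_right ht)
    have hqU : q ∈ U := by simpa using mul_mem hx (inv_mem htU)
    have : q ∈ R := e ▸ (⟨hqU, hq⟩ : q ∈ U ⊓ Q)
    exact mul_mem (mem_sup_left this) (mem_sup_right ht)
  obtain ⟨y, hyR, hyE⟩ := SetLike.exists_of_lt h.ltP
  have hQn := (normal_subgroupOf_iff_le_normalizer hQ).2 (sup_le le_normalizer nQ)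
  obtain ⟨O, hO, hc, hOQ, hm⟩ := core (Q.subgroupOf (Q ⊔ T)) (T.subgroupOf (Q ⊔ T))
    (E.subgroupOf (Q ⊔ T)) ((E ⊔ T).subgroupOf (Q ⊔ T)) ((R ⊔ T).subgroupOf (Q ⊔ T)) hQn
    (fun x => by
      obtain ⟨q, hq, t, ht, e⟩ := (mem_sup_right_norm nQ).1 x.2
      exact ⟨⟨q, hQ hq⟩, hq, ⟨t, hT ht⟩, ht, Subtype.ext e⟩)
    (fun a ha => Subtype.ext (h.el _ ha)) (fun t ht hq => Subtype.ext (h.dis _ ht hq))
    (fun _ hx => hRQ (hER hx)) syl.subgroupOf_top
    ⟨fun _ hx => (sup_le_sup_right hER T) hx, fun x hx g hg => str _ hx _ g.2 hg⟩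
    (fun a ha => Subtype.ext (elF _ ha)) (fun _ hx => mem_sup_right hx) (fun _ hx => mem_sup_left hx)
    (fun f hf => by
      obtain ⟨r, hr, t, ht, e⟩ := (h.memF f).1 hf
      exact ⟨⟨r, hE hr⟩, hr, ⟨t, hT ht⟩, ht, Subtype.ext e⟩)
    ⟨y, hR hyR⟩ (fun r hr => Subtype.ext (mem_centralizer_iff.1 (h.cenE hyR) _ hr))
    (fun r hr => by
      obtain ⟨t, ht, e⟩ := h.onto y hyR hyE r hr
      exact ⟨⟨t, hT ht⟩, ht, Subtype.ext e⟩)
  obtain ⟨r, hr, o, ho, e1⟩ := hm ⟨e, hE he⟩ he ⟨g, hQ hg⟩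
  have hle : O.map (Q ⊔ T).subtype ≤ opp 2 Q := by
    refine le_opp ?_ (hQ.trans (H98.le_normalizer_map_subtype O)) ?_
    · rintro _ ⟨x, hx, rfl⟩
      exact hOQ hx
    · exact Nat.Coprime.coprime_dvd_left (card_map_dvd _ _) hc
  have e2 : g * e * g⁻¹ = r * o := congrArg Subtype.val e1
  rw [e2]
  exact mul_mem (mem_sup_left hr) (mem_sup_right (hle ⟨o, ho, rfl⟩))

end H74.TPGo
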